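import Cfsg.Agent.Lib.J4Type.FusedCases
import Cfsg.Agent.Lib.J4Type.Cert.Oval
import Cfsg.Agent.Lib.J4Type.Cert.Orbits
import Cfsg.Agent.Lib.Invol.BrauerSuzuki
import Cfsg.Agent.Lib.Solvable.PCore

/-!
The central involution is not isolated in the subgroup of order `2 ^ 11`, and it is not conjugate
to the larger class of singular elements of the radical.
-/

set_option autoImplicit false

universe u

namespace CfsgLib.J4Type

open Cfsg

/-- The subgroup of the centraliser of elements whose matrix commutes with the central one. -/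
def zeroCent {G : Type u} [Group G] [Finite G] {z : G} {P : Subgroup G} (F : Frame z P) :
    Subgroup G where
  carrier := {h | h ∈ Cen z ∧ mm (F.mat h) sZero = mm sZero (F.mat h)}
  one_mem' := ⟨one_mem _, by
    have hg : Good sZero := (sylList_inL _ (by decide +kernel : sZero ∈ sylList)).good
    rw [F.mat_one', mm_idM' hg, mm_idM_right hg]⟩
  mul_mem' := fun {a b} ha hb => ⟨mul_mem ha.1 hb.1, by
    rw [F.mat_mul a ha.1 b hb.1, mm_assoc', hb.2, ← mm_assoc', ha.2, mm_assoc']⟩
  inv_mem' := fun {a} ha => ⟨inv_mem ha.1, by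
    have hg : Good sZero := (sylList_inL _ (by decide +kernel : sZero ∈ sylList)).good
    refine F.mat_cancel ha.1 (good_mm (F.good_mat (inv_mem ha.1)) hg)
      (good_mm hg (F.good_mat (inv_mem ha.1))) ?_
    rw [← mm_assoc', F.mat_mul_inv ha.1, mm_idM' hg, ← mm_assoc', ha.2, mm_assoc',
      F.mat_mul_inv ha.1, mm_idM_right hg]⟩

theorem perp_one {v : ℕ} (hv : v < 4096) (h : ∀ w < 4096, bF w 1 = false → bF v w = false) :
    v = 0 ∨ v = 1 := by
  have hc : ((List.range 4096).all fun v => Nat.beq v 0 || Nat.beq v 1 ||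
      (List.range 12).any (fun i => !bF (2 ^ i) 1 && bF v (2 ^ i))) = true := by decide +kernel
  simp only [List.all_eq_true, List.mem_range, Bool.or_eq_true, List.any_eq_true,
    Bool.and_eq_true, Bool.not_eq_true'] at hc
  rcases hc v hv with (e | e) | ⟨i, hi, hi1, hi2⟩
  · exact .inl (Nat.eq_of_beq_eq_true e)
  · exact .inr (Nat.eq_of_beq_eq_true e)
  · rw [h _ (Nat.pow_lt_pow_right one_lt_two hi) hi1] at hi2
    exact Bool.noConfusion hi2

variable {G : Type u} [Group G] [Finite G] {z : G} {P : Subgroup G}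

namespace Frame

variable (F : Frame z P)
include F

/-- Every non-identity member of the upper radical is conjugate to the first one. -/
theorem qList_conj {n : List ℕ} (hn : n ∈ qList) (h1 : n ≠ idM) :
    ∃ h ∈ Cen z, mm (F.mat h) (qList.getD 1 idM) = mm n (F.mat h) := by
  have horb := qOrbit_ok
  simp only [List.all_eq_true, Bool.and_eq_true, beq_iff_eq] at horb
  have key : ∀ (l : List (ℕ × ℕ × ℕ)), (∀ t ∈ l, t ∈ qOrbit) → ∀ acc : List ℕ,
      (∀ k ∈ acc, ∃ h ∈ Cen z,
        mm (F.mat h) (qList.getD 1 idM) = mm (qList.getD k idM) (F.mat h)) →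
      ∀ k ∈ l.foldl (fun acc t => if acc.contains t.2.1 then t.1 :: acc else acc) acc, ∃ h ∈ Cen z,
        mm (F.mat h) (qList.getD 1 idM) = mm (qList.getD k idM) (F.mat h) := by
    intro l
    induction l with
    | nil => exact fun _ acc h => h
    | cons t l ih =>
      intro hl acc hacc
      refine ih (fun s hs => hl s (List.mem_cons_of_mem _ hs)) _ ?_
      intro k hk
      dsimp only at hk
      split_ifs at hk with hc
      · rcases List.mem_cons.1 hk with rfl | hk
        · obtain ⟨hj, he⟩ := horb t (hl t (List.mem_cons_self ..))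
          have hj' : t.2.2 < 3 := Nat.le_of_ble_eq_true hj
          have hg : InL (gensL.getD t.2.2 idM) := by
            have hm : gensL.getD t.2.2 idM ∈ gensL := by
              generalize t.2.2 = j at hj'
              interval_cases j <;> simp [gensL]
            have := InL.mul _ hm InL.one
            rwa [mm_idM_right (good_gen hm)] at this
          obtain ⟨a, ha, ham⟩ := F.mat_surj _ hg
          obtain ⟨h, hh, hhm⟩ := hacc _ (List.contains_iff_mem.1 hc)
          have hac : a ∈ Cen z := (Subgroup.mem_inf.1 ha).1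
          refine ⟨a * h, mul_mem hac hh, ?_⟩
          rw [F.mat_mul a hac h hh, mm_assoc', hhm, ← mm_assoc', ham, he, mm_assoc']
        · exact hacc k hk
      · exact hacc k hk
  have hall := qOrbit_all
  simp only [Bool.and_eq_true, List.all_eq_true, List.mem_range, Bool.or_eq_true, beq_iff_eq,
    List.contains_iff_mem] at hall
  obtain ⟨k, hk, hke⟩ := List.getElem_of_mem hn
  have hkD : n = qList.getD k idM := by
    rw [List.getD_eq_getElem?_getD, List.getElem?_eq_getElem hk, Option.getD_some, hke]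
  have hk16 : k < 16 := hk
  rcases hall.1 k hk16 with h | h
  · rw [Nat.eq_of_beq_eq_true h, hall.2] at hkD
    exact absurd hkD h1
  · rw [hkD]
    refine key qOrbit (fun _ ht => ht) [1] ?_ k h
    intro j hj
    rw [List.mem_singleton] at hj
    subst hj
    exact ⟨1, one_mem _, by
      have hg : Good (qList.getD 1 idM) :=
        (sylList_inL _ (qList_facts (qList_getD (by norm_num))).2.2.1).good
      rw [F.mat_one', mm_idM' hg, mm_idM_right hg]⟩

/-- A linear involution of the centraliser is conjugate to one over the central matrix. -/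
theorem conj_to_sZero {t : G} (ht : t ∈ Cen z) (h2 : t * t = 1) (hne : t ∉ Rad z)
    (hlin : mm (F.mat t) pOm = mm pOm (F.mat t)) :
    ∃ h ∈ Cen z, F.mat (h * t * h⁻¹) = sZero := by
  have hp : IsPGroup 2 (Subgroup.zpowers t) := IsPGroup.of_card (n := 1) (by
    rw [Nat.card_zpowers, pow_one]
    exact orderOf_eq_prime (by rw [pow_two, h2]) fun h => hne (h ▸ one_mem _))
  obtain ⟨h, hh, hmap⟩ := F.exists_conj_T₀ (Subgroup.zpowers_le.2 ht) hp
  have hhc : h ∈ Cen z := (Subgroup.mem_inf.1 hh).1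
  have hj := hmap t (Subgroup.mem_zpowers t)
  have hjc := F.T₀_le_cen hj
  have hjl := F.lin_conj hhc ht hlin
  have hjne : F.mat (h * t * h⁻¹) ≠ idM := fun e => hne (by
    have := conj_rad (inv_mem hhc) ((F.mat_eq_id _ hjc).1 e)
    simpa [mul_assoc] using this)
  have hj2 : mm (F.mat (h * t * h⁻¹)) (F.mat (h * t * h⁻¹)) = idM :=
    F.mat_invol hjc (by
      rw [show h * t * h⁻¹ * (h * t * h⁻¹) = h * (t * t) * h⁻¹ by group, h2, mul_one,
        mul_inv_cancel])
  have hall := invWords_all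
  simp only [List.all_eq_true, Bool.or_eq_true, List.any_eq_true, Bool.not_eq_true',
    Bool.and_eq_false_iff, beq_iff_eq, beq_eq_false_iff_ne, Bool.not_eq_false'] at hall
  obtain ⟨w, hw, hwe⟩ : ∃ w ∈ invWords, sylList.getD w.1 idM = F.mat (h * t * h⁻¹) := by
    rcases hall _ (F.mem_T₀.1 hj).2 with ((e | e) | e) | e
    · exact absurd hj2 e
    · exact absurd e hjne
    · exact absurd hjl e
    · exact e
  have hok := invWords_ok
  simp only [List.all_eq_true, Bool.and_eq_true, List.any_eq_true, beq_iff_eq] at hok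
  obtain ⟨hwl, n, hn, hwn⟩ := hok w hw
  rw [hwe] at hwn
  obtain ⟨a, ha, ham⟩ := F.mat_surj _ (inX_wordM hwl).toInL
  have hac : a ∈ Cen z := (Subgroup.mem_inf.1 ha).1
  have hng : Good n := (sylList_inL _ (qList_facts hn).2.2.1).good
  have hn1 : n ≠ idM := by
    intro e
    rw [e, ← ham, mm_idM' (F.good_mat hac)] at hwn
    exact hjne (F.mat_cancel hac (F.good_mat hjc) good_idM
      (hwn.trans (mm_idM_right (F.good_mat hac)).symm))
  have hs : sZero ∈ qList ∧ sZero ≠ idM := by
    have h := sZero_ok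
    simp only [Bool.and_eq_true, List.contains_iff_mem, Bool.not_eq_true',
      beq_eq_false_iff_ne] at h
    exact ⟨h.1.1.1.1, h.1.1.1.2⟩
  obtain ⟨b, hb, hbm⟩ := F.qList_conj hn hn1
  obtain ⟨c, hc, hcm⟩ := F.qList_conj hs.1 hs.2
  refine ⟨c * b⁻¹ * (a * h), mul_mem (mul_mem hc (inv_mem hb)) (mul_mem hac hhc), ?_⟩
  have e1 : F.mat (a * (h * t * h⁻¹) * a⁻¹) = n :=
    F.mat_conj hac hjc hng (by rw [ham]; exact hwn)
  have hq1 : Good (qList.getD 1 idM) :=
    (sylList_inL _ (qList_facts (qList_getD (by norm_num))).2.2.1).good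
  have hx := mul_mem (mul_mem hac hjc) (inv_mem hac)
  have e2 : F.mat (b⁻¹ * (a * (h * t * h⁻¹) * a⁻¹) * b⁻¹⁻¹) = qList.getD 1 idM := by
    refine F.mat_conj (inv_mem hb) hx hq1 ?_
    refine F.mat_cancel hb (good_mm (F.good_mat (inv_mem hb)) (F.good_mat hx))
      (good_mm hq1 (F.good_mat (inv_mem hb))) ?_
    rw [← mm_assoc', F.mat_mul_inv hb, ← mm_assoc', hbm, mm_assoc', F.mat_mul_inv hb,
      mm_idM' (F.good_mat hx), mm_idM_right hng, e1]
  rw [show c * b⁻¹ * (a * h) * t * (c * b⁻¹ * (a * h))⁻¹ =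
    c * (b⁻¹ * (a * (h * t * h⁻¹) * a⁻¹) * b⁻¹⁻¹) * c⁻¹ by group]
  exact F.mat_conj hc (mul_mem (mul_mem (inv_mem hb) hx) (inv_mem (inv_mem hb)))
    (sylList_inL _ (qList_facts hs.1).2.2.1).good (by rw [e2]; exact hcm)

theorem T₀_le_zeroCent : F.T₀ ≤ zeroCent F := fun h hh => by
  obtain ⟨hc, hs⟩ := F.mem_T₀.1 hh
  have hok := sZero_ok
  simp only [Bool.and_eq_true, List.all_eq_true, beq_iff_eq] at hok
  exact ⟨hc, (hok.1.1.2 _ hs).symm⟩

theorem exists_conj_zeroCent {K : Subgroup G} (hK : K ≤ zeroCent F) (hp : IsPGroup 2 K) :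
    ∃ h ∈ zeroCent F, ∀ k ∈ K, h * k * h⁻¹ ∈ F.T₀ := by
  classical
  have : Fact (Nat.Prime 2) := ⟨Nat.prime_two⟩
  set C := zeroCent F with hC
  have hT := F.T₀_le_zeroCent
  have hp0 : IsPGroup 2 (F.T₀.subgroupOf C) :=
    F.isPGroup_T₀.comap_of_injective C.subtype Subtype.val_injective
  obtain ⟨S, hS⟩ := hp0.exists_le_sylow
  have hSeq : F.T₀.subgroupOf C = (S : Subgroup C) := by
    refine Subgroup.eq_of_le_of_card_ge hS ?_
    rw [Nat.card_congr (Subgroup.subgroupOfEquivOfLe hT).toEquiv, F.card_T₀]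
    obtain ⟨n, hn⟩ := S.isPGroup'.exists_card_eq
    have hd : 2 ^ n ∣ 2 ^ 13 * 3 * 887040 := by
      rw [← hn, ← F.card_cen]
      exact (Subgroup.card_subgroup_dvd_card (S : Subgroup C)).trans
        (Subgroup.card_dvd_of_le fun x hx => hx.1)
    rw [hn]
    refine Nat.pow_le_pow_right (by norm_num) ?_
    by_contra hlt
    have h22 : 2 ^ 22 ∣ 2 ^ 13 * 3 * 887040 := (pow_dvd_pow 2 (by omega)).trans hd
    norm_num at h22
  obtain ⟨S', hS'⟩ := IsPGroup.exists_le_sylow
    (hp.comap_of_injective C.subtype Subtype.val_injective : IsPGroup 2 (K.comap C.subtype))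
  obtain ⟨g, hg⟩ := MulAction.exists_smul_eq C S' S
  refine ⟨g.1, g.2, fun k hk => ?_⟩
  have h1 : g * ⟨k, hK hk⟩ * g⁻¹ ∈ (S : Subgroup C) := by
    rw [← hg, Sylow.smul_def]
    exact ⟨⟨k, hK hk⟩, hS' hk, by simp⟩
  rw [← hSeq] at h1
  exact h1

end Frame

namespace Stray

variable {t g : G} (S : Stray z t g) (F : Frame z P)
include S F

theorem no_outer (hout : mm (F.mat t) pOm ≠ mm pOm (F.mat t)) : False := by
  obtain ⟨h, hh, hmap⟩ := F.exists_conj_T₀ (K := Cen z ⊓ radAt z g) inf_le_left (S.isPGroup_act F)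
  have hhc : h ∈ Cen z := (Subgroup.mem_inf.1 hh).1
  refine (S.conj_stray F hhc).no_outer_syl F ?_ ?_
  · intro d hdc hd
    have hk : h⁻¹ * d * h ∈ Cen z ⊓ radAt z g := by
      refine ⟨show h⁻¹ * d * h ∈ Cen z from mul_mem (mul_mem (inv_mem hhc) hdc) hhc, ?_⟩
      show h⁻¹ * d * h ∈ radAt z g
      rw [mem_radAt] at hd ⊢
      convert hd using 1
      group
    convert hmap _ hk using 1
    group
  · intro hc
    apply hout
    have := F.lin_conj (inv_mem hhc) (S.conj_stray F hhc).mem hc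
    rwa [show h⁻¹ * (h * t * h⁻¹) * h⁻¹⁻¹ = t by group] at this

/-- A linear one is conjugate in the centraliser into the subgroup of order `2 ^ 11`. -/
theorem inner_into_Vp (hlin : mm (F.mat t) pOm = mm pOm (F.mat t)) :
    ∃ h ∈ Cen z, h * t * h⁻¹ ∈ F.Vp := by
  obtain ⟨h₁, hh₁, hm₁⟩ := F.conj_to_sZero S.mem (S.sq_t F) S.notin hlin
  have S₁ := S.conj_stray F hh₁
  obtain ⟨h₂, hh₂, hmap⟩ := F.exists_conj_zeroCent (K := Cen z ⊓ radAt z (h₁ * g))
    (fun d hd => by
      refine ⟨hd.1, ?_⟩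
      rw [← hm₁]
      exact S₁.act_comm F ((mem_actSet F).2 ⟨d, hd.1, hd.2, rfl⟩))
    (S₁.isPGroup_act F)
  have S₂ := S₁.conj_stray F hh₂.1
  set t₂ := h₂ * (h₁ * t * h₁⁻¹) * h₂⁻¹ with ht₂
  have hs : Good sZero := (sylList_inL _ (by decide +kernel : sZero ∈ sylList)).good
  have hm₂ : F.mat t₂ = sZero :=
    F.mat_conj hh₂.1 S₁.mem hs (by rw [hm₁]; exact hh₂.2)
  have hT : ∀ d ∈ Cen z, d ∈ radAt z (h₂ * (h₁ * g)) → d ∈ F.T₀ := by
    intro d hdc hd
    have hk : h₂⁻¹ * d * h₂ ∈ Cen z ⊓ radAt z (h₁ * g) := by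
      refine ⟨show h₂⁻¹ * d * h₂ ∈ Cen z from mul_mem (mul_mem (inv_mem hh₂.1) hdc) hh₂.1, ?_⟩
      show h₂⁻¹ * d * h₂ ∈ radAt z (h₁ * g)
      rw [mem_radAt] at hd ⊢
      convert hd using 1
      group
    convert hmap _ hk using 1
    group
  have hsq : sZero ∈ qList := by decide +kernel
  obtain ⟨v, hv, hmv⟩ := F.exists_root hsq
  have hvV := F.root_mem_Vp hv (hmv ▸ hsq)
  set e := t₂ * v⁻¹ with he
  have her : e ∈ Rad z := by
    have := (F.mat_eq_iff hv.1 S₂.mem).1 (hmv.trans hm₂.symm)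
    have := conj_rad hv.1 this
    rwa [mul_inv_cancel_left] at this
  have htev : t₂ = e * v := by rw [he, inv_mul_cancel_right]
  by_cases hbad : ∃ c ∈ cZero, bF (F.co e) c = true
  · obtain ⟨c, hc, hb⟩ := hbad
    exact (S₂.no_inner_syl F hT hm₂ her hv hmv htev hc hb).elim
  refine ⟨h₂ * h₁, mul_mem hh₂.1 hh₁, ?_⟩
  rw [show h₂ * h₁ * t * (h₂ * h₁)⁻¹ = t₂ by rw [ht₂]; group, htev]
  refine mul_mem (F.Wp_le_Vp (F.mem_Wp.2 ⟨her, ?_⟩)) hvV
  have hv2 := F.root_sq hv (hmv ▸ hsq)
  have hfix : mv sZero (F.co e) = F.co e := by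
    have h2 := S₂.sq_t F
    rw [htev] at h2
    have h1 : e * (v * e * v⁻¹) = 1 := by
      rw [inv_eq_of_mul_eq_one_right hv2, ← mul_assoc, ← mul_assoc, mul_assoc (e * v)]
      exact h2
    rw [← hmv, ← F.conj v hv.1 e her, eq_inv_of_mul_eq_one_right h1, F.co_inv' her]
  have hp := sZero_perp
  simp only [List.all_eq_true, List.mem_range, Bool.or_eq_true, List.any_eq_true,
    Bool.not_eq_true'] at hp
  rcases hp (F.co e) (F.co_lt e her) with (h | h) | h
  · rw [hfix, Nat.beq_refl] at h
    exact Bool.noConfusion h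
  · exact absurd h hbad
  · exact Nat.le_of_ble_eq_true h

end Stray

/-- If no other element of `V` is conjugate to the central involution, it is isolated. -/
theorem isolated_of_V (F : Frame z P) (D : VData F) (hV : ∀ u ∈ D.V, IsConj z u → u = z) :
    IsIsolatedInvolution z := by
  have hweak : ∀ x ∈ Rad z, IsConj z x → x = z := by
    intro x hx hc
    obtain ⟨c, hc'⟩ := isConj_iff.1 hc
    have h2 : x * x = 1 := by
      rw [← hc', show c * z * c⁻¹ * (c * z * c⁻¹) = c * (z * z) * c⁻¹ by group, F.z_sq, mul_one,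
        mul_inv_cancel]
    have hq : qF (F.co x) = false := by
      have h := F.sq x hx
      rw [h2] at h
      cases hq : qF (F.co x)
      · rfl
      · rw [hq] at h; exact absurd h.symm F.z_ne_one
    obtain ⟨m, hm, w, hw, hmw⟩ := singular_to_plane (F.co_lt x hx) hq
    obtain ⟨h, hh, hhm⟩ := F.mat_surj m hm.toInL
    have hhc : h ∈ Cen z := (Subgroup.mem_inf.1 hh).1
    have hy : h⁻¹ * x * h ∈ Rad z := by
      simpa using conj_rad (inv_mem hhc) hx
    have hco : F.co (h⁻¹ * x * h) = w := by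
      have e := F.conj h⁻¹ (inv_mem hhc) x hx
      rw [inv_inv] at e
      rw [e, ← hmw, ← hhm, ← mv_mm', F.mat_inv_mul hhc, mv_idM' (by omega)]
    have hyV : h⁻¹ * x * h ∈ D.V := (D.rad _ hy).2 (hco ▸ hw)
    have := hV _ hyV (hc.trans (isConj_iff.2 ⟨h⁻¹, by group⟩))
    have e : x = h * z * h⁻¹ := by rw [← this]; group
    rw [e, mem_cen.1 hhc, mul_inv_cancel_right]
  refine ⟨F.orderOf_z', fun g hg => ?_⟩
  by_contra hne
  have hmem : g * z * g⁻¹ ∈ Cen z := mem_cen.2 hg.eq.symm
  have hnot : g * z * g⁻¹ ∉ Rad z := fun h => hne (hweak _ h (isConj_iff.2 ⟨g, rfl⟩))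
  have S : Stray z (g * z * g⁻¹) g := ⟨hweak, rfl, hmem, hnot⟩
  by_cases hlin : mm (F.mat (g * z * g⁻¹)) pOm = mm pOm (F.mat (g * z * g⁻¹))
  · obtain ⟨h, hh, hV'⟩ := S.inner_into_Vp F hlin
    obtain ⟨k, hk⟩ := D.conj F.Vp F.elem_Vp F.card_Vp
    have hz : z ∈ F.Vp := F.z_mem_Vp
    rw [hk] at hV' hz
    obtain ⟨u, hu, hue⟩ := hV'
    obtain ⟨v, hv, hve⟩ := hz
    simp only [MulEquiv.coe_toMonoidHom, MulAut.conj_apply] at hue hve
    have hvz : v = z := hV v hv (isConj_iff.2 ⟨k⁻¹, by
      calc k⁻¹ * z * k⁻¹⁻¹ = k⁻¹ * (k * v * k⁻¹) * k⁻¹⁻¹ := by rw [hve]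
        _ = v := by group⟩)
    have huz : u = z := hV u hu (isConj_iff.2 ⟨k⁻¹ * (h * g), by
      calc k⁻¹ * (h * g) * z * (k⁻¹ * (h * g))⁻¹ = k⁻¹ * (h * (g * z * g⁻¹) * h⁻¹) * k := by group
        _ = k⁻¹ * (k * u * k⁻¹) * k := by rw [hue]
        _ = u := by group⟩)
    rw [hvz] at hve
    rw [huz, hve] at hue
    apply hne
    calc g * z * g⁻¹ = h⁻¹ * (h * (g * z * g⁻¹) * h⁻¹) * h := by group
      _ = h⁻¹ * z * h := congrArg (fun y => h⁻¹ * y * h) hue.symm
      _ = z := by rw [mul_assoc, ← mem_cen.1 hh, inv_mul_cancel_left]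
  · exact S.no_outer F hlin

theorem ne_isolated_V [IsSimpleGroup G] (hG : ¬ IsMulCommutative G) (F : Frame z P)
    (D : VData F) : ∃ u ∈ D.V, u ≠ z ∧ IsConj z u := by
  by_contra hcon
  push Not at hcon
  have hiso := isolated_of_V F D fun u hu hc => by_contra fun hne => hcon u hu hne hc
  have hker := CfsgLib.Invol.zstar G hiso
  have hn : (oddCore G).Normal := CfsgLib.Solvable.pPrimeCore_normal 2 _
  have hbot : oddCore G = ⊥ := by
    rcases IsSimpleGroup.eq_bot_or_eq_top_of_normal _ hn with h | h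
    · exact h
    exfalso
    have hcop : (Nat.card ↥(oddCore G)).Coprime 2 := CfsgLib.Solvable.pPrimeCore_coprime 2
    rw [h, Subgroup.card_top] at hcop
    have hd : 2 ∣ Nat.card G := F.orderOf_z' ▸ orderOf_dvd_natCard z
    exact absurd (Nat.eq_one_of_dvd_coprimes hcop hd dvd_rfl) (by norm_num)
  have hcen : z ∈ Subgroup.center G := Subgroup.mem_center_iff.2 fun g => by
    have h := hker g
    rw [hbot, Subgroup.mem_bot] at h
    calc g * z = 1 * (g * z) := (one_mul _).symm
      _ = z * g * z⁻¹ * g⁻¹ * (g * z) := by rw [h]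
      _ = z * g := by group
  rcases IsSimpleGroup.eq_bot_or_eq_top_of_normal (Subgroup.center G) inferInstance with h | h
  · rw [h, Subgroup.mem_bot] at hcen
    exact F.z_ne_one hcen
  · refine hG ⟨⟨fun a b => ?_⟩⟩
    exact ((Subgroup.mem_center_iff.1 (h ▸ Subgroup.mem_top a)) b).symm

theorem not_oval_class (F : Frame z P) {x : G} (hx : x ∈ Rad z) (hxc : F.co x = 1) :
    ¬ IsConj z x := by
  classical
  haveI := Fintype.ofFinite G
  intro hconj
  obtain ⟨g, hg⟩ := isConj_iff.1 hconj
  have hxC := rad_le_cen' hx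
  have hxz : x ≠ z := fun e => by rw [e, F.co_z'] at hxc; exact absurd hxc (by norm_num)
  have big : ∀ y ∈ Rad z,
      2 ^ 12 ≤ ((Rad z : Set G).toFinset.filter fun e => e * y = y * e).card := by
    intro y hy
    set E := (Rad z : Set G).toFinset with hE
    set C := E.filter fun e => e * y = y * e with hC
    have hEc : E.card = 2 ^ 13 := by rw [← F.card_rad, hE]; exact (Nat.card_eq_card_toFinset _).symm
    have hJ : E.image (fun e => e * y * e⁻¹ * y⁻¹) ⊆ {1, z} := by
      intro a ha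
      obtain ⟨e, he, rfl⟩ := Finset.mem_image.1 ha
      simp only [hE, Set.mem_toFinset, SetLike.mem_coe] at he
      simp only [Finset.mem_insert, Finset.mem_singleton]
      rcases F.mul_or_z he hy with h | h <;> rw [h]
      · exact .inl (by group)
      · exact .inr (by group)
    have hfib : ∀ a ∈ E.image (fun e => e * y * e⁻¹ * y⁻¹),
        (E.filter fun e => e * y * e⁻¹ * y⁻¹ = a).card ≤ C.card := by
      intro a ha
      obtain ⟨x₀, hx₀, rfl⟩ := Finset.mem_image.1 ha
      refine Finset.card_le_card_of_injOn (fun e => x₀⁻¹ * e) ?_ fun a _ b _ h => mul_left_cancel h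
      intro e he
      simp only [Finset.coe_filter, hE, Set.mem_toFinset, SetLike.mem_coe, Set.mem_setOf_eq]
        at he hx₀
      simp only [hC, hE, Finset.coe_filter, Set.mem_toFinset, SetLike.mem_coe, Set.mem_setOf_eq]
      refine ⟨mul_mem (inv_mem hx₀) he.1, ?_⟩
      have e' : e * y * e⁻¹ = x₀ * y * x₀⁻¹ := mul_right_cancel he.2
      calc x₀⁻¹ * e * y = x₀⁻¹ * (e * y * e⁻¹) * e := by group
        _ = x₀⁻¹ * (x₀ * y * x₀⁻¹) * e := by rw [e']
        _ = y * (x₀⁻¹ * e) := by group
    have h := Finset.card_le_mul_card_image E C.card hfib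
    have := (Finset.card_le_card hJ).trans Finset.card_le_two
    have := Nat.mul_le_mul_left C.card this
    rw [hEc] at h
    omega
  have hback : g⁻¹ * x * g = z := by rw [← hg]; group
  have hxat : x ∈ radAt z g := by rw [mem_radAt, hback]; exact F.z_mem_rad'
  have hnorm : ∀ e ∈ Cen z, e * x = x * e → ∀ k ∈ radAt z g, e * k * e⁻¹ ∈ radAt z g := by
    intro e _ hec k hk
    rw [mem_radAt] at hk ⊢
    have hc : g⁻¹ * e * g ∈ Cen z := by
      rw [mem_cen]
      calc g⁻¹ * e * g * z = g⁻¹ * (e * x) * g := by rw [← hg]; group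
        _ = g⁻¹ * (x * e) * g := by rw [hec]
        _ = z * (g⁻¹ * e * g) := by rw [← hg]; group
    have := conj_rad hc hk
    convert this using 1
    group
  -- the central involution lies in the radical at `x`
  have hzat : z ∈ radAt z g := by
    by_contra hz
    set C := (Rad z : Set G).toFinset.filter fun e => e * x = x * e with hC
    have hCm : ∀ e, e ∈ C ↔ e ∈ Rad z ∧ e * x = x * e := fun e => by simp [hC]
    have hK : (C.filter fun e => e ∈ radAt z g).card ≤ 2 := by
      refine le_trans (Finset.card_le_card_of_injOn (t := ({0, 1} : Finset ℕ)) F.co ?_ ?_)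
        Finset.card_le_two
      · intro k hk
        simp only [Finset.coe_filter, hCm, Set.mem_setOf_eq] at hk
        simp only [Finset.coe_insert, Finset.coe_singleton, Set.mem_insert_iff,
          Set.mem_singleton_iff]
        have horth : ∀ v < 4096, bF v 1 = false → bF (F.co k) v = false := by
          intro v hv hv1
          obtain ⟨e, he, rfl⟩ := F.co_surj v hv
          have hex : e * x = x * e := (F.comm_iff he hx).2 (by rw [hxc]; exact hv1)
          refine (F.comm_iff hk.1.1 he).1 ?_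
          rcases F.mul_or_z hk.1.1 he with h | h
          · exact h
          · exfalso
            have h1 := mul_mem hk.2 (hnorm e (rad_le_cen' he) hex _ (inv_mem hk.2))
            have : k * (e * k⁻¹ * e⁻¹) = z := by
              rw [show k * (e * k⁻¹ * e⁻¹) = k * e * (k⁻¹ * e⁻¹) by group, h]
              group
            rw [this] at h1
            exact hz h1
        exact perp_one (F.co_lt k hk.1.1) horth
      · intro a ha b hb e
        simp only [Finset.coe_filter, hCm, Set.mem_setOf_eq] at ha hb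
        rcases F.eq_of_co ha.1.1 hb.1.1 e with h | h
        · exact h
        · exfalso
          apply hz
          have : z = a * b⁻¹ := by rw [h, mul_inv_cancel_right]
          have hm := mul_mem ha.2 (inv_mem hb.2)
          rwa [← this] at hm
    set B : Subgroup G := (Rad z ⊓ Subgroup.centralizer ({x} : Set G)).map
      (MulAut.conj g⁻¹).toMonoidHom with hB
    have hBc : B ≤ Cen z := by
      rintro _ ⟨e, he, rfl⟩
      have h := Subgroup.mem_centralizer_singleton_iff.1 he.2
      simp only [MulEquiv.coe_toMonoidHom, MulAut.conj_apply, inv_inv]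
      rw [mem_cen]
      calc g⁻¹ * e * g * z = g⁻¹ * (e * x) * g := by rw [← hg]; group
        _ = g⁻¹ * (x * e) * g := by rw [h]
        _ = z * (g⁻¹ * e * g) := by rw [← hg]; group
    have hBp : IsPGroup 2 B :=
      ((IsPGroup.of_card F.card_rad : IsPGroup 2 (Rad z)).to_le inf_le_left).map _
    obtain ⟨h, hh, hmap⟩ := F.exists_conj_T₀ hBc hBp
    have hhc : h ∈ Cen z := (Subgroup.mem_inf.1 hh).1
    have hlow : 2 ^ 12 ≤ C.card := big x hx
    have hlen : sylList.length = 256 := by
      have h := sylTree_ok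
      generalize sylList.length = n at h ⊢
      rw [Bool.and_eq_true] at h
      exact Nat.eq_of_beq_eq_true h.2
    have hcount : C.card ≤ 2 * 256 := by
      refine le_trans ?_ (Nat.mul_le_mul hK (le_of_eq (rfl : (256 : ℕ) = 256)))
      refine le_trans ?_ (Nat.mul_le_mul_left _ (le_trans (List.toFinset_card_le sylList)
        hlen.le))
      set f : G → List ℕ := fun e => F.mat (h * (g⁻¹ * e * g) * h⁻¹) with hf
      have hfm : ∀ e ∈ C, g⁻¹ * e * g ∈ Cen z ∧ f e ∈ sylList.toFinset := by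
        intro e he
        obtain ⟨he, hex⟩ := (hCm e).1 he
        have hb : g⁻¹ * e * g ∈ B :=
          ⟨e, ⟨he, Subgroup.mem_centralizer_singleton_iff.2 hex⟩, by simp⟩
        exact ⟨hBc hb, List.mem_toFinset.2 (F.mem_T₀.1 (hmap _ hb)).2⟩
      have hsub : C.image f ⊆ sylList.toFinset := fun m hm => by
        obtain ⟨e, he, rfl⟩ := Finset.mem_image.1 hm
        exact (hfm e he).2
      refine le_trans (Finset.card_le_mul_card_image C (C.filter fun e => e ∈ radAt z g).card ?_)
        (Nat.mul_le_mul_left _ (Finset.card_le_card hsub))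
      intro m hm
      obtain ⟨e₀, he₀, rfl⟩ := Finset.mem_image.1 hm
      refine Finset.card_le_card_of_injOn (fun e => e₀⁻¹ * e) ?_ fun a _ b _ h => mul_left_cancel h
      intro e he
      simp only [Finset.coe_filter, Set.mem_setOf_eq] at he ⊢
      obtain ⟨heR, hex⟩ := (hCm e).1 he.1
      obtain ⟨he0R, he0x⟩ := (hCm e₀).1 he₀
      refine ⟨(hCm _).2 ⟨mul_mem (inv_mem he0R) heR, ?_⟩, ?_⟩
      · exact ((Commute.inv_left (show Commute e₀ x from he0x)).mul_left
          (show Commute e x from hex)).eq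
      · have hc0 := mul_mem (mul_mem hhc (hfm e₀ he₀).1) (inv_mem hhc)
        have hc1 := mul_mem (mul_mem hhc (hfm e he.1).1) (inv_mem hhc)
        have := conj_rad (inv_mem hhc) ((F.mat_eq_iff hc0 hc1).1 he.2.symm)
        rw [mem_radAt]
        convert this using 1
        group
    omega
  -- the radical at `x` gives a too large normal two-subgroup of the stabiliser
  let θ : Cen z →* Cert.LGrp :=
    MonoidHom.mk' (fun h => ⟨F.mat h.1, F.mat_inL h.1 h.2⟩)
      fun a b => Cert.LGrp.ext (F.mat_mul a.1 a.2 b.1 b.2)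
  set N : Subgroup Cert.LGrp := ((radAt z g).subgroupOf (Cen z)).map θ with hN
  have hradp : IsPGroup 2 (radAt z g) :=
    (IsPGroup.of_card F.card_rad : IsPGroup 2 (Rad z)).comap_of_injective _
      (MulAut.conj g⁻¹).injective
  have hNp : IsPGroup 2 N :=
    (hradp.comap_of_injective (Cen z).subtype Subtype.val_injective).map θ
  have hcomm : ∀ d ∈ radAt z g, d * x = x * d := by
    intro d hd
    have h := rad_le_cen' (mem_radAt.1 hd)
    rw [mem_cen] at h
    calc d * x = g * (g⁻¹ * d * g * z) * g⁻¹ := by rw [← hg]; group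
      _ = g * (z * (g⁻¹ * d * g)) * g⁻¹ := by rw [h]
      _ = x * d := by rw [← hg]; group
  have hle : Nat.card N ≤ 16 := by
    refine Cert.oval_normal_le ?_ ?_ hNp
    · rintro _ ⟨d, hd, rfl⟩
      show mv (F.mat d.1) 1 = 1
      have hcd : (d : G) * x = x * d := hcomm d.1 hd
      rw [← hxc, ← F.conj d.1 d.2 x hx, hcd, mul_inv_cancel_right]
    · intro s hs n hn
      obtain ⟨d, hd, rfl⟩ := hn
      obtain ⟨h, hh, hhm⟩ := F.mat_surj s.1 s.2
      have hhc : h ∈ Cen z := (Subgroup.mem_inf.1 hh).1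
      have hco : F.co (h * x * h⁻¹) = F.co x := by rw [F.conj h hhc x hx, hhm, hxc, hs]
      obtain ⟨h', hh'c, hh'x, hh'm⟩ :
          ∃ h' ∈ Cen z, h' * x = x * h' ∧ F.mat h' = s.1 := by
        rcases F.eq_of_co (conj_rad hhc hx) hx hco with e | e
        · exact ⟨h, hhc, mul_inv_eq_iff_eq_mul.1 e, hhm⟩
        · obtain ⟨w, hw, hwb⟩ := exists_pairing (v := 1) (by norm_num) (by norm_num)
          obtain ⟨a, ha, rfl⟩ := F.co_surj w hw
          refine ⟨a * h, mul_mem (rad_le_cen' ha) hhc, ?_, ?_⟩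
          · have e' : h * x = z * x * h := mul_inv_eq_iff_eq_mul.1 e
            have hza : a * z = z * a := mem_cen.1 (rad_le_cen' ha)
            rcases F.mul_or_z ha hx with h' | h'
            · exfalso
              have := (F.comm_iff ha hx).1 h'
              rw [hxc, bF_symm, hwb] at this
              exact Bool.noConfusion this
            · calc a * h * x = a * (z * x * h) := by rw [mul_assoc, e']
                _ = a * z * x * h := by group
                _ = z * (a * x) * h := by rw [hza]; group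
                _ = z * (z * (x * a)) * h := by rw [h']
                _ = (z * z) * (x * (a * h)) := by group
                _ = x * (a * h) := by rw [F.z_sq, one_mul]
          · rw [F.mat_mul a (rad_le_cen' ha) h hhc, F.mat_rad ha, mm_idM' (F.good_mat hhc), hhm]
      have e : s = θ ⟨h', hh'c⟩ := Cert.LGrp.ext hh'm.symm
      rw [e, ← map_inv, ← map_mul, ← map_mul]
      exact ⟨_, hnorm h' hh'c hh'x _ hd, rfl⟩
  -- the lower bound
  have hz' : g⁻¹ * z * g ∈ Rad z := mem_radAt.1 hzat
  set K := (Rad z ⊓ radAt z g : Subgroup G) with hKdef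
  have hKsq : ∀ k ∈ K, k * k = 1 := by
    intro k hk
    have h1 := F.sq k hk.1
    cases hq : qF (F.co k)
    · rw [hq] at h1; exact h1
    · exfalso
      rw [hq, if_pos rfl] at h1
      have h2 := F.sq _ (mem_radAt.1 hk.2)
      rw [show g⁻¹ * k * g * (g⁻¹ * k * g) = g⁻¹ * (k * k) * g by group, h1] at h2
      cases hq2 : qF (F.co (g⁻¹ * k * g))
      · rw [hq2] at h2
        exact F.z_ne_one (by
          calc z = g * (g⁻¹ * z * g) * g⁻¹ := by group
            _ = 1 := by rw [h2]; simp)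
      · rw [hq2, if_pos rfl] at h2
        apply hxz
        rw [← hg]
        calc g * z * g⁻¹ = g * (g⁻¹ * z * g) * g⁻¹ := by rw [h2]
          _ = z := by group
  set I : Finset ℕ := (K : Set G).toFinset.image F.co with hIdef
  have hI : ∀ v, v ∈ I ↔ ∃ k ∈ K, F.co k = v := fun v => by simp [hIdef]
  have hI64 : I.card ≤ 64 := by
    refine iso_card ?_ ?_ ?_
    · intro v hv
      obtain ⟨k, hk, rfl⟩ := (hI v).1 hv
      exact F.co_lt k hk.1
    · intro a ha b hb
      obtain ⟨k, hk, rfl⟩ := (hI a).1 ha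
      obtain ⟨l, hl, rfl⟩ := (hI b).1 hb
      exact (hI _).2 ⟨k * l, mul_mem hk hl, F.co_mul k hk.1 l hl.1⟩
    · intro a ha b hb
      obtain ⟨k, hk, rfl⟩ := (hI a).1 ha
      obtain ⟨l, hl, rfl⟩ := (hI b).1 hb
      refine (F.comm_iff hk.1 hl.1).1 ?_
      have h1 := hKsq k hk
      have h2 := hKsq l hl
      have h3 := hKsq _ (mul_mem hk hl)
      calc k * l = (k * l)⁻¹ := (inv_eq_of_mul_eq_one_right h3).symm
        _ = l⁻¹ * k⁻¹ := mul_inv_rev _ _
        _ = l * k := by rw [inv_eq_of_mul_eq_one_right h1, inv_eq_of_mul_eq_one_right h2]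
  set D : Finset G := ((Rad z : Set G).toFinset.filter
    fun e => e * (g⁻¹ * z * g) = g⁻¹ * z * g * e).image (fun e => g * e * g⁻¹) with hDdef
  have hDm : ∀ d ∈ D, d ∈ Cen z ∧ d ∈ radAt z g := by
    intro d hd
    obtain ⟨e, he, rfl⟩ := Finset.mem_image.1 hd
    simp only [Finset.mem_filter, Set.mem_toFinset, SetLike.mem_coe] at he
    refine ⟨mem_cen.2 ?_, ?_⟩
    · calc g * e * g⁻¹ * z = g * (e * (g⁻¹ * z * g)) * g⁻¹ := by group
        _ = g * (g⁻¹ * z * g * e) * g⁻¹ := by rw [he.2]
        _ = z * (g * e * g⁻¹) := by group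
    · rw [mem_radAt, show g⁻¹ * (g * e * g⁻¹) * g = e by group]
      exact he.1
  have hD : 2 ^ 12 ≤ D.card := by
    rw [hDdef, Finset.card_image_of_injective _ fun a b h => mul_left_cancel (mul_right_cancel h)]
    exact big _ hz'
  have hDN : D.card ≤ 128 * Nat.card N := by
    have hfib : ∀ m ∈ D.image F.mat, (D.filter fun d => F.mat d = m).card ≤ 2 * I.card := by
      intro m hm
      obtain ⟨d₀, hd₀, rfl⟩ := Finset.mem_image.1 hm
      refine le_trans (Finset.card_le_card_of_injOn (t := (K : Set G).toFinset)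
        (fun d => d₀⁻¹ * d) ?_ fun a _ b _ h => mul_left_cancel h) ?_
      · intro d hd
        simp only [Finset.coe_filter, Set.mem_setOf_eq] at hd
        simp only [Set.coe_toFinset, SetLike.mem_coe]
        exact ⟨(F.mat_eq_iff (hDm d₀ hd₀).1 (hDm d hd.1).1).1 hd.2.symm,
          show d₀⁻¹ * d ∈ radAt z g from mul_mem (inv_mem (hDm d₀ hd₀).2) (hDm d hd.1).2⟩
      · refine Finset.card_le_mul_card_image _ 2 fun v hv => ?_
        obtain ⟨k, hk, rfl⟩ := (hI v).1 hv
        refine le_trans (Finset.card_le_card (t := {k, z * k}) fun y hy => ?_) Finset.card_le_two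
        simp only [Finset.mem_filter, Set.mem_toFinset, SetLike.mem_coe] at hy
        rcases F.eq_of_co hy.1.1 hk.1 hy.2 with rfl | rfl <;> simp
    have himg : (D.image F.mat).card ≤ Nat.card N := by
      rw [← Nat.card_eq_finsetCard]
      refine Nat.card_le_card_of_injective
        (fun m => (⟨⟨m.1, ?_⟩, ?_⟩ : N)) fun a b h => Subtype.ext
          (congrArg (fun n : N => (n.1 : Cert.LGrp).1) h)
      · obtain ⟨d, hd, e⟩ := Finset.mem_image.1 m.2
        exact e ▸ F.mat_inL d (hDm d hd).1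
      · obtain ⟨d, hd, e⟩ := Finset.mem_image.1 m.2
        exact ⟨⟨d, (hDm d hd).1⟩, (hDm d hd).2, Cert.LGrp.ext e⟩
    refine le_trans (Finset.card_le_mul_card_image D (2 * I.card) hfib) ?_
    exact Nat.mul_le_mul (by omega) himg
  omega

theorem fused_exists [IsSimpleGroup G] (hG : ¬ IsMulCommutative G) {F : Frame z P}
    (D : VData F) : Fused D :=
  ⟨ne_isolated_V hG F D, fun _ hx hc => not_oval_class F hx hc⟩

end CfsgLib.J4Type
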