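import Cfsg.Agent.Lib.J4Type.PlaneV

/-!
Uniqueness of the elementary abelian subgroup of order `2 ^ 11`, and the data `VData`.
-/

set_option autoImplicit false

namespace CfsgLib.J4Type

open Cfsg
open scoped Pointwise

variable {G : Type*} [Group G] [Finite G] {z : G} {P : Subgroup G}

namespace Frame

variable (F : Frame z P)
include F

/-- The image of an abelian subgroup of `T₀` of exponent two modulo the radical is trivial, the
upper radical, or small compared with any set of vectors it fixes. -/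
theorem image_cases {K : Subgroup G} (hK : K ≤ F.T₀) (hsq : ∀ k ∈ K, k * k ∈ Rad z)
    (hcomm : ∀ a ∈ K, ∀ b ∈ K, mm (F.mat a) (F.mat b) = mm (F.mat b) (F.mat a)) :
    ∀ M : Finset (List ℕ), (∀ m, m ∈ M ↔ ∃ k ∈ K, F.mat k = m) →
      M = {idM} ∨ M = qList.toFinset ∨
        ∀ I : Finset ℕ, (∀ x ∈ I, x < 4096) → (∀ k ∈ K, ∀ x ∈ I, mv (F.mat k) x = x) →
          I.card * M.card < 1024 := by
  classical
  intro M hM
  let D : Finset ℕ := (Finset.range 72).filter fun a => iv a ∈ M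
  have hD : ∀ a, a ∈ D ↔ a < 72 ∧ iv a ∈ M := fun a => by simp [D]
  have hMD : ∀ m ∈ M, ∃ a ∈ D, iv a = m := by
    intro m hm
    obtain ⟨k, hk, rfl⟩ := (hM m).1 hm
    obtain ⟨hc, hs⟩ := F.mem_T₀.1 (hK hk)
    obtain ⟨a, ha, hae⟩ := iv_facts.2.2.2 _ hs (by
      rw [← F.mat_mul k hc k hc, F.mat_rad (hsq k hk)])
    exact ⟨a, (hD a).2 ⟨ha, hae ▸ hm⟩, hae⟩
  have h1M : idM ∈ M := (hM _).2 ⟨1, one_mem _, F.mat_one'⟩
  have h0D : 0 ∈ D := (hD 0).2 ⟨by norm_num, iv_facts.1.symm ▸ h1M⟩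
  have hclosed : ∀ a ∈ D, ∀ b ∈ D, tb a b ∈ D := by
    intro a ha b hb
    obtain ⟨la, ma⟩ := (hD a).1 ha
    obtain ⟨lb, mb⟩ := (hD b).1 hb
    obtain ⟨ka, hka, ea⟩ := (hM _).1 ma
    obtain ⟨kb, hkb, eb⟩ := (hM _).1 mb
    obtain ⟨h1, h2⟩ := tb_spec la lb (by rw [← ea, ← eb]; exact hcomm ka hka kb hkb)
    refine (hD _).2 ⟨h1, (hM _).2 ⟨ka * kb, mul_mem hka hkb, ?_⟩⟩
    rw [F.mat_mul ka (F.T₀_le_cen (hK hka)) kb (F.T₀_le_cen (hK hkb)), ea, eb, h2]
  have hcardM : M.card ≤ D.card := by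
    refine le_trans (Finset.card_le_card (t := D.image iv) fun m hm => ?_) Finset.card_image_le
    obtain ⟨a, ha, rfl⟩ := hMD m hm
    exact Finset.mem_image_of_mem _ ha
  have key := elemOK_sound 128 [] [0] [] _ elem_all (List.mem_singleton.2 rfl) D hclosed
    (fun a ha => ((hD a).1 ha).1) (by simp) (by simpa using h0D) (by simp) (fun x hx => by
      rcases Nat.eq_zero_or_pos x with rfl | h
      · exact .inl (List.mem_singleton.2 rfl)
      · refine .inr (List.mem_map.2 ⟨x - 1, List.mem_range.2 ?_, by omega⟩)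
        have := ((hD x).1 hx).1
        omega)
  rcases key with h | h | h
  · refine .inl (Finset.eq_singleton_iff_unique_mem.2 ⟨h1M, fun m hm => ?_⟩)
    obtain ⟨a, ha, rfl⟩ := hMD m hm
    rw [Finset.card_le_one.1 h a ha 0 h0D, iv_facts.1]
  · refine .inr (.inl (Finset.ext fun m => ?_))
    rw [List.mem_toFinset]
    constructor
    · intro hm
      obtain ⟨a, ha, rfl⟩ := hMD m hm
      rw [h, List.mem_toFinset] at ha
      exact (iv_facts.2.1 a ha).2
    · intro hm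
      obtain ⟨a, ha, rfl⟩ := iv_facts.2.2.1 m hm
      exact ((hD a).1 (by rw [h, List.mem_toFinset]; exact ha)).2
  · refine .inr (.inr fun I hI hfix => ?_)
    refine lt_of_le_of_lt (Nat.mul_le_mul_left _ hcardM) (h I hI fun a ha x hx => ?_)
    obtain ⟨k, hk, e⟩ := (hM _).1 ((hD a).1 ha).2
    rw [← e]
    exact hfix k hk x hx

theorem rad_image_small {K : Subgroup G} (hsq : ∀ k ∈ K, k * k = 1) (I : Finset ℕ)
    (hI : ∀ v, v ∈ I ↔ ∃ x ∈ K, x ∈ Rad z ∧ F.co x = v) : I.card < 1024 := by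
  classical
  have hlt : ∀ v ∈ I, v < 4096 := by
    intro v hv
    obtain ⟨x, -, hx, rfl⟩ := (hI v).1 hv
    exact F.co_lt x hx
  have hxor : ∀ u ∈ I, ∀ v ∈ I, u ^^^ v ∈ I := by
    intro u hu v hv
    obtain ⟨x, hxK, hxR, rfl⟩ := (hI u).1 hu
    obtain ⟨y, hyK, hyR, rfl⟩ := (hI v).1 hv
    exact (hI _).2 ⟨x * y, mul_mem hxK hyK, mul_mem hxR hyR, F.co_mul x hxR y hyR⟩
  have hq : ∀ u ∈ I, qF u = false := by
    intro u hu
    obtain ⟨x, hxK, hxR, rfl⟩ := (hI u).1 hu
    have h := F.sq x hxR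
    rw [hsq x hxK] at h
    cases hq : qF (F.co x)
    · rfl
    · rw [hq] at h; exact absurd h.symm F.z_ne_one
  by_contra hbig
  obtain ⟨hm, hlen⟩ := Bool.and_eq_true _ _ ▸ minusFour_ok
  simp only [List.all_eq_true, Bool.and_eq_true, Bool.or_eq_true] at hm
  have h1 : (Finset.range 4096).card * 3 < (I ×ˢ minusFour.toFinset).card := by
    rw [Finset.card_product, List.toFinset_card_of_nodup minusFour_nodup, Finset.card_range,
      Nat.eq_of_beq_eq_true hlen]
    omega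
  obtain ⟨w, -, hw⟩ := Finset.exists_lt_card_fiber_of_mul_lt_card_of_maps_to
    (f := fun p : ℕ × ℕ => p.1 ^^^ p.2) (fun p hp => by
      simp only [Finset.mem_product, List.mem_toFinset] at hp
      exact Finset.mem_range.2 (xor_lt (hlt _ hp.1) (Nat.le_of_ble_eq_true (hm _ hp.2).1))) h1
  have hpair : ∀ p ∈ (I ×ˢ minusFour.toFinset).filter (fun p => p.1 ^^^ p.2 = w),
      ∀ q ∈ (I ×ˢ minusFour.toFinset).filter (fun p => p.1 ^^^ p.2 = w),
        (p.2 ^^^ q.2 ∈ minusFour ∧ qF (p.2 ^^^ q.2) = false) ∧ (p ≠ q → p.2 ≠ q.2) := by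
    intro p hp q hq'
    simp only [Finset.mem_filter, Finset.mem_product, List.mem_toFinset] at hp hq'
    refine ⟨⟨List.contains_iff_mem.1 ((hm _ hp.1.2).2 _ hq'.1.2).1, ?_⟩,
      fun hne h => hne (Prod.ext ?_ h)⟩
    · have : p.2 ^^^ q.2 = p.1 ^^^ q.1 := by
        have e := hp.2.trans hq'.2.symm
        calc p.2 ^^^ q.2 = p.1 ^^^ (p.1 ^^^ p.2) ^^^ q.2 := by
              rw [← Nat.xor_assoc p.1, Nat.xor_self, Nat.zero_xor]
          _ = p.1 ^^^ (q.1 ^^^ q.2) ^^^ q.2 := by rw [e]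
          _ = p.1 ^^^ q.1 := by
              rw [Nat.xor_assoc p.1, Nat.xor_assoc q.1, Nat.xor_self, Nat.xor_zero]
      rw [this]
      exact hq _ (hxor _ hp.1.1 _ hq'.1.1)
    · have e := hp.2.trans hq'.2.symm
      rw [h] at e
      exact Nat.xor_left_injective e
  obtain ⟨p, hp, q, hq', r, hr, hpq, hpr, hqr⟩ :=
    Finset.two_lt_card.1 (lt_of_lt_of_le (by norm_num : 2 < 4) hw)
  obtain ⟨⟨mu, qu⟩, nu⟩ := hpair p hp q hq'
  obtain ⟨⟨mv', qv⟩, nv⟩ := hpair p hp r hr
  obtain ⟨⟨-, quv⟩, nuv⟩ := hpair q hq' r hr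
  have hx : p.2 ^^^ q.2 ^^^ (p.2 ^^^ r.2) = q.2 ^^^ r.2 := by
    rw [Nat.xor_comm p.2 q.2, Nat.xor_assoc, ← Nat.xor_assoc p.2, Nat.xor_self, Nat.zero_xor]
  rcases ((hm _ mu).2 _ mv').2 with ((((h | h) | h) | h) | h) | h
  · exact nu hpq (Nat.xor_eq_zero_iff.1 (Nat.eq_of_beq_eq_true h))
  · exact nv hpr (Nat.xor_eq_zero_iff.1 (Nat.eq_of_beq_eq_true h))
  · exact nuv hqr (Nat.xor_right_injective (Nat.eq_of_beq_eq_true h))
  · rw [qu] at h; exact Bool.noConfusion h
  · rw [qv] at h; exact Bool.noConfusion h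
  · rw [hx, quv] at h; exact Bool.noConfusion h

/-- Every elementary abelian subgroup of order `2 ^ 11` of `T₀` is `Vp`. -/
theorem eq_Vp {K : Subgroup G} (hK : K ≤ F.T₀) (he : IsElementaryAbelian 2 K)
    (hcard : Nat.card K = 2 ^ 11) : K = F.Vp := by
  classical
  have hsq : ∀ k ∈ K, k * k = 1 := fun k hk => by rw [← pow_two]; exact he.2 k hk
  have hcomm : ∀ a ∈ K, ∀ b ∈ K, a * b = b * a := fun a ha b hb => by
    have := he.1.1.1 (⟨a, ha⟩ : K) ⟨b, hb⟩
    exact congrArg Subtype.val this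
  haveI := Fintype.ofFinite G
  set M : Finset (List ℕ) := (K : Set G).toFinset.image F.mat with hMdef
  have hM : ∀ m, m ∈ M ↔ ∃ k ∈ K, F.mat k = m := fun m => by simp [hMdef]
  set KR : Finset G := (K : Set G).toFinset.filter fun x => x ∈ Rad z with hKRdef
  have hKR : ∀ x, x ∈ KR ↔ x ∈ K ∧ x ∈ Rad z := fun x => by simp [hKRdef]
  set I : Finset ℕ := KR.image F.co with hIdef
  have hI : ∀ v, v ∈ I ↔ ∃ x ∈ K, x ∈ Rad z ∧ F.co x = v := fun v => by
    simp [hIdef, hKR, and_assoc]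
  have hcardK : 2 ^ 11 ≤ M.card * (2 * I.card) := by
    have h1 : Nat.card K = (K : Set G).toFinset.card :=
      (Nat.card_eq_card_finite_toFinset (K : Set G).toFinite).trans (by rw [Set.toFinite_toFinset])
    rw [← hcard, h1]
    have hfib : ∀ m ∈ M, ((K : Set G).toFinset.filter fun k => F.mat k = m).card ≤ 2 * I.card := by
      intro m hm
      obtain ⟨k, hk, rfl⟩ := (hM m).1 hm
      refine le_trans (Finset.card_le_card_of_injOn (t := KR) (fun x => k⁻¹ * x) ?_
        fun a _ b _ h => mul_left_cancel h) ?_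
      · intro x hx
        simp only [Finset.coe_filter, Set.mem_toFinset, SetLike.mem_coe, Set.mem_setOf_eq] at hx
        exact (hKR _).2 ⟨mul_mem (inv_mem hk) hx.1,
          (F.mat_eq_iff (F.T₀_le_cen (hK hk)) (F.T₀_le_cen (hK hx.1))).1 hx.2.symm⟩
      · refine Finset.card_le_mul_card_image KR 2 fun v hv => ?_
        obtain ⟨x, hxK, hxR, rfl⟩ := (hI v).1 hv
        refine le_trans (Finset.card_le_card (t := {x, z * x}) fun y hy => ?_) Finset.card_le_two
        rw [Finset.mem_filter] at hy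
        rcases F.eq_of_co ((hKR y).1 hy.1).2 hxR hy.2 with rfl | rfl <;> simp
    rw [mul_comm]
    exact Finset.card_le_mul_card_image _ (2 * I.card) hfib
  have hIlt : ∀ x ∈ I, x < 4096 := by
    intro v hv
    obtain ⟨x, -, hx, rfl⟩ := (hI v).1 hv
    exact F.co_lt x hx
  have hIfix : ∀ k ∈ K, ∀ v ∈ I, mv (F.mat k) v = v := by
    intro k hk v hv
    obtain ⟨x, hxK, hxR, rfl⟩ := (hI v).1 hv
    rw [← F.conj k (F.T₀_le_cen (hK hk)) x hxR, hcomm k hk x hxK, mul_inv_cancel_right]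
  have hMQ : M = qList.toFinset := by
    rcases F.image_cases hK (fun k hk => by rw [hsq k hk]; exact one_mem _)
        (fun a ha b hb => by
          rw [← F.mat_mul a (F.T₀_le_cen (hK ha)) b (F.T₀_le_cen (hK hb)),
            ← F.mat_mul b (F.T₀_le_cen (hK hb)) a (F.T₀_le_cen (hK ha)), hcomm a ha b hb]) M hM
      with h | h | h
    · have := F.rad_image_small hsq I hI
      rw [h, Finset.card_singleton] at hcardK
      omega
    · exact h
    · have := h I hIlt hIfix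
      rw [mul_comm I.card] at this
      rw [← mul_assoc, mul_comm M.card 2, mul_assoc] at hcardK
      omega
  have hplane : ∀ v ∈ I, v < 64 := fun v hv => plane_of_fixed (hIlt v hv) fun m hm => by
    obtain ⟨k, hk, rfl⟩ := (hM m).1 (by rw [hMQ, List.mem_toFinset]; exact hm)
    exact hIfix k hk v hv
  have hI64 : I = Finset.range 64 := by
    refine Finset.eq_of_subset_of_card_le (fun v hv => Finset.mem_range.2 (hplane v hv)) ?_
    rw [hMQ, List.toFinset_card_of_nodup qList_nodup, show qList.length = 16 from rfl] at hcardK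
    rw [Finset.card_range]
    omega
  have hsub : ∀ w ∈ F.Wp, ∀ k ∈ K, k * w = w * k := by
    intro w hw k hk
    obtain ⟨x, hxK, hxR, hxe⟩ := (hI (F.co w)).1 (by rw [hI64]; exact Finset.mem_range.2 hw.2)
    rcases F.eq_of_co hw.1 hxR hxe.symm with rfl | rfl
    · exact hcomm k hk w hxK
    · rw [← mul_assoc, mem_cen.1 (F.T₀_le_cen (hK hk)), mul_assoc, hcomm k hk x hxK, mul_assoc]
  refine Subgroup.eq_of_le_of_card_ge (fun k hk => F.mem_Vp.2 ⟨F.T₀_le_cen (hK hk),
    List.mem_toFinset.1 (hMQ ▸ (hM _).2 ⟨k, hk, rfl⟩), fun w hw => (hsub w hw k hk).symm⟩)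
    (le_of_eq (F.card_Vp.trans hcard.symm))

theorem z_mem_Vp : z ∈ F.Vp :=
  F.Wp_le_Vp (F.mem_Wp.2 ⟨F.z_mem_rad', by rw [F.co_z']; norm_num⟩)

theorem cent_Vp : Subgroup.centralizer (F.Vp : Set G) ≤ F.Vp := by
  classical
  intro g hg
  rw [Subgroup.mem_centralizer_iff] at hg
  have hgc : g ∈ Cen z := mem_cen.2 (hg z F.z_mem_Vp).symm
  have hfix : ∀ y < 64, mv (F.mat g) y = y := by
    intro y hy
    obtain ⟨w, hw, rfl⟩ := F.co_surj y (by omega)
    rw [← F.conj g hgc w hw, ← hg w (F.Wp_le_Vp ⟨hw, hy⟩), mul_inv_cancel_right]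
  have hlift : ∀ m ∈ qList, ∃ v ∈ F.Vp, F.mat v = m := fun m hm => by
    obtain ⟨v, hv, e⟩ := F.exists_root hm
    exact ⟨v, F.root_mem_Vp hv (e ▸ hm), e⟩
  -- the subgroup generated by `V` and `g` maps onto an abelian group of exponent two
  let S : Subgroup G :=
    { carrier := {k | k ∈ Cen z ∧ (∀ y < 64, mv (F.mat k) y = y) ∧
        ∀ v ∈ F.Vp, mm (F.mat k) (F.mat v) = mm (F.mat v) (F.mat k)}
      one_mem' := ⟨one_mem _, fun y hy => by rw [F.mat_one', mv_idM' (by omega)], fun v hv => by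
        rw [F.mat_one', mm_idM' (F.good_mat hv.1), mm_idM_right (F.good_mat hv.1)]⟩
      mul_mem' := fun {a b} ha hb => ⟨mul_mem ha.1 hb.1, fun y hy => by
          rw [F.mat_mul a ha.1 b hb.1, mv_mm', hb.2.1 y hy, ha.2.1 y hy],
        fun v hv => by
          rw [F.mat_mul a ha.1 b hb.1, mm_assoc', hb.2.2 v hv, ← mm_assoc', ha.2.2 v hv, mm_assoc']⟩
      inv_mem' := fun {a} ha => by
        have h2 := F.mat_sq_of_fix_plane ha.1 ha.2.1
        have : F.mat a⁻¹ = F.mat a :=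
          F.mat_cancel ha.1 (F.good_mat (inv_mem ha.1)) (F.good_mat ha.1)
            (by rw [F.mat_mul_inv ha.1, h2])
        exact ⟨inv_mem ha.1, fun y hy => by rw [this]; exact ha.2.1 y hy,
          fun v hv => by rw [this]; exact ha.2.2 v hv⟩ }
  have hSsq : ∀ k ∈ S, k * k ∈ Rad z := fun k hk =>
    (F.mat_eq_id _ (mul_mem hk.1 hk.1)).1 (by
      rw [F.mat_mul k hk.1 k hk.1]; exact F.mat_sq_of_fix_plane hk.1 hk.2.1)
  have hVS : F.Vp ≤ S := fun v hv => ⟨hv.1, fun y hy => qList_fix hv.2.1 hy, fun w hw =>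
    ((qList_facts hv.2.1).2.1 _ hw.2.1).2⟩
  have hgS : g ∈ S := ⟨hgc, hfix, fun v hv => by
    rw [← F.mat_mul g hgc v hv.1, ← F.mat_mul v hv.1 g hgc, hg v hv]⟩
  have hSp : IsPGroup 2 S := by
    intro k
    obtain ⟨n, hn⟩ : ∃ n : ℕ, ((k : G) * k) ^ 2 ^ n = 1 := by
      refine ⟨13, ?_⟩
      rw [← F.card_rad]
      exact congrArg Subtype.val (pow_card_eq_one' (x := (⟨_, hSsq k.1 k.2⟩ : Rad z)))
    exact ⟨n + 1, Subtype.ext (by rw [SubgroupClass.coe_pow, pow_succ', pow_mul, pow_two, hn]; rfl)⟩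
  obtain ⟨h, hh, hmap⟩ := F.exists_conj_T₀ (K := S) (fun _ hk => hk.1) hSp
  set S' := S.map (MulAut.conj h).toMonoidHom with hS'
  have hS'mem : ∀ k', k' ∈ S' ↔ ∃ k ∈ S, h * k * h⁻¹ = k' := fun k' => by simp [hS']
  haveI := Fintype.ofFinite G
  have hScomm : ∀ a ∈ S, ∀ b ∈ S, mm (F.mat a) (F.mat b) = mm (F.mat b) (F.mat a) := by
    intro a ha b hb
    have h1 := F.mat_sq_of_fix_plane ha.1 ha.2.1
    have h2 := F.mat_sq_of_fix_plane hb.1 hb.2.1
    have h3 := F.mat_sq_of_fix_plane (mul_mem ha.1 hb.1) (mul_mem ha hb).2.1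
    rw [F.mat_mul a ha.1 b hb.1] at h3
    have hga := F.good_mat ha.1
    have hgb := F.good_mat hb.1
    calc mm (F.mat a) (F.mat b)
        = mm (mm (mm (F.mat b) (mm (F.mat a) (F.mat a))) (F.mat b)) (mm (F.mat a) (F.mat b)) := by
          rw [h1, mm_idM_right hgb, h2, mm_idM' (good_mm hga hgb)]
      _ = mm (mm (F.mat b) (F.mat a)) (mm (mm (F.mat a) (F.mat b)) (mm (F.mat a) (F.mat b))) := by
          simp only [mm_assoc']
      _ = mm (F.mat b) (F.mat a) := by rw [h3, mm_idM_right (good_mm hgb hga)]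
  have hconjmat : ∀ k ∈ Cen z, F.mat (h * k * h⁻¹) =
      mm (mm (F.mat h) (F.mat k)) (F.mat h⁻¹) := fun k hk => by
    rw [F.mat_mul _ (mul_mem hh.1 hk) _ (inv_mem hh.1), F.mat_mul _ hh.1 _ hk]
  set M : Finset (List ℕ) := (S' : Set G).toFinset.image F.mat with hMdef
  have hM : ∀ m, m ∈ M ↔ ∃ k ∈ S', F.mat k = m := fun m => by simp [hMdef]
  set MS : Finset (List ℕ) := (S : Set G).toFinset.image F.mat with hMSdef
  have hMS : ∀ m, m ∈ MS ↔ ∃ k ∈ S, F.mat k = m := fun m => by simp [hMSdef]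
  have hqsub : qList.toFinset ⊆ MS := fun m hm => by
    obtain ⟨v, hv, e⟩ := hlift m (List.mem_toFinset.1 hm)
    exact (hMS m).2 ⟨v, hVS hv, e⟩
  have hinj : MS.card ≤ M.card := by
    refine Finset.card_le_card_of_injOn (fun m => mm (mm (F.mat h) m) (F.mat h⁻¹)) ?_ ?_
    · intro m hm
      obtain ⟨k, hk, rfl⟩ := (hMS m).1 hm
      exact (hM _).2 ⟨h * k * h⁻¹, (hS'mem _).2 ⟨k, hk, rfl⟩, hconjmat k hk.1⟩
    · intro a ha b hb e
      obtain ⟨ka, hka, rfl⟩ := (hMS a).1 ha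
      obtain ⟨kb, hkb, rfl⟩ := (hMS b).1 hb
      exact F.mat_cancel hh.1 (F.good_mat hka.1) (F.good_mat hkb.1)
        (F.mat_cancel_right (inv_mem hh.1) (good_mm (F.good_mat hh.1) (F.good_mat hka.1))
          (good_mm (F.good_mat hh.1) (F.good_mat hkb.1)) e)
  have h16 : 16 ≤ MS.card := by
    have := Finset.card_le_card hqsub
    rwa [List.toFinset_card_of_nodup qList_nodup] at this
  have hMle : M.card ≤ 16 := by
    rcases F.image_cases (K := S') (fun k hk => by
        obtain ⟨l, hl, rfl⟩ := (hS'mem k).1 hk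
        exact hmap l hl)
      (fun k hk => by
        obtain ⟨l, hl, rfl⟩ := (hS'mem k).1 hk
        rw [show h * l * h⁻¹ * (h * l * h⁻¹) = h * (l * l) * h⁻¹ by group]
        exact conj_rad hh.1 (hSsq l hl))
      (fun a ha b hb => by
        obtain ⟨x, hx, rfl⟩ := (hS'mem a).1 ha
        obtain ⟨y, hy, rfl⟩ := (hS'mem b).1 hb
        clear ha hb
        revert hx hy
        generalize x = a, y = b
        intro ha hb
        rw [← F.mat_mul _ (mul_mem (mul_mem hh.1 ha.1) (inv_mem hh.1)) _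
            (mul_mem (mul_mem hh.1 hb.1) (inv_mem hh.1)),
          ← F.mat_mul _ (mul_mem (mul_mem hh.1 hb.1) (inv_mem hh.1)) _
            (mul_mem (mul_mem hh.1 ha.1) (inv_mem hh.1)),
          show h * a * h⁻¹ * (h * b * h⁻¹) = h * (a * b) * h⁻¹ by group,
          show h * b * h⁻¹ * (h * a * h⁻¹) = h * (b * a) * h⁻¹ by group,
          hconjmat _ (mul_mem ha.1 hb.1), hconjmat _ (mul_mem hb.1 ha.1),
          F.mat_mul a ha.1 b hb.1, F.mat_mul b hb.1 a ha.1, hScomm a ha b hb]) M hM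
      with e | e | e
    · rw [e]; simp
    · rw [e, List.toFinset_card_of_nodup qList_nodup]; rfl
    · have := e ((Finset.range 64).image (mv (F.mat h))) (fun x hx => by
          obtain ⟨y, -, rfl⟩ := Finset.mem_image.1 hx
          exact mv_lt (F.good_mat hh.1).2 y)
        (fun k hk x hx => by
          obtain ⟨l, hl, rfl⟩ := (hS'mem k).1 hk
          obtain ⟨y, hy, rfl⟩ := Finset.mem_image.1 hx
          rw [hconjmat l hl.1, mv_mm', mv_mm', ← mv_mm' (F.mat h⁻¹) (F.mat h), F.mat_inv_mul hh.1,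
            mv_idM' (by rw [Finset.mem_range] at hy; omega), hl.2.1 y (Finset.mem_range.1 hy)])
      rw [Finset.card_image_of_injOn (fun a ha b hb e => by
        have := congrArg (mv (F.mat h⁻¹)) e
        rw [← mv_mm', ← mv_mm', F.mat_inv_mul hh.1,
          mv_idM' (by have := Finset.mem_range.1 (Finset.mem_coe.1 ha); omega),
          mv_idM' (by have := Finset.mem_range.1 (Finset.mem_coe.1 hb); omega)] at this
        exact this), Finset.card_range] at this
      omega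
  have heq : qList.toFinset = MS :=
    Finset.eq_of_subset_of_card_le hqsub (by
      rw [List.toFinset_card_of_nodup qList_nodup]; exact le_trans hinj hMle)
  refine F.mem_Vp.2 ⟨hgc, List.mem_toFinset.1 (heq ▸ (hMS _).2 ⟨g, hgS, rfl⟩),
    fun w hw => hg w (F.Wp_le_Vp hw)⟩

theorem inner_conj {i : G} (hi : i ∈ CP z P) (h2 : i * i = 1) :
    ∃ c ∈ CP z P, c * i * c⁻¹ ∈ F.Vp := by
  have hm2 : mm (F.mat i) (F.mat i) = idM := by
    rw [← F.mat_mul i hi.1 i hi.1, h2, F.mat_one']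
  by_cases hid : F.mat i = idM
  · exact ⟨1, one_mem _, by simpa using F.root_mem_Vp hi (hid ▸ idM_mem_qList)⟩
  have hp : IsPGroup 2 (Subgroup.zpowers i) := IsPGroup.of_card (n := 1) (by
    rw [Nat.card_zpowers, pow_one]
    exact orderOf_eq_prime (by rw [pow_two, h2]) fun h => hid (by rw [h, F.mat_one']))
  obtain ⟨h, hh, hmap⟩ := F.exists_conj_T₀ (Subgroup.zpowers_le.2 hi.1) hp
  have hs := (F.mem_T₀.1 (hmap i (Subgroup.mem_zpowers i))).2
  have hcm : ∀ x ∈ CP z P, mm (F.mat x) pOm = mm pOm (F.mat x) := by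
    intro x hx
    obtain ⟨p, hpP, hmp, -, -⟩ := F.exists_gen
    rw [← hmp, ← F.mat_mul x hx.1 p (F.P_le_cen hpP), ← F.mat_mul p (F.P_le_cen hpP) x hx.1,
      (mem_CP.1 hx).2 p hpP]
  have hnorm : ∀ {x y : G}, x ∈ Subgroup.normalizer (P : Set G) → y ∈ CP z P → x ∈ Cen z →
      x * y * x⁻¹ ∈ CP z P := by
    intro x y hx hy hxc
    refine mem_CP.2 ⟨mul_mem (mul_mem hxc hy.1) (inv_mem hxc), fun q hq => ?_⟩
    have hq' : x⁻¹ * q * x ∈ P := by
      simpa using (Subgroup.mem_normalizer_iff.1 (inv_mem hx) q).1 hq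
    calc q * (x * y * x⁻¹) = x * (x⁻¹ * q * x * y) * x⁻¹ := by group
      _ = x * (y * (x⁻¹ * q * x)) * x⁻¹ := by rw [(mem_CP.1 hy).2 _ hq']
      _ = x * y * x⁻¹ * q := by group
  have hj : h * i * h⁻¹ ∈ CP z P := hnorm hh.2 hi hh.1
  have hj2 : mm (F.mat (h * i * h⁻¹)) (F.mat (h * i * h⁻¹)) = idM := by
    rw [← F.mat_mul _ hj.1 _ hj.1, show h * i * h⁻¹ * (h * i * h⁻¹) = h * (i * i) * h⁻¹ by group,
      h2, mul_one, mul_inv_cancel, F.mat_one']
  have hjne : F.mat (h * i * h⁻¹) ≠ idM := fun e => hid ((F.mat_eq_id i hi.1).2 (by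
    have := conj_rad (inv_mem hh.1) ((F.mat_eq_id _ hj.1).1 e)
    simpa [mul_assoc] using this))
  have hall := invWords_all
  simp only [List.all_eq_true, Bool.or_eq_true, List.any_eq_true, Bool.not_eq_true',
    Bool.and_eq_false_iff, beq_iff_eq, beq_eq_false_iff_ne, Bool.not_eq_false'] at hall
  obtain ⟨t, ht, hte⟩ : ∃ t ∈ invWords, sylList.getD t.1 idM = F.mat (h * i * h⁻¹) := by
    rcases hall _ hs with ((e | e) | e) | e
    · exact absurd hj2 e
    · exact absurd e hjne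
    · exact absurd (hcm _ hj) e
    · exact e
  have hok := invWords_ok
  simp only [List.all_eq_true, Bool.and_eq_true, List.any_eq_true, beq_iff_eq] at hok
  obtain ⟨hw, n, hn, hwn⟩ := hok t ht
  rw [hte] at hwn
  have hwL : InL (wordM t.2) := (inX_wordM hw).toInL
  obtain ⟨w, hw', hwm⟩ := F.mat_surj _ hwL
  have hwX : mm (wordM t.2) pOm = mm pOm (wordM t.2) := by
    have hX := inX_wordM hw
    generalize wordM t.2 = m at hX
    induction hX with
    | one => rw [mm_idM' pOm_facts.2.2.2, mm_idM_right pOm_facts.2.2.2]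
    | mul g hg _ ih =>
      have h := gens_pOm
      simp only [Bool.and_eq_true, List.all_eq_true, beq_iff_eq] at h
      rw [mm_assoc', ih, ← mm_assoc', h.1.1.1 g hg, mm_assoc']
  have hwCP : w ∈ CP z P := F.mem_CP_of hw'.1 hw'.2 (by rw [hwm]; exact hwX)
  have hwh : w * h ∈ Cen z ∧ w * h ∈ Subgroup.normalizer (P : Set G) :=
    ⟨mul_mem hw'.1 hh.1, mul_mem hw'.2 hh.2⟩
  have hd : F.mat (w * h * i * (w * h)⁻¹) = n := by
    rw [show w * h * i * (w * h)⁻¹ = w * (h * i * h⁻¹) * w⁻¹ by group]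
    exact F.mat_conj hw'.1 hj.1 (sylList_inL _ (qList_facts hn).2.2.1).good (by rw [hwm]; exact hwn)
  by_cases hc : w * h ∈ CP z P
  · exact ⟨w * h, hc, F.root_mem_Vp (hnorm hwh.2 hi hwh.1) (hd ▸ hn)⟩
  have hgs : InL sig := by
    have := InL.mul sig (by simp [gensL]) InL.one
    rwa [mm_idM_right (good_gen (by simp [gensL]))] at this
  obtain ⟨u, hu, hum⟩ := F.mat_surj _ hgs
  have hucp : u * (w * h) ∈ CP z P := by
    refine F.mem_CP_of (mul_mem hu.1 hwh.1) (mul_mem hu.2 hwh.2) ?_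
    obtain ⟨p, hpP, hmp, -, hall'⟩ := F.exists_gen
    have hpc := F.P_le_cen hpP
    have e : w * h * p * (w * h)⁻¹ = p * p := by
      rcases hall' _ ((Subgroup.mem_normalizer_iff.1 hwh.2 p).1 hpP) with e | e | e
      · exfalso
        rw [conj_eq_one_iff] at e
        rw [e, F.mat_one'] at hmp
        exact pOm_facts.2.1 hmp.symm
      · exfalso
        apply hc
        refine F.mem_CP_of hwh.1 hwh.2 ?_
        rw [← hmp, ← F.mat_mul _ hwh.1 _ hpc, ← F.mat_mul _ hpc _ hwh.1,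
          mul_inv_eq_iff_eq_mul.1 e]
      · exact e
    rw [← hmp, ← F.mat_mul _ (mul_mem hu.1 hwh.1) _ hpc,
      ← F.mat_mul _ hpc _ (mul_mem hu.1 hwh.1), mul_assoc u, mul_inv_eq_iff_eq_mul.1 e,
      F.mat_mul _ hu.1 _ (mul_mem (mul_mem hpc hpc) hwh.1),
      F.mat_mul _ (mul_mem hpc hpc) _ hwh.1, F.mat_mul _ hpc _ (mul_mem hu.1 hwh.1),
      F.mat_mul _ hu.1 _ hwh.1, F.mat_mul p hpc p hpc, hmp, hum]
    have h := gens_pOm
    simp only [Bool.and_eq_true, beq_iff_eq] at h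
    have hs' : mm sig (mm pOm pOm) = mm pOm sig := by
      rw [← mm_assoc', h.1.1.2, mm_assoc', h.1.1.2, ← mm_assoc']
      have h4 : mm (mm pOm pOm) (mm pOm pOm) = pOm := by decide +kernel
      rw [h4]
    rw [← mm_assoc', hs', mm_assoc']
  have hsig := qList_sig
  simp only [List.all_eq_true, List.any_eq_true, beq_iff_eq] at hsig
  obtain ⟨n', hn', he⟩ := hsig n hn
  refine ⟨u * (w * h), hucp, F.root_mem_Vp (hnorm (mul_mem hu.2 hwh.2) hi (mul_mem hu.1 hwh.1)) ?_⟩
  rw [show u * (w * h) * i * (u * (w * h))⁻¹ = u * (w * h * i * (w * h)⁻¹) * u⁻¹ by group,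
    F.mat_conj hu.1 (mul_mem (mul_mem hwh.1 hi.1) (inv_mem hwh.1))
      (sylList_inL _ (qList_facts hn').2.2.1).good (by rw [hum, hd]; exact he)]
  exact hn'

end Frame

theorem vData_exists (F : Frame z P) : Nonempty (VData F) := by
  classical
  obtain ⟨S, hS⟩ := F.exists_sylow_T₀
  have : Fact (Nat.Prime 2) := ⟨Nat.prime_two⟩
  have elem_map : ∀ (A : Subgroup G) (f : G →* G), IsElementaryAbelian 2 A →
      IsElementaryAbelian 2 (A.map f) := by
    intro A f hA
    refine ⟨⟨⟨fun a b => ?_⟩⟩, ?_⟩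
    · obtain ⟨_, x, hx, rfl⟩ := a
      obtain ⟨_, y, hy, rfl⟩ := b
      have := congrArg Subtype.val (hA.1.1.1 (⟨x, hx⟩ : A) ⟨y, hy⟩)
      exact Subtype.ext (by
        show f x * f y = f y * f x
        rw [← map_mul, ← map_mul]
        exact congrArg f this)
    · rintro _ ⟨x, hx, rfl⟩
      rw [← map_pow, hA.2 x hx, map_one]
  have hmove : ∀ (T : Sylow 2 G), ∃ g : G, ∀ A : Subgroup G, A ≤ (T : Subgroup G) →
      IsElementaryAbelian 2 A → Nat.card A = 2 ^ 11 →
        A.map (MulAut.conj g).toMonoidHom = F.Vp := by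
    intro T
    obtain ⟨g, hg⟩ := MulAction.exists_smul_eq G T S
    refine ⟨g, fun A hA he hc => F.eq_Vp ?_ (elem_map A _ he) ?_⟩
    · rintro _ ⟨a, ha, rfl⟩
      rw [← hS, ← hg, Sylow.smul_def]
      exact ⟨a, hA ha, rfl⟩
    · rw [← hc]
      exact (Nat.card_congr (A.equivMapOfInjective _ (MulAut.conj g).injective).toEquiv).symm
  have hnormP : P ≤ Subgroup.normalizer (F.Vp : Set G) := by
    have hconj : ∀ p ∈ P, ∀ v ∈ F.Vp, p * v * p⁻¹ ∈ F.Vp := by
      intro p hp v hv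
      have hpc := F.P_le_cen hp
      obtain ⟨w, hw, u, hu, hmu, rfl⟩ := F.Vp_split hv
      have hpu : p * u = u * p := (mem_CP.1 hu).2 p hp
      have : p * (w * u) * p⁻¹ = p * w * p⁻¹ * u := by
        rw [← mul_assoc, mul_assoc (p * w), mul_assoc p w, mul_assoc p w]
        have : u * p⁻¹ = p⁻¹ * u := (Commute.inv_left hpu).eq.symm
        rw [this]
        group
      rw [this]
      refine mul_mem (F.Wp_le_Vp (F.mem_Wp.2 ⟨conj_rad hpc hw.1, ?_⟩)) (F.root_mem_Vp hu hmu)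
      rw [F.conj p hpc w hw.1]
      obtain ⟨q, hq, hmq, -, hall⟩ := F.exists_gen
      have hpl : ((List.range 64).all fun x =>
          Nat.blt (mv pOm x) 64 && Nat.blt (mv (mm pOm pOm) x) 64) = true := by decide +kernel
      simp only [List.all_eq_true, List.mem_range, Bool.and_eq_true] at hpl
      rcases hall p hp with rfl | rfl | rfl
      · rw [F.mat_one', mv_idM' (by have := hw.2; omega)]; exact hw.2
      · rw [hmq]; exact Nat.le_of_ble_eq_true (hpl _ hw.2).1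
      · rw [F.mat_mul q (F.P_le_cen hq) q (F.P_le_cen hq), hmq]
        exact Nat.le_of_ble_eq_true (hpl _ hw.2).2
    intro p hp
    refine Subgroup.mem_normalizer_iff.2 fun v => ⟨hconj p hp v, fun h => ?_⟩
    have := hconj p⁻¹ (inv_mem hp) _ h
    simpa [mul_assoc] using this
  have hrad : Rad z ≤ Subgroup.normalizer (F.Vp : Set G) := by
    have hconj : ∀ e ∈ Rad z, ∀ v ∈ F.Vp, e * v * e⁻¹ ∈ F.Vp := by
      intro e he v hv
      have hec := rad_le_cen' he
      rw [show e * v * e⁻¹ = e * (v * e⁻¹ * v⁻¹) * v by group]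
      refine mul_mem (F.Wp_le_Vp (F.mem_Wp.2 ⟨mul_mem he (conj_rad hv.1 (inv_mem he)), ?_⟩)) hv
      rw [F.co_mul e he _ (conj_rad hv.1 (inv_mem he)), F.conj v hv.1 _ (inv_mem he), F.co_inv' he,
        Nat.xor_comm]
      have h : (qList.all fun m => (List.range 4096).all fun x =>
          Nat.blt (mv m x ^^^ x) 64) = true := by decide +kernel
      simp only [List.all_eq_true, List.mem_range] at h
      exact Nat.le_of_ble_eq_true (h _ hv.2.1 _ (F.co_lt e he))
    intro e he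
    refine Subgroup.mem_normalizer_iff.2 fun v => ⟨hconj e he v, fun h => ?_⟩
    have := hconj e⁻¹ (inv_mem he) _ h
    simpa [mul_assoc] using this
  refine ⟨{
    V := F.Vp
    elem := F.elem_Vp
    card := F.card_Vp
    le_cen := fun _ hv => hv.1
    z_mem := F.z_mem_Vp
    cent_le := F.cent_Vp
    unique := fun T A B hA hB ea ca eb cb => by
      obtain ⟨g, hg⟩ := hmove T
      exact Subgroup.map_injective (MulAut.conj g).injective
        ((hg A hA ea ca).trans (hg B hB eb cb).symm)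
    conj := fun A ea ca => by
      obtain ⟨T, hT⟩ := (IsPGroup.of_card ca : IsPGroup 2 A).exists_le_sylow
      obtain ⟨g, hg⟩ := hmove T
      refine ⟨g⁻¹, ?_⟩
      rw [← hg A hT ea ca, Subgroup.map_map]
      convert (Subgroup.map_id A).symm using 2
      ext a
      simp [mul_assoc]
    rad := fun x hx => ⟨fun hv => (F.Wp_of_cent hx (F.mem_Vp.1 hv).2.2).2,
      fun h => F.Wp_le_Vp ⟨hx, h⟩⟩
    norm_P := hnormP
    rad_le_norm := hrad
    mat_upper := fun v hv i hi hi' => by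
      obtain ⟨k, rfl⟩ : ∃ k, i = k + 6 := ⟨i - 6, by omega⟩
      exact (qList_facts (F.mem_Vp.1 hv).2.1).2.2.2.2.2.2 k (by omega)
    upper := by
      have hU : qU ∈ qList := by decide +kernel
      obtain ⟨v, hv, hm⟩ := F.exists_root hU
      exact ⟨v, ⟨F.root_mem_Vp hv (hm ▸ hU), hv.2⟩, hm⟩
    card_fixed := ?_
    inner_invol := fun i hi h2 => F.inner_conj hi h2 }⟩
  -- the fixed points of `P` on `V`
  choose σ hσc hσm using fun m : {m // m ∈ qList} => F.exists_root m.2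
  let f : {m // m ∈ qList} × Fin 2 → ↥(F.Vp ⊓ Subgroup.centralizer (P : Set G)) := fun p =>
    ⟨if p.2 = 0 then σ p.1 else σ p.1 * z, by
      have h : σ p.1 ∈ F.Vp := F.root_mem_Vp (hσc _) (by rw [hσm]; exact p.1.2)
      split_ifs
      · exact ⟨h, (hσc _).2⟩
      · exact ⟨mul_mem h F.z_mem_Vp, mul_mem (hσc _).2 F.z_mem_CP.2⟩⟩
  have hf : Function.Bijective f := by
    constructor
    · rintro ⟨m, a⟩ ⟨n, b⟩ h
      have h' := congrArg Subtype.val h
      have hmat : ∀ (k : {m // m ∈ qList}) (c : Fin 2), F.mat (f (k, c)).1 = k.1 := by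
        intro k c
        simp only [f]
        split_ifs
        · exact hσm k
        · rw [F.mat_mul _ (hσc k).1 _ z_mem_cen, F.mat_rad F.z_mem_rad',
            mm_idM_right (F.good_mat (hσc k).1), hσm]
      have hmn : m = n := Subtype.ext (by rw [← hmat m a, ← hmat n b, h])
      subst hmn
      simp only [f] at h'
      fin_cases a <;> fin_cases b <;> simp [F.z_ne_one] at h' ⊢
    · rintro ⟨v, hv, hvP⟩
      have hq := (F.mem_Vp.1 hv).2.1
      rcases F.CP_of_mat (hσc ⟨_, hq⟩) ⟨hv.1, hvP⟩ (hσm ⟨_, hq⟩) with h | h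
      · exact ⟨(⟨_, hq⟩, 0), Subtype.ext (by simp [f, ← h])⟩
      · exact ⟨(⟨_, hq⟩, 1), Subtype.ext (by simp [f, ← h])⟩
  rw [← Nat.card_eq_of_bijective f hf, Nat.card_prod]
  rw [← Nat.card_congr (Equiv.subtypeEquivRight (p := fun m => m ∈ qList.toFinset)
    (q := fun m => m ∈ qList) fun m => List.mem_toFinset), Nat.card_eq_finsetCard,
    List.toFinset_card_of_nodup qList_nodup, Nat.card_fin]
  rfl

end CfsgLib.J4Type
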