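import Cfsg.Agent.Lib.Golay.M24Index2
import Cfsg.Agent.Lib.KnownA.MathieuOut2
import Cfsg.Agent.Lib.J4Type.Ident.Mathieu

/-!
# The stabiliser of a pair of points in `M24` is the automorphism group of `M22`
-/

set_option autoImplicit false
set_option maxRecDepth 100000

namespace CfsgLib.J4Type

open Cfsg CfsgLib.Golay CfsgLib.KnownA.Mathieu
open scoped Pointwise

theorem codeC_mem : inFix X22 codeC = true := by decide +kernel

theorem card_mulAut_M22 : Nat.card (MulAut ↥Spor.M22) = 887040 := by
  have : Finite (Equiv.Perm GolayPt) := inferInstance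
  have h1 := Subgroup.card_eq_card_quotient_mul_card_subgroup (Inn ↥Spor.M22)
  have h2 : Nat.card ↥(Inn ↥Spor.M22) = 443520 := by
    have hinj : Function.Injective (MulAut.conj : ↥Spor.M22 →* MulAut ↥Spor.M22) := by
      rw [sporM22_eq]
      exact fun σ ρ h => Ident.conj_inj h
    rw [← card_fix22, ← sporM22_eq]
    exact (Nat.card_congr (MonoidHom.ofInjective hinj).toEquiv).symm
  rw [h1, h2]
  have h3 : Nat.card (MulAut ↥Spor.M22 ⧸ Inn ↥Spor.M22) = 2 := out_M22
  rw [h3]

/-- The duad stabiliser in standard position acts faithfully on `M22` and has the order of its automorphism group. -/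
theorem duad_iso_std :
    Nonempty (↥(MulAction.stabilizer M24 ({pt 23, pt 0} : Finset GolayPt)) ≃* MulAut ↥Spor.M22) := by
  classical
  have hne : pt 23 ≠ pt 0 := by decide +kernel
  set S := MulAction.stabilizer M24 ({pt 23, pt 0} : Finset GolayPt) with hS
  set K := MulAction.stabilizer M24 (pt 23) ⊓ MulAction.stabilizer M24 (pt 0) with hK
  have hKS : K ≤ S := fun g hg => by
    rw [hS, MulAction.mem_stabilizer_iff, Finset.smul_finset_insert, Finset.smul_finset_singleton,
      MulAction.mem_stabilizer_iff.1 hg.1, MulAction.mem_stabilizer_iff.1 hg.2]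
  have hnorm : S ≤ Subgroup.normalizer (K : Set M24) := fun g hg => by
    have key : ∀ g ∈ S, ∀ k ∈ K, g * k * g⁻¹ ∈ K := by
      intro g hg k hk
      have hmem : ∀ p ∈ ({pt 23, pt 0} : Finset GolayPt), g⁻¹ • p ∈ ({pt 23, pt 0} : Finset GolayPt) := by
        intro p hp
        have h := Finset.smul_mem_smul_finset (a := g⁻¹) hp
        rwa [MulAction.mem_stabilizer_iff.1 (S.inv_mem hg)] at h
      have hfix : ∀ p ∈ ({pt 23, pt 0} : Finset GolayPt), k • p = p := by
        intro p hp
        rcases Finset.mem_insert.1 hp with rfl | hp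
        · exact hk.1
        · rw [Finset.mem_singleton.1 hp]; exact hk.2
      have hfix' : ∀ p ∈ ({pt 23, pt 0} : Finset GolayPt), (g * k * g⁻¹) • p = p := fun p hp => by
        rw [mul_smul, mul_smul, hfix _ (hmem p hp), smul_inv_smul]
      exact ⟨hfix' _ (by simp), hfix' _ (by simp)⟩
    rw [Subgroup.mem_normalizer_iff]
    refine fun k => ⟨key g hg k, fun hk => ?_⟩
    have := key g⁻¹ (S.inv_mem hg) _ hk
    simpa [mul_assoc] using this
  obtain ⟨e⟩ := stab2_equiv hne
  let eK : ↥K ≃* ↥Spor.M22 := e.trans (MulEquiv.subgroupCongr sporM22_eq.symm)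
  let φ : ↥S →* MulAut ↥Spor.M22 :=
    (MulAut.congr eK).toMonoidHom.comp ((Subgroup.normalizerMonoidHom K).comp (Subgroup.inclusion hnorm))
  have hC := inFix_mem codeC_mem
  have hCM : permOf codeC ∈ M24 := fixMasks_le _ hC
  have hCfix : permOf codeC (pt 23) = pt 23 ∧ permOf codeC (pt 0) = pt 0 := by
    constructor <;> rw [permOf_pt (inFix_valid codeC_mem) (by norm_num)] <;> exact congrArg pt (by decide +kernel)
  have hCK : (⟨permOf codeC, hCM⟩ : M24) ∈ K := ⟨hCfix.1, hCfix.2⟩
  have hinj : Function.Injective φ := by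
    rw [← MonoidHom.ker_eq_bot_iff, eq_bot_iff]
    rintro ⟨g, hg⟩ hgk
    have h0 : Subgroup.normalizerMonoidHom K (Subgroup.inclusion hnorm ⟨g, hg⟩) = 1 :=
      (map_eq_one_iff _ (MulAut.congr eK).injective).1 hgk
    have hcomm : ∀ k ∈ K, g * k = k * g := fun k hk => by
      have h := congrArg (fun x : MulAut ↥K => ((x ⟨k, hk⟩ : ↥K) : M24)) h0
      have h' : g * k * g⁻¹ = k := h
      exact mul_inv_eq_iff_eq_mul.1 h'
    obtain ⟨i, hi⟩ := cent_C g.1 g.2 (congrArg Subtype.val (hcomm _ hCK))
    have hgK : g ∈ K := by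
      have : g = (⟨permOf codeC, hCM⟩ : M24) ^ i := Subtype.ext (by rw [hi, Subgroup.coe_pow])
      rw [this]
      exact K.pow_mem hCK i
    have hone : e ⟨g, hgK⟩ = 1 := Ident.center_trivial fun y => by
      obtain ⟨k, rfl⟩ := e.surjective y
      rw [← map_mul, ← map_mul]
      exact congrArg e (Subtype.ext (hcomm k k.2))
    rw [Subgroup.mem_bot]
    exact Subtype.ext (congrArg Subtype.val ((map_eq_one_iff e e.injective).1 hone) :)
  have hcard : Nat.card ↥S = 887040 := by
    refine le_antisymm (card_stab_duad_le hne) ?_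
    obtain ⟨t, ht, ht'⟩ := M24_two hne hne.symm
    have htS : t ∈ S := by
      rw [hS, MulAction.mem_stabilizer_iff, Finset.smul_finset_insert, Finset.smul_finset_singleton, ht, ht',
        Finset.pair_comm]
    have htK : t ∉ K := fun h => hne ((MulAction.mem_stabilizer_iff.1 h.1).symm.trans ht)
    have hlt : K < S := lt_of_le_of_ne hKS fun h => htK (h ▸ htS)
    obtain ⟨m, hm⟩ := Subgroup.card_dvd_of_le hKS
    have hK2 : Nat.card ↥K = 443520 := card_stab_two hne
    have hlt' : Nat.card ↥K < Nat.card ↥S := by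
      refine lt_of_le_of_ne (Subgroup.card_le_of_le hKS) fun h => hlt.ne (Subgroup.eq_of_le_of_card_ge hKS h.ge)
    rw [hK2] at hm hlt'
    rcases Nat.lt_or_ge m 2 with h | h
    · interval_cases m <;> omega
    · calc 887040 = 443520 * 2 := by norm_num
        _ ≤ 443520 * m := Nat.mul_le_mul_left _ h
        _ = Nat.card ↥S := hm.symm
  exact ⟨MulEquiv.ofBijective φ ((Nat.bijective_iff_injective_and_card φ).2 ⟨hinj, hcard.trans card_mulAut_M22.symm⟩)⟩

/-- The setwise stabiliser of a pair of points in `M24` is the automorphism group of `M22`. -/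
theorem duad_iso {a b : GolayPt} (h : a ≠ b) :
    Nonempty (↥(MulAction.stabilizer M24 ({a, b} : Finset GolayPt)) ≃* MulAut ↥Spor.M22) := by
  classical
  obtain ⟨g, hga, hgb⟩ := M24_two h (show pt 23 ≠ pt 0 by decide +kernel)
  obtain ⟨e⟩ := duad_iso_std
  have hs : ({pt 23, pt 0} : Finset GolayPt) = g • ({a, b} : Finset GolayPt) := by
    rw [Finset.smul_finset_insert, Finset.smul_finset_singleton, hga, hgb]
  exact ⟨(MulAction.stabilizerEquivStabilizer hs).trans e⟩

end CfsgLib.J4Type
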