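import Cfsg.Agent.Lib.J4Type.PlaneSyl

/-!
The lifts of the upper radical centralising `P`: they form an elementary abelian group of order 32
centralising the preimage of the plane fixed by the upper radical.
-/

set_option autoImplicit false

namespace CfsgLib.J4Type

open Cfsg

theorem qList_facts {m : List ℕ} (hm : m ∈ qList) :
    mm m m = idM ∧ (∀ n ∈ qList, mm m n ∈ qList ∧ mm m n = mm n m) ∧ m ∈ sylList ∧
      mm m pOm = mm pOm m ∧ mm m pOm ≠ mm (mm pOm pOm) m ∧
      (∀ i < 6, mv m (2 ^ i) = 2 ^ i) ∧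
      (∀ i < 6, mv m (2 ^ (i + 6)) ^^^ 2 ^ (i + 6) < 64) := by
  have h := qList_ok
  simp only [Bool.and_eq_true, List.all_eq_true, List.contains_iff_mem, beq_iff_eq,
    List.mem_range, Bool.not_eq_true', beq_eq_false_iff_ne] at h
  obtain ⟨-, h⟩ := h
  obtain ⟨⟨⟨⟨⟨⟨h1, h2⟩, h3⟩, h4⟩, h5⟩, h6⟩, h7⟩ := h m hm
  exact ⟨h1, h2, h3, h4, h5, fun i hi => Nat.eq_of_beq_eq_true (h6 i hi),
    fun i hi => Nat.le_of_ble_eq_true (h7 i hi)⟩

theorem idM_mem_qList : idM ∈ qList := by
  have h := qList_ok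
  simp only [Bool.and_eq_true, List.contains_iff_mem] at h
  exact h.1.2

theorem qList_fix {m : List ℕ} (hm : m ∈ qList) {x : ℕ} (hx : x < 64) : mv m x = x := by
  have h : (qList.all fun m => (List.range 64).all fun x => Nat.beq (mv m x) x) = true := by
    decide +kernel
  simp only [List.all_eq_true, List.mem_range] at h
  exact Nat.eq_of_beq_eq_true (h m hm x hx)

theorem plane_singular {x y : ℕ} (hx : x < 64) (hy : y < 64) :
    qF x = false ∧ bF x y = false := by
  have h : ((List.range 64).all fun x => !qF x && (List.range 64).all fun y => !bF x y) = true := by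
    decide +kernel
  simp only [List.all_eq_true, List.mem_range, Bool.and_eq_true, Bool.not_eq_true'] at h
  exact ⟨(h x hx).1, (h x hx).2 y hy⟩

theorem pOm_sum {x : ℕ} (hx : x < 4096) :
    x ^^^ mv pOm x ^^^ mv pOm (mv pOm x) = 0 := by
  have h : ((List.range 4096).all fun x =>
      Nat.beq (x ^^^ mv pOm x ^^^ mv pOm (mv pOm x)) 0) = true := by decide +kernel
  simp only [List.all_eq_true, List.mem_range] at h
  exact Nat.eq_of_beq_eq_true (h x hx)

theorem pOm_facts : mm pOm (mm pOm pOm) = idM ∧ pOm ≠ idM ∧ mm pOm pOm ≠ pOm ∧ Good pOm :=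
  ⟨by decide +kernel, by decide, by decide +kernel, rfl, by decide⟩

theorem qList_getD {k : ℕ} (hk : k < 16) : qList.getD k idM ∈ qList := by
  interval_cases k <;> simp [qList]

theorem qList_getD_inj {j k : ℕ} (hj : j < 16) (hk : k < 16)
    (h : qList.getD j idM = qList.getD k idM) : j = k := by
  have hl : qList.length = 16 := rfl
  rw [List.getD_eq_getElem?_getD, List.getD_eq_getElem?_getD,
    List.getElem?_eq_getElem (hl ▸ hj), List.getElem?_eq_getElem (hl ▸ hk)] at h
  exact (List.Nodup.getElem_inj_iff qList_nodup).1 h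

variable {G : Type*} [Group G] {z : G} {P : Subgroup G}

theorem mem_CP {h : G} : h ∈ CP z P ↔ h ∈ Cen z ∧ ∀ p ∈ P, p * h = h * p := by
  rw [Subgroup.mem_inf, Subgroup.mem_centralizer_iff]
  rfl

namespace Frame

variable (F : Frame z P)
include F

theorem exists_gen : ∃ p ∈ P, F.mat p = pOm ∧ p ≠ 1 ∧ ∀ q ∈ P, q = 1 ∨ q = p ∨ q = p * p := by
  obtain ⟨p, hp, hm⟩ := F.mat_scalar
  have hne : p ≠ 1 := fun h => pOm_facts.2.1 (by rw [← hm, h, F.mat_one'])
  refine ⟨p, hp, hm, hne, fun q hq => ?_⟩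
  have : Fact (Nat.Prime 3) := ⟨Nat.prime_three⟩
  have hle : Subgroup.zpowers (⟨p, hp⟩ : P) = ⊤ :=
    zpowers_eq_top_of_prime_card F.card_P' (by simpa [Subtype.ext_iff] using hne)
  have hq' : (⟨q, hq⟩ : P) ∈ Subgroup.zpowers (⟨p, hp⟩ : P) := hle ▸ Subgroup.mem_top _
  obtain ⟨n, hn⟩ := Subgroup.mem_zpowers_iff.1 hq'
  have h3 : (⟨p, hp⟩ : P) ^ (3 : ℤ) = 1 := by
    rw [show (3 : ℤ) = ((Nat.card P : ℕ) : ℤ) by rw [F.card_P']; rfl, zpow_natCast]
    exact pow_card_eq_one'
  have hn' : (⟨p, hp⟩ : P) ^ (n % 3) = ⟨q, hq⟩ := by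
    rw [← hn]
    conv_rhs => rw [← Int.emod_add_mul_ediv n 3, zpow_add, zpow_mul, h3, one_zpow, mul_one]
  rcases (by omega : n % 3 = 0 ∨ n % 3 = 1 ∨ n % 3 = 2) with e | e | e <;> rw [e] at hn'
  · exact .inl (by simpa using (congrArg Subtype.val hn').symm)
  · exact .inr (.inl (by simpa using (congrArg Subtype.val hn').symm))
  · refine .inr (.inr ?_)
    simpa [zpow_two, pow_two] using (congrArg Subtype.val hn').symm

theorem mem_CP_of {h : G} (hh : h ∈ Cen z) (hn : h ∈ Subgroup.normalizer (P : Set G))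
    (hc : mm (F.mat h) pOm = mm pOm (F.mat h)) : h ∈ CP z P := by
  obtain ⟨p, hp, hm, -, hall⟩ := F.exists_gen
  have hpc := F.P_le_cen hp
  have hmat : F.mat (h * p * h⁻¹) = pOm :=
    F.mat_conj hh hpc pOm_facts.2.2.2 (by rw [hm, hc])
  refine mem_CP.2 ⟨hh, ?_⟩
  have hfix : h * p * h⁻¹ = p := by
    rcases hall _ ((Subgroup.mem_normalizer_iff.1 hn p).1 hp) with e | e | e
    · rw [e, F.mat_one'] at hmat
      exact absurd hmat.symm pOm_facts.2.1
    · exact e
    · rw [e, F.mat_mul p hpc p hpc, hm] at hmat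
      exact absurd hmat pOm_facts.2.2.1
  have hcomm : p * h = h * p := (mul_inv_eq_iff_eq_mul.1 hfix).symm
  intro q hq
  rcases hall q hq with rfl | rfl | rfl
  · simp
  · exact hcomm
  · rw [mul_assoc, hcomm, ← mul_assoc, hcomm, mul_assoc]

theorem exists_lift' {m : List ℕ} (hm : InL m) (hc : mm m pOm = mm pOm m) :
    ∃ h ∈ CP z P, F.mat h = m := by
  obtain ⟨h, hh, e⟩ := F.mat_surj m hm
  exact ⟨h, F.mem_CP_of hh.1 hh.2 (by rw [e]; exact hc), e⟩

theorem z_mem_CP : z ∈ CP z P := by
  refine ⟨z_mem_cen, ?_⟩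
  exact (Subgroup.mem_inf.1 (F.rad_inf_centP.symm.le (Subgroup.mem_zpowers z))).2

theorem CP_rad {h : G} (h1 : h ∈ CP z P) (h2 : h ∈ Rad z) : h = 1 ∨ h = z :=
  F.eq_one_or_z (F.rad_inf_centP.le (Subgroup.mem_inf.2 ⟨h2, h1.2⟩))

theorem CP_of_mat {a b : G} (ha : a ∈ CP z P) (hb : b ∈ CP z P) (h : F.mat a = F.mat b) :
    b = a ∨ b = a * z := by
  rcases F.CP_rad (mul_mem (inv_mem ha) hb) ((F.mat_eq_iff ha.1 hb.1).1 h) with e | e
  · exact .inl (inv_mul_eq_one.1 e).symm
  · exact .inr (by rw [← e, mul_inv_cancel_left])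

theorem sq_of_mat {a b : G} (ha : a ∈ CP z P) (hb : b ∈ CP z P) (h : F.mat a = F.mat b) :
    a * a = b * b := by
  rcases F.CP_of_mat ha hb h with rfl | rfl
  · rfl
  · have hz : a * z = z * a := mem_cen.1 ha.1
    calc a * a = a * a * (z * z) := by rw [F.z_sq, mul_one]
      _ = a * (a * z) * z := by group
      _ = a * (z * a) * z := by rw [hz]
      _ = a * z * (a * z) := by group

theorem sq_qList {a : G} (ha : a ∈ CP z P) (hm : F.mat a ∈ qList) :
    a * a = 1 ∨ a * a = z := by
  refine F.CP_rad (mul_mem ha ha) ((F.mat_eq_id _ (mul_mem ha.1 ha.1)).1 ?_)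
  rw [F.mat_mul a ha.1 a ha.1]
  exact (qList_facts hm).1

theorem sq_conj {a g : G} (ha : a ∈ CP z P) (hg : g ∈ CP z P) (h : a * a = 1 ∨ a * a = z) :
    g * a * g⁻¹ * (g * a * g⁻¹) = a * a := by
  have hz : g * z * g⁻¹ = z := by rw [mem_cen.1 hg.1, mul_inv_cancel_right]
  rcases h with h | h <;>
    rw [show g * a * g⁻¹ * (g * a * g⁻¹) = g * (a * a) * g⁻¹ by group, h]
  · group
  · exact hz

theorem sq_const {a b : G} (ha : a ∈ CP z P) (hb : b ∈ CP z P) (hma : F.mat a ∈ qList)
    (hmb : F.mat b ∈ qList) (ha1 : F.mat a ≠ idM) (hb1 : F.mat b ≠ idM) : a * a = b * b := by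
  have hlift : ∀ k < 16, ∃ v ∈ CP z P, F.mat v = qList.getD k idM := fun k hk =>
    F.exists_lift' (sylList_inL _ (qList_facts (qList_getD hk)).2.2.1)
      (qList_facts (qList_getD hk)).2.2.2.1
  obtain ⟨u, hu, hmu⟩ := hlift 1 (by norm_num)
  have horb := qOrbit_ok
  simp only [List.all_eq_true, Bool.and_eq_true, beq_iff_eq] at horb
  have key : ∀ (l : List (ℕ × ℕ × ℕ)), (∀ t ∈ l, t ∈ qOrbit) → ∀ acc : List ℕ,
      (∀ k ∈ acc, k < 16 → ∀ v ∈ CP z P, F.mat v = qList.getD k idM → v * v = u * u) →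
      ∀ k ∈ l.foldl (fun acc t => if acc.contains t.2.1 then t.1 :: acc else acc) acc,
        k < 16 → ∀ v ∈ CP z P, F.mat v = qList.getD k idM → v * v = u * u := by
    intro l
    induction l with
    | nil => exact fun _ acc h => h
    | cons t l ih =>
      intro hl acc hacc
      refine ih (fun s hs => hl s (List.mem_cons_of_mem _ hs)) _ ?_
      intro k hk
      dsimp only at hk
      split_ifs at hk with hc
      · rcases List.mem_cons.1 hk with rfl | hk
        · intro _ v hv hmv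
          have ht := hl t (List.mem_cons_self ..)
          obtain ⟨hj, he⟩ := horb t ht
          have hp : t.2.1 < 16 := by
            have h : (qOrbit.all fun t => Nat.blt t.2.1 16) = true := by decide +kernel
            rw [List.all_eq_true] at h
            exact Nat.le_of_ble_eq_true (h t ht)
          obtain ⟨w, hw, hmw⟩ := hlift t.2.1 hp
          have hj' : t.2.2 < 3 := Nat.le_of_ble_eq_true hj
          have hgen : InL (gensL.getD t.2.2 idM) ∧
              mm (gensL.getD t.2.2 idM) pOm = mm pOm (gensL.getD t.2.2 idM) := by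
            have h := gens_pOm
            simp only [Bool.and_eq_true, List.all_eq_true, beq_iff_eq] at h
            have hg : ∀ g ∈ [kX, kA, kB], InL g ∧ mm g pOm = mm pOm g := by
              intro g hg
              have h5 : g ∈ [kX, kA, kB, qU, qL] := by
                simp only [List.mem_cons, List.not_mem_nil, or_false] at hg ⊢
                tauto
              refine ⟨?_, h.1.1.1 g h5⟩
              have := InL.mul g (by
                simp only [gensL, List.mem_cons, List.not_mem_nil, or_false] at hg ⊢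
                tauto) InL.one
              rwa [mm_idM_right (good_gen (by
                simp only [gensL, List.mem_cons, List.not_mem_nil, or_false] at hg ⊢
                tauto))] at this
            apply hg
            generalize t.2.2 = j at hj'
            interval_cases j <;> simp [gensL]
          obtain ⟨g, hg, hmg⟩ := F.exists_lift' hgen.1 hgen.2
          have hgood : Good (qList.getD t.1 idM) := by
            rw [← hmv]; exact F.good_mat hv.1
          have hmc : F.mat (g * w * g⁻¹) = F.mat v := by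
            rw [hmv]
            exact F.mat_conj hg.1 hw.1 hgood (by rw [hmg, hmw]; exact he)
          rw [← F.sq_of_mat (mul_mem (mul_mem hg hw) (inv_mem hg)) hv hmc,
            F.sq_conj hw hg (F.sq_qList hw (by rw [hmw]; exact qList_getD hp))]
          exact hacc _ (List.contains_iff_mem.1 hc) hp w hw hmw
        · exact hacc k hk
      · exact hacc k hk
  have hall := qOrbit_all
  simp only [Bool.and_eq_true, List.all_eq_true, List.mem_range, Bool.or_eq_true, beq_iff_eq,
    List.contains_iff_mem] at hall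
  have reach : ∀ v ∈ CP z P, F.mat v ∈ qList → F.mat v ≠ idM → v * v = u * u := by
    intro v hv hmv hv1
    obtain ⟨k, hk, hke⟩ := List.getElem_of_mem hmv
    have hk16 : k < 16 := hk
    have hkD : F.mat v = qList.getD k idM := by
      rw [List.getD_eq_getElem?_getD, List.getElem?_eq_getElem hk, Option.getD_some, hke]
    rcases hall.1 k hk16 with h | h
    · rw [Nat.eq_of_beq_eq_true h, hall.2] at hkD
      exact absurd hkD hv1
    · refine key qOrbit (fun _ ht => ht) [1] ?_ k h hk16 v hv hkD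
      intro j hj _ w hw hmw
      rw [List.mem_singleton] at hj
      subst hj
      exact F.sq_of_mat hw hu (hmw.trans hmu.symm)
  rw [reach a ha hma ha1, reach b hb hmb hb1]

theorem sq_eq_one {a : G} (ha : a ∈ CP z P) (hma : F.mat a ∈ qList) (ha1 : F.mat a ≠ idM) :
    a * a = 1 := by
  refine (F.sq_qList ha hma).resolve_right fun hz => ?_
  have hall : ∀ v ∈ CP z P, F.mat v ∈ qList → F.mat v ≠ idM → v * v = z := fun v hv hmv hv1 =>
    (F.sq_const hv ha hmv hma hv1 ha1).trans hz
  have anti : ∀ v ∈ CP z P, ∀ w ∈ CP z P, F.mat v ∈ qList → F.mat w ∈ qList → F.mat v ≠ idM →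
      F.mat w ≠ idM → F.mat v ≠ F.mat w → w * v = v * w * z := by
    intro v hv w hw hmv hmw hv1 hw1 hne
    have hvw : F.mat (v * w) ∈ qList ∧ F.mat (v * w) ≠ idM := by
      rw [F.mat_mul v hv.1 w hw.1]
      refine ⟨((qList_facts hmv).2.1 _ hmw).1, fun h => hne ?_⟩
      have := congrArg (mm (F.mat v)) h
      rw [← mm_assoc', (qList_facts hmv).1, mm_idM' (F.good_mat hw.1),
        mm_idM_right (F.good_mat hv.1)] at this
      exact this.symm
    have h1 := hall _ (mul_mem hv hw) hvw.1 hvw.2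
    have h2 := hall v hv hmv hv1
    have h3 := hall w hw hmw hw1
    have hvz : v * z = z * v := mem_cen.1 hv.1
    have hwz : w * z = z * w := mem_cen.1 hw.1
    calc w * v = v⁻¹ * (v * w * (v * w)) * w⁻¹ := by group
      _ = v⁻¹ * (v * v) * w⁻¹ := by rw [h1, h2]
      _ = v * (w⁻¹ * (w * w) * z) := by rw [h3, mul_assoc w⁻¹, F.z_sq]; group
      _ = v * w * z := by group
  have hlift : ∀ k < 16, ∃ v ∈ CP z P, F.mat v = qList.getD k idM := fun k hk =>
    F.exists_lift' (sylList_inL _ (qList_facts (qList_getD hk)).2.2.1)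
      (qList_facts (qList_getD hk)).2.2.2.1
  have hne0 : ∀ k < 16, k ≠ 0 → qList.getD k idM ≠ idM := by
    intro k hk hk0 h
    refine hk0 (qList_getD_inj hk (by norm_num) (h.trans ?_))
    exact (eq_of_beq (Bool.and_eq_true _ _ ▸ qOrbit_all).2).symm
  obtain ⟨u, hu, hmu⟩ := hlift 1 (by norm_num)
  obtain ⟨v, hv, hmv⟩ := hlift 2 (by norm_num)
  obtain ⟨k, hk, hk0, hk1, hk2, hkp⟩ : ∃ k < 16, k ≠ 0 ∧ k ≠ 1 ∧ k ≠ 2 ∧
      qList.getD k idM ≠ mm (qList.getD 1 idM) (qList.getD 2 idM) := by
    by_cases h : qList.getD 3 idM = mm (qList.getD 1 idM) (qList.getD 2 idM)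
    · exact ⟨4, by norm_num, by norm_num, by norm_num, by norm_num, fun h' =>
        absurd (qList_getD_inj (by norm_num) (by norm_num) (h'.trans h.symm)) (by norm_num)⟩
    · exact ⟨3, by norm_num, by norm_num, by norm_num, by norm_num, h⟩
  obtain ⟨c, hc, hmc⟩ := hlift k hk
  have q1 : qList.getD 1 idM ∈ qList := qList_getD (by norm_num)
  have q2 : qList.getD 2 idM ∈ qList := qList_getD (by norm_num)
  have n1 := hne0 1 (by norm_num) (by norm_num)
  have n2 := hne0 2 (by norm_num) (by norm_num)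
  have n12 : qList.getD 1 idM ≠ qList.getD 2 idM := fun h =>
    absurd (qList_getD_inj (by norm_num) (by norm_num) h) (by norm_num)
  have cu := anti c hc u hu (hmc ▸ qList_getD hk) (hmu ▸ q1) (hmc ▸ hne0 k hk hk0) (hmu ▸ n1)
    (by rw [hmc, hmu]; exact fun h => hk1 (qList_getD_inj hk (by norm_num) h))
  have cv := anti c hc v hv (hmc ▸ qList_getD hk) (hmv ▸ q2) (hmc ▸ hne0 k hk hk0) (hmv ▸ n2)
    (by rw [hmc, hmv]; exact fun h => hk2 (qList_getD_inj hk (by norm_num) h))
  have huv : F.mat (u * v) = mm (qList.getD 1 idM) (qList.getD 2 idM) := by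
    rw [F.mat_mul u hu.1 v hv.1, hmu, hmv]
  have huv1 : F.mat (u * v) ≠ idM := by
    rw [huv]
    intro h
    have := congrArg (mm (qList.getD 1 idM)) h
    rw [← mm_assoc', (qList_facts q1).1, mm_idM' (hmv ▸ F.good_mat hv.1),
      mm_idM_right (hmu ▸ F.good_mat hu.1)] at this
    exact n12 this.symm
  have cuv := anti c hc (u * v) (mul_mem hu hv) (hmc ▸ qList_getD hk)
    (huv ▸ ((qList_facts q1).2.1 _ q2).1) (hmc ▸ hne0 k hk hk0) huv1 (by rw [hmc, huv]; exact hkp)
  have hvz : v * z = z * v := mem_cen.1 hv.1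
  have hcomm : u * v * c = c * (u * v) := by
    calc u * v * c = u * (v * c) := mul_assoc _ _ _
      _ = u * (c * v * z) := by rw [cv]
      _ = (u * c) * v * z := by group
      _ = c * u * z * v * z := by rw [cu]
      _ = c * u * (v * z) * z := by rw [hvz]; group
      _ = c * u * v * (z * z) := by group
      _ = c * (u * v) := by rw [F.z_sq]; group
  exact F.z_ne_one (mul_left_cancel (a := c * (u * v)) (by rw [mul_one]; exact cuv.symm.trans hcomm))

theorem root_sq {a : G} (ha : a ∈ CP z P) (hma : F.mat a ∈ qList) : a * a = 1 := by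
  by_cases h : F.mat a = idM
  · rcases F.CP_rad ha ((F.mat_eq_id a ha.1).1 h) with rfl | rfl
    · exact one_mul 1
    · exact F.z_sq
  · exact F.sq_eq_one ha hma h

theorem root_comm {a b : G} (ha : a ∈ CP z P) (hb : b ∈ CP z P) (hma : F.mat a ∈ qList)
    (hmb : F.mat b ∈ qList) : a * b = b * a := by
  have hab : F.mat (a * b) ∈ qList := by
    rw [F.mat_mul a ha.1 b hb.1]; exact ((qList_facts hma).2.1 _ hmb).1
  have h1 := F.root_sq ha hma
  have h2 := F.root_sq hb hmb
  have h3 := F.root_sq (mul_mem ha hb) hab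
  calc a * b = (a * b)⁻¹ := (inv_eq_of_mul_eq_one_right h3).symm
    _ = b⁻¹ * a⁻¹ := mul_inv_rev _ _
    _ = b * a := by rw [inv_eq_of_mul_eq_one_right h1, inv_eq_of_mul_eq_one_right h2]

theorem root_plane {a x : G} (ha : a ∈ CP z P) (hma : F.mat a ∈ qList) (hx : x ∈ Rad z)
    (hco : F.co x < 64) : a * x = x * a := by
  obtain ⟨p, hp, hmp, -, -⟩ := F.exists_gen
  have hpc := F.P_le_cen hp
  have hap : p * a = a * p := (mem_CP.1 ha).2 p hp
  have hax : ∀ y ∈ Rad z, F.co y < 64 → a * y * a⁻¹ = y ∨ a * y * a⁻¹ = z * y := by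
    intro y hy hyc
    refine F.eq_of_co (conj_rad ha.1 hy) hy ?_
    rw [F.conj a ha.1 y hy, qList_fix hma hyc]
  rcases hax x hx hco with h | h
  · exact mul_inv_eq_iff_eq_mul.1 h
  exfalso
  have hpz : p * z * p⁻¹ = z := by rw [mem_cen.1 hpc, mul_inv_cancel_right]
  have hstep : ∀ y : G, a * y * a⁻¹ = z * y →
      a * (p * y * p⁻¹) * a⁻¹ = z * (p * y * p⁻¹) := by
    intro y hy
    have hpa : p⁻¹ * a⁻¹ = a⁻¹ * p⁻¹ := by rw [← mul_inv_rev, ← hap, mul_inv_rev]
    calc a * (p * y * p⁻¹) * a⁻¹ = (a * p) * y * (p⁻¹ * a⁻¹) := by group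
      _ = (p * a) * y * (a⁻¹ * p⁻¹) := by rw [hap, hpa]
      _ = p * (a * y * a⁻¹) * p⁻¹ := by group
      _ = p * (z * y) * p⁻¹ := by rw [hy]
      _ = (p * z * p⁻¹) * (p * y * p⁻¹) := by group
      _ = z * (p * y * p⁻¹) := by rw [hpz]
  set y := p * x * p⁻¹ with hy
  set y' := p * y * p⁻¹ with hy'
  have hyr : y ∈ Rad z := conj_rad hpc hx
  have hy'r : y' ∈ Rad z := conj_rad hpc hyr
  have hy2 : a * y * a⁻¹ = z * y := hstep x h
  have hy3 : a * y' * a⁻¹ = z * y' := hstep y hy2
  have hs : x * y * y' = 1 ∨ x * y * y' = z := by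
    refine (F.co_eq_zero _ (mul_mem (mul_mem hx hyr) hy'r)).1 ?_
    rw [F.co_mul _ (mul_mem hx hyr) _ hy'r, F.co_mul x hx y hyr, hy', F.conj p hpc y hyr, hy,
      F.conj p hpc x hx, hmp]
    exact pOm_sum (F.co_lt x hx)
  have hfix : a * (x * y * y') * a⁻¹ = x * y * y' := by
    rcases hs with e | e <;> rw [e]
    · group
    · rw [mem_cen.1 ha.1, mul_inv_cancel_right]
  have hxz : x * z = z * x := mem_cen.1 (rad_le_cen' hx)
  have hyz : x * y * z = z * (x * y) := mem_cen.1 (rad_le_cen' (mul_mem hx hyr))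
  have : a * (x * y * y') * a⁻¹ = z * (x * y * y') := by
    calc a * (x * y * y') * a⁻¹ = (a * x * a⁻¹) * (a * y * a⁻¹) * (a * y' * a⁻¹) := by group
      _ = z * x * (z * y) * (z * y') := by rw [h, hy2, hy3]
      _ = z * (x * z) * y * (z * y') := by group
      _ = z * (z * x) * y * (z * y') := by rw [hxz]
      _ = (z * z) * ((x * y * z) * y') := by group
      _ = z * (x * y * y') := by rw [F.z_sq, hyz]; group
  rw [hfix] at this
  exact F.z_ne_one (mul_right_cancel (this.symm.trans (one_mul _).symm))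

end Frame

end CfsgLib.J4Type
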