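import Cfsg.Agent.Lib.J4Type.PlaneSyl
import Cfsg.Agent.Lib.J4Type.PlaneRoot
import Cfsg.Agent.Lib.Transfer.Thompson

/-!
Thompson transfer in the Janko-four type: an involution of the centraliser of the central
involution inducing a semilinear map is conjugate to one inducing a linear map.
-/

set_option autoImplicit false

namespace CfsgLib.J4Type

open Cfsg

theorem linear_or_anti {m : List ℕ} (hm : InL m) :
    mm m pOm = mm pOm m ∨ mm m pOm = mm (mm pOm pOm) m := by
  have h := gens_pOm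
  simp only [Bool.and_eq_true, List.all_eq_true, beq_iff_eq] at h
  obtain ⟨⟨⟨hl, hs⟩, -⟩, -⟩ := h
  induction hm with
  | one =>
    left
    rw [mm_idM' pOm_facts.2.2.2, mm_idM_right pOm_facts.2.2.2]
  | mul g hg _ ih =>
    rename_i m' _
    simp only [gensL, List.mem_cons, List.not_mem_nil, or_false] at hg
    have hlin : g ≠ sig → mm g pOm = mm pOm g := fun hne => hl g (by
      simp only [List.mem_cons, List.not_mem_nil, or_false]
      tauto)
    rcases eq_or_ne g sig with rfl | hne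
    · have h4 : mm (mm pOm pOm) (mm pOm pOm) = pOm := by decide +kernel
      have hs' : mm sig (mm pOm pOm) = mm pOm sig := by
        rw [← mm_assoc', hs, mm_assoc', hs, ← mm_assoc', h4]
      rcases ih with ih | ih
      · right
        rw [mm_assoc', ih, ← mm_assoc', hs, mm_assoc']
      · left
        rw [mm_assoc', ih, ← mm_assoc', hs', mm_assoc']
    · have hg' := hlin hne
      rcases ih with ih | ih
      · left
        rw [mm_assoc', ih, ← mm_assoc', hg', mm_assoc']
      · right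
        have hg2 : mm g (mm pOm pOm) = mm (mm pOm pOm) g := by
          rw [← mm_assoc', hg', mm_assoc', hg', ← mm_assoc']
        rw [mm_assoc', ih, ← mm_assoc', hg2, mm_assoc']

theorem linear_of_inX {m : List ℕ} (hm : InX m) : mm m pOm = mm pOm m := by
  induction hm with
  | one => rw [mm_idM' pOm_facts.2.2.2, mm_idM_right pOm_facts.2.2.2]
  | mul g hg _ ih =>
    have h := gens_pOm
    simp only [Bool.and_eq_true, List.all_eq_true, beq_iff_eq] at h
    rw [mm_assoc', ih, ← mm_assoc', h.1.1.1 g hg, mm_assoc']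

variable {G : Type*} [Group G] [Finite G] {z : G} {P : Subgroup G}

namespace Frame

variable (F : Frame z P)
include F

omit [Finite G] in
theorem inX_of_linear {m : List ℕ} (hm : InL m) (hc : mm m pOm = mm pOm m) : InX m := by
  obtain ⟨h, hh, e⟩ := F.mat_surj m hm
  rw [← e]
  exact F.mat_linear h (F.mem_CP_of hh.1 hh.2 (by rw [e]; exact hc))

omit [Finite G] in
theorem inX_iff {h : G} (hh : h ∈ Cen z) :
    InX (F.mat h) ↔ mm (F.mat h) pOm = mm pOm (F.mat h) :=
  ⟨linear_of_inX, F.inX_of_linear (F.mat_inL h hh)⟩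

omit [Finite G] in
theorem linear_mul_iff {a b : G} (ha : a ∈ Cen z) (hb : b ∈ Cen z)
    (hb' : ¬ InX (F.mat b)) : InX (F.mat (a * b)) ↔ ¬ InX (F.mat a) := by
  have hb'' := (linear_or_anti (F.mat_inL b hb)).resolve_left (fun h => hb' ((F.inX_iff hb).2 h))
  have h4 : mm (mm pOm pOm) (mm pOm pOm) = pOm := by decide +kernel
  rw [F.inX_iff (mul_mem ha hb), F.inX_iff ha, F.mat_mul a ha b hb, mm_assoc', hb'']
  constructor
  · intro h hla
    have h2 : mm (F.mat a) (mm pOm pOm) = mm (mm pOm pOm) (F.mat a) := by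
      rw [← mm_assoc', hla, mm_assoc', hla, ← mm_assoc']
    rw [← mm_assoc', h2, ← mm_assoc', mm_assoc' _ (F.mat a)] at h
    exact pOm_facts.2.2.1 (F.mat_cancel_right (mul_mem ha hb)
      (good_mm pOm_facts.2.2.2 pOm_facts.2.2.2) pOm_facts.2.2.2 (by
      rw [F.mat_mul a ha b hb, h, mm_assoc']))
  · intro hla
    have ha' := (linear_or_anti (F.mat_inL a ha)).resolve_left hla
    have h2 : mm (F.mat a) (mm pOm pOm) = mm pOm (F.mat a) := by
      rw [← mm_assoc', ha', mm_assoc', ha', ← mm_assoc', h4]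
    rw [← mm_assoc', h2, mm_assoc']

/-- An involution of the centraliser is conjugate to one inducing a linear map. -/
theorem exists_conj_inX [IsSimpleGroup G] {t : G} (ht : t ∈ Cen z) (h2 : t * t = 1) :
    ∃ g : G, g * t * g⁻¹ ∈ Cen z ∧ InX (F.mat (g * t * g⁻¹)) := by
  classical
  by_cases hX : InX (F.mat t)
  · exact ⟨1, by simpa using ht, by simpa using hX⟩
  have : Fact (Nat.Prime 2) := ⟨Nat.prime_two⟩
  have hp : IsPGroup 2 (Subgroup.zpowers t) := IsPGroup.of_card (n := 1) (by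
    rw [Nat.card_zpowers, pow_one]
    exact orderOf_eq_prime (by rw [pow_two, h2]) fun h => hX (by
      rw [h, F.mat_one']; exact InX.one))
  obtain ⟨h, hh, hmap⟩ := F.exists_conj_T₀ (Subgroup.zpowers_le.2 ht) hp
  have huT := hmap t (Subgroup.mem_zpowers t)
  set u := h * t * h⁻¹ with hu
  by_cases huX : InX (F.mat u)
  · exact ⟨h, F.T₀_le_cen huT, huX⟩
  obtain ⟨S, hS⟩ := F.exists_sylow_T₀
  let Q' : Submonoid G :=
    { carrier := {x | x ∈ F.T₀ ∧ InX (F.mat x)}
      one_mem' := ⟨one_mem _, by rw [F.mat_one']; exact InX.one⟩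
      mul_mem' := fun {a b} ha hb => by
        refine ⟨mul_mem ha.1 hb.1, (F.inX_iff (F.T₀_le_cen (mul_mem ha.1 hb.1))).2 ?_⟩
        rw [F.mat_mul a (F.T₀_le_cen ha.1) b (F.T₀_le_cen hb.1), mm_assoc', linear_of_inX hb.2,
          ← mm_assoc', linear_of_inX ha.2, mm_assoc'] }
  let Q : Subgroup G :=
    { toSubmonoid := Q'
      inv_mem' := fun {x} hx => by
        have h' : x⁻¹ ∈ Submonoid.powers x := by
          refine ⟨orderOf x - 1, eq_inv_of_mul_eq_one_left ?_⟩
          rw [← pow_succ, Nat.sub_add_cancel (orderOf_pos x), pow_orderOf_eq_one]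
        exact (Submonoid.powers_le.2 hx) h' }
  have hQ : Q.relIndex (S : Subgroup G) = 2 := by
    rw [Subgroup.relIndex, Subgroup.index_eq_two_iff]
    refine ⟨⟨u, hS ▸ huT⟩, fun b => ?_⟩
    have hb : (b : G) ∈ F.T₀ := hS ▸ b.2
    have key := F.linear_mul_iff (F.T₀_le_cen hb) (F.T₀_le_cen huT) huX
    simp only [Subgroup.mem_subgroupOf, Subgroup.coe_mul]
    change Xor ((b : G) * u ∈ F.T₀ ∧ InX (F.mat ((b : G) * u)))
      ((b : G) ∈ F.T₀ ∧ InX (F.mat b))
    by_cases hbX : InX (F.mat b)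
    · exact Or.inr ⟨⟨hb, hbX⟩, fun hc => key.1 hc.2 hbX⟩
    · exact Or.inl ⟨⟨mul_mem hb huT, key.2 hbX⟩, fun hc => hbX hc.2⟩
  have hu2 : u ^ 2 = 1 := by
    rw [pow_two, hu, show h * t * h⁻¹ * (h * t * h⁻¹) = h * (t * t) * h⁻¹ by group, h2]
    group
  rcases CfsgLib.Transfer.thompson_transfer_involution S (Q := Q) (fun x hx => hS ▸ hx.1) hQ
    hu2 (hS ▸ huT) with ⟨M, hM, hMi, -⟩ | ⟨g, hg⟩
  · exfalso
    rcases hM.eq_bot_or_eq_top with h' | h'
    · rw [h', Subgroup.index_bot] at hMi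
      have hdvd := Subgroup.card_subgroup_dvd_card F.T₀
      rw [F.card_T₀, hMi] at hdvd
      exact absurd (Nat.le_of_dvd (by norm_num) hdvd) (by norm_num)
    · rw [h', Subgroup.index_top] at hMi
      exact absurd hMi (by norm_num)
  · refine ⟨g * h, ?_⟩
    have e : g * h * t * (g * h)⁻¹ = g * u * g⁻¹ := by rw [hu]; group
    rw [e]
    exact ⟨F.T₀_le_cen hg.1, hg.2⟩

end Frame

end CfsgLib.J4Type
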