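import Cfsg.Agent.Lib.J4Type.Frame
import Cfsg.Agent.Lib.Solvable.PCore
import Cfsg.Agent.Lib.KnownA.MathieuOut2
import Cfsg.Agent.Lib.Golay.Mathieu

/-!
Elementary consequences of a frame: linearity of the matrices, the multiplicativity of the
coordinates, and the order of the centraliser of the involution.
-/

set_option autoImplicit false

namespace CfsgLib.J4Type

open Cfsg

theorem beq_zero_one : Nat.beq 0 1 = false := rfl

theorem beq_one_one : Nat.beq 1 1 = true := rfl

theorem mv_zero' : ∀ m : List ℕ, mv m 0 = 0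
  | [] => rfl
  | a :: l => by simp [mv, mv_zero' l, beq_zero_one]

theorem mv_xor' : ∀ (m : List ℕ) (x y : ℕ), mv m (x ^^^ y) = mv m x ^^^ mv m y
  | [], _, _ => by simp [mv]
  | a :: l, x, y => by
    have hd : (x ^^^ y) / 2 = x / 2 ^^^ y / 2 := Nat.xor_div_two
    have hm : (x ^^^ y) % 2 = (x % 2 + y % 2) % 2 := by
      have := Nat.testBit_xor x y 0
      simp only [Nat.testBit_zero] at this
      rcases Nat.mod_two_eq_zero_or_one x with hx | hx <;>
        rcases Nat.mod_two_eq_zero_or_one y with hy | hy <;>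
        rcases Nat.mod_two_eq_zero_or_one (x ^^^ y) with hz | hz <;>
        simp_all
    simp only [mv, hd, mv_xor' l, hm]
    rcases Nat.mod_two_eq_zero_or_one x with hx | hx <;>
      rcases Nat.mod_two_eq_zero_or_one y with hy | hy <;>
      simp [hx, hy, beq_zero_one, beq_one_one, Nat.xor_assoc, Nat.xor_comm, Nat.xor_left_comm]

theorem mv_mm' (a : List ℕ) : ∀ (b : List ℕ) (v : ℕ), mv (mm a b) v = mv a (mv b v)
  | [], v => by simp [mm, mv, mv_zero']
  | c :: l, v => by
    have ih := mv_mm' a l (v / 2)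
    simp only [mm] at ih
    simp only [mm, List.map_cons, mv, ih]
    rcases Nat.mod_two_eq_zero_or_one v with hv | hv <;> simp [hv, beq_zero_one, beq_one_one, mv_xor']

theorem mm_assoc' (a b c : List ℕ) : mm (mm a b) c = mm a (mm b c) := by
  simp only [mm, List.map_map]
  exact List.map_congr_left fun x _ => mv_mm' a b x

theorem mv_idM' {v : ℕ} (hv : v < 4096) : mv idM v = v := by
  have h : (List.range 4096).all (fun v => Nat.beq (mv idM v) v) = true := by decide +kernel
  rw [List.all_eq_true] at h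
  exact Nat.eq_of_beq_eq_true (h v (List.mem_range.2 hv))

theorem xor_lt {a b : ℕ} (ha : a < 4096) (hb : b < 4096) : a ^^^ b < 4096 :=
  Nat.xor_lt_two_pow (n := 12) ha hb

/-- A list of twelve vectors. -/
def Good (m : List ℕ) : Prop := m.length = 12 ∧ ∀ a ∈ m, a < 4096

theorem mv_lt : ∀ {m : List ℕ}, (∀ a ∈ m, a < 4096) → ∀ v, mv m v < 4096
  | [], _, _ => by simp [mv]
  | a :: l, h, v => by
    have hl := mv_lt (m := l) (fun b hb => h b (List.mem_cons_of_mem _ hb)) (v / 2)
    simp only [mv]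
    cases Nat.beq (v % 2) 1
    · exact hl
    · exact xor_lt (h a (List.mem_cons_self ..)) hl

theorem good_mm {a b : List ℕ} (ha : Good a) (hb : Good b) : Good (mm a b) := by
  refine ⟨by simp [mm, hb.1], fun x hx => ?_⟩
  simp only [mm, List.mem_map] at hx
  obtain ⟨y, -, rfl⟩ := hx
  exact mv_lt ha.2 y

theorem good_idM : Good idM := ⟨rfl, by decide⟩

theorem good_gen {g : List ℕ} (hg : g ∈ gensL) : Good g := by
  have h : (gensL.all fun g => g.length == 12 && g.all fun a => Nat.blt a 4096) = true := by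
    decide +kernel
  simp only [List.all_eq_true, Bool.and_eq_true, beq_iff_eq] at h
  exact ⟨(h g hg).1, fun a ha => Nat.le_of_ble_eq_true ((h g hg).2 a ha)⟩

theorem InL.good {m : List ℕ} (h : InL m) : Good m := by
  induction h with
  | one => exact good_idM
  | mul g hg _ ih => exact good_mm (good_gen hg) ih

theorem InX.toInL {m : List ℕ} (h : InX m) : InL m := by
  induction h with
  | one => exact InL.one
  | mul g hg _ ih =>
    refine InL.mul g ?_ ih
    simp only [List.mem_cons, List.not_mem_nil, or_false, gensL] at hg ⊢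
    tauto

theorem mm_idM' {m : List ℕ} (h : Good m) : mm idM m = m := by
  rw [mm]
  conv_rhs => rw [← List.map_id m]
  exact List.map_congr_left fun a ha => mv_idM' (h.2 a ha)

theorem mm_idM_right {m : List ℕ} (h : Good m) : mm m idM = m := by
  obtain ⟨hl, -⟩ := h
  match m, hl with
  | [a, b, c, d, e, f, g, i, j, k, l, n], _ => simp [mm, idM, List.range_succ, mv, beq_zero_one, beq_one_one]

theorem mv_idx {m : List ℕ} (h : Good m) {i : ℕ} (hi : i < 12) : mv m (2 ^ i) = m.getD i 0 := by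
  conv_rhs => rw [← mm_idM_right h]
  simp [mm, idM, List.getD_eq_getElem?_getD, hi]

theorem good_ext {a b : List ℕ} (ha : Good a) (hb : Good b)
    (h : ∀ i < 12, mv a (2 ^ i) = mv b (2 ^ i)) : a = b := by
  refine List.ext_getElem (by rw [ha.1, hb.1]) fun i hia hib => ?_
  have := h i (ha.1 ▸ hia)
  rw [mv_idx ha (ha.1 ▸ hia), mv_idx hb (ha.1 ▸ hia)] at this
  simpa [List.getD_eq_getElem?_getD, hia, hib] using this

theorem card_mulAut_M22' : Nat.card (MulAut ↥Spor.M22) = 887040 := by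
  have hs : IsSimpleGroup ↥Spor.M22 := CfsgLib.Golay.isSimple_sporM22
  have hout := CfsgLib.KnownA.Mathieu.out_M22
  rw [Subgroup.card_eq_card_quotient_mul_card_subgroup (Inn ↥Spor.M22),
    show Nat.card (MulAut ↥Spor.M22 ⧸ Inn ↥Spor.M22) = 2 from hout]
  have hker : (MulAut.conj : ↥Spor.M22 →* MulAut ↥Spor.M22).ker = ⊥ := by
    rcases hs.eq_bot_or_eq_top_of_normal _
      (MonoidHom.normal_ker (MulAut.conj : ↥Spor.M22 →* MulAut ↥Spor.M22)) with h | h
    · exact h
    exfalso
    have hcomm : ∀ a b : ↥Spor.M22, a * b = b * a := by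
      intro a b
      have ha : MulAut.conj a = 1 := by rw [← MonoidHom.mem_ker, h]; trivial
      have := congrArg (fun f : MulAut ↥Spor.M22 => f b) ha
      simpa [mul_inv_eq_iff_eq_mul] using this
    letI : CommGroup ↥Spor.M22 := { (inferInstance : Group ↥Spor.M22) with mul_comm := hcomm }
    have := IsSimpleGroup.prime_card (α := ↥Spor.M22)
    rw [CfsgLib.Golay.card_sporM22] at this
    exact absurd this (by norm_num)
  have hcard : Nat.card (Inn ↥Spor.M22) = 443520 := by
    rw [Inn, ← CfsgLib.Golay.card_sporM22]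
    exact (Nat.card_congr (MonoidHom.ofInjective ((MonoidHom.ker_eq_bot_iff _).1 hker)).toEquiv).symm
  rw [hcard]

variable {G : Type*} [Group G] {z : G} {P : Subgroup G}

theorem rad_le_cen' : Rad z ≤ Cen z := by
  rw [Rad, twoCoreOfCentralizer]
  exact Subgroup.map_subtype_le _

theorem conj_rad {h x : G} (hh : h ∈ Cen z) (hx : x ∈ Rad z) : h * x * h⁻¹ ∈ Rad z := by
  rw [Rad, twoCoreOfCentralizer] at hx ⊢
  obtain ⟨y, hy, rfl⟩ := hx
  exact ⟨⟨h, hh⟩ * y * ⟨h, hh⟩⁻¹, (CfsgLib.Solvable.pCore_normal 2 _).conj_mem y hy _, rfl⟩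

theorem z_mem_cen : z ∈ Cen z := Subgroup.mem_centralizer_singleton_iff.2 rfl

theorem mem_cen {h : G} : h ∈ Cen z ↔ h * z = z * h := Subgroup.mem_centralizer_singleton_iff

namespace Frame

variable (F : Frame z P)
include F

theorem orderOf_z' : orderOf z = 2 := F.type.1

theorem z_ne_one : z ≠ 1 := fun h => by
  have := F.orderOf_z'
  rw [h, orderOf_one] at this
  exact absurd this (by norm_num)

theorem z_sq : z * z = 1 := by
  have := pow_orderOf_eq_one z
  rwa [F.orderOf_z', pow_two] at this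

theorem card_rad : Nat.card (Rad z) = 2 ^ 13 := F.type.2.2.1

theorem rad_cent : Cen z ⊓ Subgroup.centralizer (Rad z : Set G) ≤ Rad z := F.type.2.2.2.1

theorem card_P' : Nat.card P = 3 := F.type.2.2.2.2.2.1

theorem rad_inf_centP : Rad z ⊓ Subgroup.centralizer (P : Set G) = Subgroup.zpowers z :=
  F.type.2.2.2.2.2.2.1

theorem P_le_cen : P ≤ Cen z := by
  obtain ⟨N, -, hN, -, -, -, hP⟩ := F.type.2.2.2.2.1
  exact hP.trans hN

theorem z_mem_rad' : z ∈ Rad z :=
  (Subgroup.mem_inf.1 (F.rad_inf_centP.symm.le (Subgroup.mem_zpowers z))).1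

theorem eq_one_or_z {x : G} (hx : x ∈ Subgroup.zpowers z) : x = 1 ∨ x = z := by
  obtain ⟨n, rfl⟩ := Subgroup.mem_zpowers_iff.1 hx
  have h2 : z ^ (2 : ℤ) = 1 := by rw [zpow_two, F.z_sq]
  rcases Int.even_or_odd n with ⟨k, rfl⟩ | ⟨k, rfl⟩
  · exact .inl (by rw [← two_mul, zpow_mul, h2, one_zpow])
  · exact .inr (by rw [zpow_add, zpow_mul, h2, one_zpow, one_mul, zpow_one])

theorem co_one' : F.co 1 = 0 := (F.co_eq_zero 1 (one_mem _)).2 (.inl rfl)

theorem co_z' : F.co z = 0 := (F.co_eq_zero z F.z_mem_rad').2 (.inr rfl)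

theorem co_inv' {x : G} (hx : x ∈ Rad z) : F.co x⁻¹ = F.co x := by
  have := F.co_mul x hx x⁻¹ (inv_mem hx)
  rw [mul_inv_cancel, F.co_one'] at this
  exact (Nat.xor_eq_zero_iff.1 this.symm).symm

theorem eq_of_co {x y : G} (hx : x ∈ Rad z) (hy : y ∈ Rad z) (h : F.co x = F.co y) :
    x = y ∨ x = z * y := by
  have h0 : F.co (x * y⁻¹) = 0 := by
    rw [F.co_mul x hx y⁻¹ (inv_mem hy), F.co_inv' hy, h, Nat.xor_self]
  rcases (F.co_eq_zero _ (mul_mem hx (inv_mem hy))).1 h0 with h1 | h1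
  · exact .inl (mul_inv_eq_one.1 h1)
  · exact .inr (mul_inv_eq_iff_eq_mul.1 h1)

theorem good_mat {h : G} (hh : h ∈ Cen z) : Good (F.mat h) := (F.mat_inL h hh).good

theorem mat_rad {x : G} (hx : x ∈ Rad z) : F.mat x = idM :=
  (F.mat_eq_id x (rad_le_cen' hx)).2 hx

theorem mat_one' : F.mat 1 = idM := F.mat_rad (one_mem _)

theorem mat_inv_mul {h : G} (hh : h ∈ Cen z) : mm (F.mat h⁻¹) (F.mat h) = idM := by
  rw [← F.mat_mul _ (inv_mem hh) _ hh, inv_mul_cancel, F.mat_one']

theorem mat_mul_inv {h : G} (hh : h ∈ Cen z) : mm (F.mat h) (F.mat h⁻¹) = idM := by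
  rw [← F.mat_mul _ hh _ (inv_mem hh), mul_inv_cancel, F.mat_one']

theorem mat_cancel {h : G} (hh : h ∈ Cen z) {a b : List ℕ} (ha : Good a) (hb : Good b)
    (e : mm (F.mat h) a = mm (F.mat h) b) : a = b := by
  have := congrArg (mm (F.mat h⁻¹)) e
  rwa [← mm_assoc', ← mm_assoc', F.mat_inv_mul hh, mm_idM' ha, mm_idM' hb] at this

theorem mat_cancel_right {h : G} (hh : h ∈ Cen z) {a b : List ℕ} (ha : Good a) (hb : Good b)
    (e : mm a (F.mat h) = mm b (F.mat h)) : a = b := by
  have := congrArg (fun m => mm m (F.mat h⁻¹)) e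
  simp only [mm_assoc', F.mat_mul_inv hh] at this
  rwa [mm_idM_right ha, mm_idM_right hb] at this

theorem mat_eq_iff {a b : G} (ha : a ∈ Cen z) (hb : b ∈ Cen z) :
    F.mat a = F.mat b ↔ a⁻¹ * b ∈ Rad z := by
  rw [← F.mat_eq_id _ (mul_mem (inv_mem ha) hb), F.mat_mul _ (inv_mem ha) _ hb]
  refine ⟨fun h => by rw [← h, F.mat_inv_mul ha], fun h => ?_⟩
  exact F.mat_cancel (inv_mem ha) (F.good_mat ha) (F.good_mat hb)
    (by rw [F.mat_inv_mul ha, h])

theorem mat_conj {a b : G} (ha : a ∈ Cen z) (hb : b ∈ Cen z) {m : List ℕ} (hm : Good m)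
    (e : mm (F.mat a) (F.mat b) = mm m (F.mat a)) : F.mat (a * b * a⁻¹) = m := by
  rw [F.mat_mul _ (mul_mem ha hb) _ (inv_mem ha), F.mat_mul _ ha _ hb, e, mm_assoc',
    F.mat_mul_inv ha, mm_idM_right hm]

theorem qF_conj {h : G} (hh : h ∈ Cen z) {v : ℕ} (hv : v < 4096) :
    qF (mv (F.mat h) v) = qF v := by
  obtain ⟨x, hx, rfl⟩ := F.co_surj v hv
  rw [← F.conj h hh x hx]
  have h1 := F.sq _ (conj_rad hh hx)
  have h2 := F.sq x hx
  have h3 : h * x * h⁻¹ * (h * x * h⁻¹) = h * (x * x) * h⁻¹ := by group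
  rw [h3, h2] at h1
  have hz : h * z * h⁻¹ = z := by rw [mem_cen.1 hh, mul_inv_cancel_right]
  revert h1
  cases qF (F.co x) <;> cases qF (F.co (h * x * h⁻¹)) <;> intro h1 <;>
    simp [hz, F.z_ne_one, F.z_ne_one.symm] at h1 ⊢

theorem card_cen : Nat.card (Cen z) = 2 ^ 13 * 3 * 887040 := by
  obtain ⟨N, -, hNH, -, hcard, ⟨hn, ⟨e⟩⟩, -⟩ := F.type.2.2.2.2.1
  rw [Subgroup.card_eq_card_quotient_mul_card_subgroup (N.subgroupOf (Cen z)),
    Nat.card_congr e.toEquiv, card_mulAut_M22',
    Nat.card_congr (Subgroup.subgroupOfEquivOfLe hNH).toEquiv, hcard,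
    show Nat.card (twoCoreOfCentralizer z) = 2 ^ 13 from F.card_rad]
  norm_num

theorem comm_iff {x y : G} (hx : x ∈ Rad z) (hy : y ∈ Rad z) :
    x * y = y * x ↔ bF (F.co x) (F.co y) = false := by
  have h1 := F.sq x hx
  have h2 := F.sq y hy
  have h3 := F.sq _ (mul_mem hx hy)
  rw [F.co_mul x hx y hy] at h3
  have key : x * y = y * x ↔ x * y * (x * y) = x * x * (y * y) := by
    constructor
    · intro h
      calc x * y * (x * y) = x * (y * x) * y := by group
        _ = x * (x * y) * y := by rw [h]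
        _ = x * x * (y * y) := by group
    · intro h
      have : x * (y * x) * y = x * (x * y) * y :=
        (show x * (y * x) * y = x * y * (x * y) by group).trans
          (h.trans (show x * x * (y * y) = x * (x * y) * y by group))
      exact (mul_left_cancel (mul_right_cancel this)).symm
  rw [key, h1, h2, h3, bF]
  cases qF (F.co x) <;> cases qF (F.co y) <;> cases qF (F.co x ^^^ F.co y) <;>
    simp [F.z_sq, F.z_ne_one, F.z_ne_one.symm]

end Frame

end CfsgLib.J4Type
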