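import Cfsg.Agent.Lib.J4Type.Model
import Cfsg.Prelude.Def_JankoFourType

/-!
The interface between the abstract hypothesis of Janko-four type and its explicit model.
-/

set_option autoImplicit false

namespace CfsgLib.J4Type

open Cfsg

variable {G : Type*} [Group G]

/-- The centraliser of the involution. -/
abbrev Cen (z : G) : Subgroup G := Subgroup.centralizer ({z} : Set G)

/-- The extraspecial radical. -/
abbrev Rad (z : G) : Subgroup G := twoCoreOfCentralizer z

/-- The centraliser of `P` in the centraliser of `z`. -/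
abbrev CP (z : G) (P : Subgroup G) : Subgroup G :=
  Subgroup.centralizer ({z} : Set G) ⊓ Subgroup.centralizer (P : Set G)

/-- Coordinates on the radical and on the centraliser modulo it. -/
structure Frame (z : G) (P : Subgroup G) where
  /-- The hypothesis. -/
  type : IsOfJankoFourTypeWith z P
  /-- The coordinate of an element of the radical. -/
  co : G → ℕ
  /-- The matrix of an element of the centraliser. -/
  mat : G → List ℕ
  co_lt : ∀ x ∈ Rad z, co x < 4096
  co_mul : ∀ x ∈ Rad z, ∀ y ∈ Rad z, co (x * y) = co x ^^^ co y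
  co_eq_zero : ∀ x ∈ Rad z, co x = 0 ↔ x = 1 ∨ x = z
  co_surj : ∀ v < 4096, ∃ x ∈ Rad z, co x = v
  sq : ∀ x ∈ Rad z, x * x = if qF (co x) then z else 1
  conj : ∀ h ∈ Cen z, ∀ x ∈ Rad z, co (h * x * h⁻¹) = mv (mat h) (co x)
  mat_inL : ∀ h ∈ Cen z, InL (mat h)
  mat_mul : ∀ a ∈ Cen z, ∀ b ∈ Cen z, mat (a * b) = mm (mat a) (mat b)
  mat_eq_id : ∀ h ∈ Cen z, mat h = idM ↔ h ∈ Rad z
  mat_surj : ∀ m, InL m → ∃ h ∈ Cen z ⊓ Subgroup.normalizer (P : Set G), mat h = m
  mat_linear : ∀ h ∈ CP z P, InX (mat h)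
  mat_scalar : ∃ p ∈ P, mat p = pOm

end CfsgLib.J4Type
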