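import Cfsg.Agent.Lib.J4Type.PlaneUnique

/-!
General facts about an involution of the centraliser in a frame: sizes of fixed vectors and of
commutators, isotropic sets, and the intersection of the radical with a conjugate radical.
-/

set_option autoImplicit false

namespace CfsgLib.J4Type

open Cfsg

/-- The commutators of a matrix on the vectors. -/
def imSet (s : List ℕ) : Finset ℕ := (Finset.range 4096).image fun u => mv s u ^^^ u

theorem bF_symm (v w : ℕ) : bF v w = bF w v := by
  simp only [bF, Nat.xor_comm v w, Bool.xor_comm (qF v) (qF w)]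

theorem bF_xor_right' (u v w : ℕ) : bF u (v ^^^ w) = (bF u v).xor (bF u w) := by
  rw [bF_symm, bF_xor_left, bF_symm v, bF_symm w]

theorem bF_zero_right' (u : ℕ) : bF u 0 = false := by
  have := bF_xor_right' u 0 0
  rw [Nat.xor_self, Bool.xor_self] at this
  exact this

theorem imSet_xor {s : List ℕ} {a b : ℕ} (ha : a ∈ imSet s) (hb : b ∈ imSet s) :
    a ^^^ b ∈ imSet s := by
  simp only [imSet, Finset.mem_image, Finset.mem_range] at ha hb ⊢
  obtain ⟨u, hu, rfl⟩ := ha
  obtain ⟨v, hv, rfl⟩ := hb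
  refine ⟨u ^^^ v, xor_lt hu hv, ?_⟩
  rw [mv_xor']
  simp [Nat.xor_assoc, Nat.xor_comm, Nat.xor_left_comm]

theorem moveSum_one (s : List ℕ) (v : ℕ) : moveSum [s] v = mv s v ^^^ v := by
  simp [moveSum]

theorem spanUp_im (s : List ℕ) (bound : ℕ) :
    (spanUp [s] bound idM [0]).Nodup ∧ ∀ w ∈ spanUp [s] bound idM [0], w ∈ imSet s := by
  obtain ⟨hn, -, hpre⟩ := spanUp_inv [s] bound idM [0] (fun v hv => good_idM.2 v hv)
    ⟨by simp, fun a ha b hb => by
      rw [List.mem_singleton] at ha hb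
      simp [ha, hb],
      fun w hw => ⟨0, by norm_num, by
        rw [List.mem_singleton] at hw
        rw [hw, moveSum_one, mv_zero']
        rfl⟩⟩
  refine ⟨hn, fun w hw => ?_⟩
  obtain ⟨v, hv, rfl⟩ := hpre w hw
  exact Finset.mem_image.2 ⟨v, Finset.mem_range.2 hv, (moveSum_one s v).symm⟩

/-- The sum of signs of an alternating pairing over an isotropic set is at most the number of
vectors: an isotropic set closed under addition has at most 64 elements. -/
theorem iso_card {I : Finset ℕ} (hlt : ∀ v ∈ I, v < 4096)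
    (hx : ∀ a ∈ I, ∀ b ∈ I, a ^^^ b ∈ I) (hiso : ∀ a ∈ I, ∀ b ∈ I, bF a b = false) :
    I.card ≤ 64 := by
  classical
  rcases I.eq_empty_or_nonempty with rfl | ⟨a₀, ha₀⟩
  · simp
  have h0 : 0 ∈ I := by simpa using hx a₀ ha₀ a₀ ha₀
  let σ : ℕ → ℕ → ℤ := fun v a => bif bF v a then -1 else 1
  have hnonneg : ∀ v, 0 ≤ ∑ a ∈ I, σ v a := by
    intro v
    by_cases h : ∃ a ∈ I, bF v a = true
    · obtain ⟨b, hb, hbt⟩ := h
      have : ∑ a ∈ I, σ v a = 0 := by
        refine Finset.sum_involution (fun a _ => a ^^^ b) ?_ ?_ (fun a ha => hx a ha b hb) ?_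
        · intro a _
          simp only [σ, bF_xor_right', hbt]
          cases bF v a <;> simp
        · intro a _ _ h
          have h2 := congrArg (a ^^^ ·) h
          simp only [← Nat.xor_assoc, Nat.xor_self, Nat.zero_xor] at h2
          rw [h2, bF_zero_right'] at hbt
          exact Bool.noConfusion hbt
        · intro a _
          simp [Nat.xor_assoc]
      omega
    · push Not at h
      refine Finset.sum_nonneg fun a ha => ?_
      simp [σ, h a ha]
  have hI : ∀ v ∈ I, ∑ a ∈ I, σ v a = I.card := by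
    intro v hv
    rw [Finset.sum_congr rfl fun a ha => show σ v a = 1 by simp [σ, hiso v hv a ha]]
    simp
  have htot : ∑ v ∈ Finset.range 4096, ∑ a ∈ I, σ v a = 4096 := by
    rw [Finset.sum_comm, ← Finset.add_sum_erase I _ h0]
    have h1 : ∑ v ∈ Finset.range 4096, σ v 0 = 4096 := by
      rw [Finset.sum_congr rfl fun v _ => show σ v 0 = 1 by simp [σ, bF_zero_right']]
      simp
    rw [h1, Finset.sum_eq_zero fun a ha => ?_, add_zero]
    obtain ⟨ha0, haI⟩ := Finset.mem_erase.1 ha
    obtain ⟨w, hw, hwt⟩ := exists_pairing ha0 (hlt a haI)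
    refine Finset.sum_involution (fun v _ => v ^^^ w) ?_ ?_
      (fun v hv => Finset.mem_range.2 (xor_lt (Finset.mem_range.1 hv) hw)) ?_
    · intro v _
      simp only [σ, bF_xor_left, bF_symm w a, hwt]
      cases bF v a <;> simp
    · intro v _ _ h
      have h2 := congrArg (v ^^^ ·) h
      simp only [← Nat.xor_assoc, Nat.xor_self, Nat.zero_xor] at h2
      rw [h2, bF_zero_right'] at hwt
      exact Bool.noConfusion hwt
    · intro v _
      simp [Nat.xor_assoc]
  have hle : ∑ v ∈ I, ∑ a ∈ I, σ v a ≤ ∑ v ∈ Finset.range 4096, ∑ a ∈ I, σ v a :=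
    Finset.sum_le_sum_of_subset_of_nonneg (fun v hv => Finset.mem_range.2 (hlt v hv))
      fun v _ _ => hnonneg v
  rw [Finset.sum_congr rfl hI, htot, Finset.sum_const, nsmul_eq_mul] at hle
  have : I.card * I.card ≤ 4096 := by exact_mod_cast hle
  nlinarith

variable {G : Type*} [Group G] {z : G} {P : Subgroup G}

namespace Frame

variable (F : Frame z P)
include F

theorem mv_lt_mat {h : G} (hh : h ∈ Cen z) (v : ℕ) : mv (F.mat h) v < 4096 :=
  mv_lt (F.good_mat hh).2 v

theorem mat_invol {t : G} (ht : t ∈ Cen z) (h2 : t * t = 1) :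
    mm (F.mat t) (F.mat t) = idM := by
  rw [← F.mat_mul t ht t ht, h2, F.mat_one']

theorem invol_mv {t : G} (ht : t ∈ Cen z) (h2 : t * t = 1) {v : ℕ} (hv : v < 4096) :
    mv (F.mat t) (mv (F.mat t) v) = v := by
  rw [← mv_mm', F.mat_invol ht h2, mv_idM' hv]

theorem im_fixed {t : G} (ht : t ∈ Cen z) (h2 : t * t = 1) {d : ℕ}
    (hd : d ∈ imSet (F.mat t)) : d < 4096 ∧ mv (F.mat t) d = d := by
  simp only [imSet, Finset.mem_image, Finset.mem_range] at hd
  obtain ⟨u, hu, rfl⟩ := hd
  refine ⟨xor_lt (F.mv_lt_mat ht u) hu, ?_⟩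
  rw [mv_xor', F.invol_mv ht h2 hu, Nat.xor_comm]

theorem im_perp {t : G} (ht : t ∈ Cen z) {d w : ℕ} (hd : d ∈ imSet (F.mat t)) (hw : w < 4096)
    (hfix : mv (F.mat t) w = w) : bF d w = false := by
  simp only [imSet, Finset.mem_image, Finset.mem_range] at hd
  obtain ⟨u, hu, rfl⟩ := hd
  have := F.bF_conj ht hu hw
  rw [hfix] at this
  rw [bF_xor_left, this, Bool.xor_self]

/-- There are `4096` vectors: at most as many as commutators times fixed vectors. -/
theorem im_mul_fix {t : G} (ht : t ∈ Cen z) {f : Finset ℕ}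
    (hf : ∀ v, v ∈ f ↔ v < 4096 ∧ mv (F.mat t) v = v) :
    (imSet (F.mat t)).card * f.card = 4096 := by
  classical
  have hfib : ∀ d ∈ imSet (F.mat t),
      ((Finset.range 4096).filter fun u => mv (F.mat t) u ^^^ u = d).card = f.card := by
    intro d hd
    simp only [imSet, Finset.mem_image, Finset.mem_range] at hd
    obtain ⟨u₀, hu₀, rfl⟩ := hd
    refine Finset.card_bij' (fun u _ => u ^^^ u₀) (fun v _ => v ^^^ u₀) ?_ ?_ ?_ ?_
    · intro u hu
      simp only [Finset.mem_filter, Finset.mem_range] at hu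
      refine (hf _).2 ⟨xor_lt hu.1 hu₀, ?_⟩
      rw [mv_xor']
      have h := hu.2
      have h1 : mv (F.mat t) u = mv (F.mat t) u₀ ^^^ u₀ ^^^ u := by
        rw [← h, Nat.xor_assoc, Nat.xor_self, Nat.xor_zero]
      rw [h1]
      simp [Nat.xor_assoc, Nat.xor_comm, Nat.xor_left_comm]
    · intro v hv
      obtain ⟨hv, hvf⟩ := (hf v).1 hv
      simp only [Finset.mem_filter, Finset.mem_range]
      refine ⟨xor_lt hv hu₀, ?_⟩
      rw [mv_xor', hvf]
      simp [Nat.xor_assoc, Nat.xor_comm, Nat.xor_left_comm]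
    · intro u _
      simp [Nat.xor_assoc]
    · intro v _
      simp [Nat.xor_assoc]
  have := Finset.card_eq_sum_card_image (fun u => mv (F.mat t) u ^^^ u) (Finset.range 4096)
  rw [Finset.card_range, show (Finset.range 4096).image (fun u => mv (F.mat t) u ^^^ u) =
    imSet (F.mat t) from rfl, Finset.sum_congr rfl hfib, Finset.sum_const, smul_eq_mul] at this
  exact this.symm

theorem card_imSet {t : G} (ht : t ∈ Cen z) (h2 : t * t = 1) :
    (imSet (F.mat t)).card ≤ 64 := by
  classical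
  have := F.im_mul_fix ht (f := (Finset.range 4096).filter fun v => mv (F.mat t) v = v)
    (fun v => by simp)
  have hsub : imSet (F.mat t) ⊆ (Finset.range 4096).filter fun v => mv (F.mat t) v = v :=
    fun d hd => by
      obtain ⟨h1, h2⟩ := F.im_fixed ht h2 hd
      simp [h1, h2]
  have := Finset.card_le_card hsub
  nlinarith

theorem conj_co_mul {t x : G} (ht : t ∈ Cen z) (hx : x ∈ Rad z) :
    x * t * x⁻¹ * t⁻¹ ∈ Rad z ∧
      F.co (x * t * x⁻¹ * t⁻¹) = mv (F.mat t) (F.co x) ^^^ F.co x := by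
  have h1 := conj_rad ht (inv_mem hx)
  have e : x * t * x⁻¹ * t⁻¹ = x * (t * x⁻¹ * t⁻¹) := by group
  refine ⟨e ▸ mul_mem hx h1, ?_⟩
  rw [e, F.co_mul x hx _ h1, F.conj t ht _ (inv_mem hx), F.co_inv' hx, Nat.xor_comm]

/-- The centraliser in the radical of an involution has at least 64 elements. -/
theorem card_cent_rad [Finite G] {t : G} (ht : t ∈ Cen z) (h2 : t * t = 1) :
    64 ≤ Nat.card ↥(Rad z ⊓ Subgroup.centralizer ({t} : Set G)) := by
  classical
  haveI := Fintype.ofFinite G
  set E : Finset G := (Rad z : Set G).toFinset with hE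
  set C : Finset G := E.filter fun x => x * t = t * x with hC
  have hEcard : E.card = 2 ^ 13 := by
    rw [← F.card_rad, hE]
    exact (Nat.card_eq_card_toFinset _).symm
  have hCcard : C.card = Nat.card ↥(Rad z ⊓ Subgroup.centralizer ({t} : Set G)) := by
    rw [← Nat.card_eq_finsetCard]
    refine Nat.card_congr (Equiv.subtypeEquivRight fun x => ?_)
    simp [hC, hE, Subgroup.mem_centralizer_singleton_iff]
  have hfib : ∀ a ∈ E.image (fun x => x * t * x⁻¹ * t⁻¹),
      (E.filter fun x => x * t * x⁻¹ * t⁻¹ = a).card ≤ C.card := by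
    intro a ha
    obtain ⟨x₀, hx₀, rfl⟩ := Finset.mem_image.1 ha
    refine Finset.card_le_card_of_injOn (fun x => x₀⁻¹ * x) ?_ fun a _ b _ h => mul_left_cancel h
    intro x hx
    simp only [Finset.coe_filter, hE, Set.mem_toFinset, SetLike.mem_coe, Set.mem_setOf_eq] at hx hx₀
    simp only [hC, hE, Finset.coe_filter, Set.mem_toFinset, SetLike.mem_coe, Set.mem_setOf_eq]
    refine ⟨mul_mem (inv_mem hx₀) hx.1, ?_⟩
    have e : x * t * x⁻¹ = x₀ * t * x₀⁻¹ := mul_right_cancel hx.2
    calc x₀⁻¹ * x * t = x₀⁻¹ * (x * t * x⁻¹) * x := by group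
      _ = x₀⁻¹ * (x₀ * t * x₀⁻¹) * x := by rw [e]
      _ = t * (x₀⁻¹ * x) := by group
  have himg : (E.image (fun x => x * t * x⁻¹ * t⁻¹)).card ≤ 128 := by
    set J := E.image (fun x => x * t * x⁻¹ * t⁻¹) with hJ
    have hJr : ∀ y ∈ J, y ∈ Rad z ∧ F.co y ∈ imSet (F.mat t) := by
      intro y hy
      obtain ⟨x, hx, rfl⟩ := Finset.mem_image.1 hy
      simp only [hE, Set.mem_toFinset, SetLike.mem_coe] at hx
      obtain ⟨h1, h2⟩ := F.conj_co_mul ht hx
      exact ⟨h1, Finset.mem_image.2 ⟨F.co x, Finset.mem_range.2 (F.co_lt x hx), h2.symm⟩⟩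
    have : J.card ≤ 2 * (J.image F.co).card := by
      refine Finset.card_le_mul_card_image J 2 fun v hv => ?_
      obtain ⟨x, hx, rfl⟩ := Finset.mem_image.1 hv
      refine le_trans (Finset.card_le_card (t := {x, z * x}) fun y hy => ?_) Finset.card_le_two
      rw [Finset.mem_filter] at hy
      rcases F.eq_of_co (hJr y hy.1).1 (hJr x hx).1 hy.2 with rfl | rfl <;> simp
    have hsub : J.image F.co ⊆ imSet (F.mat t) := fun v hv => by
      obtain ⟨x, hx, rfl⟩ := Finset.mem_image.1 hv
      exact (hJr x hx).2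
    have := Finset.card_le_card hsub
    have := F.card_imSet ht h2
    omega
  have hmul : E.card ≤ C.card * (E.image (fun x => x * t * x⁻¹ * t⁻¹)).card :=
    Finset.card_le_mul_card_image E C.card hfib
  rw [hEcard] at hmul
  rw [← hCcard]
  nlinarith

end Frame

end CfsgLib.J4Type
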