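import Cfsg.Agent.Lib.J4Type.Model

/-!
Tables for the outer involutions of the Sylow 2-subgroup of the model: words for elements of order
seven centralising them.
-/

set_option autoImplicit false

namespace CfsgLib.J4Type

/-- `(k, w)`: the word `w` gives an element of order seven commuting with the member `k`. -/
def sevenWords : List (ℕ × List ℕ) :=
  [(32, [4, 3, 1, 2]),
   (36, [2, 4, 3, 0, 0, 4, 1]),
   (48, [0, 3, 4, 1, 4]),
   (53, [1, 3, 4, 0, 4, 3]),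
   (96, [1, 2, 3, 1, 4, 2]),
   (99, [3, 2, 4, 1, 2, 0]),
   (100, [3, 2, 0, 1, 4, 2]),
   (103, [0, 4, 1, 4, 3, 2, 1]),
   (160, [0, 1, 3, 2, 4, 0]),
   (168, [0, 1, 2, 3, 4, 3, 0]),
   (176, [4, 0, 3, 1, 1, 0]),
   (179, [1, 3, 0, 2, 4, 3, 0]),
   (180, [3, 2, 1, 2, 1, 4, 0]),
   (183, [2, 0, 3, 2, 1, 4]),
   (240, [3, 1, 4, 2, 1, 2]),
   (241, [0, 4, 3, 2, 0]),
   (244, [0, 3, 4, 2, 0]),
   (245, [4, 2, 0, 3, 2, 1])]

end CfsgLib.J4Type
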