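import Cfsg.Agent.Lib.J4Type.PlaneTree
import Cfsg.Agent.Lib.J4Type.FusedData

/-!
Kernel checks for the fusion of the central involution: for an involution of the Sylow 2-subgroup
of the model the elements centralising the commutators are few, and outer involutions have an
element of order seven without small invariant subspaces.
-/

set_option autoImplicit false

namespace CfsgLib.J4Type

/-- The vectors `v + s v`, as a list closed under addition. -/
def imList (s : List ℕ) : List ℕ := spanUp [s] 128 idM [0]

/-- Sums of at most two basis vectors. -/
def pairVecs : List ℕ :=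
  idM ++ ((List.range 12).map fun i => (List.range i).map fun j => 2 ^ i ^^^ 2 ^ j).flatten

/-- Vectors `v + s v` whose lift is centralised. -/
def centVecs (s : List ℕ) : List ℕ :=
  (pairVecs.filter fun u => !bF u (mv s u)).map fun u => mv s u ^^^ u

/-- The member `m` fixes all vectors of the list. -/
def fixesAll (vs : List ℕ) (m : List ℕ) : Bool := vs.all fun v => Nat.beq (mv m v) v

/-- Four images of a vector are different and not zero. -/
def spread (A : List ℕ) (v : ℕ) : Bool :=
  let a := mv A v
  let b := mv A a
  let c := mv A b
  !Nat.beq a 0 && !Nat.beq b 0 && !Nat.beq c 0 && !Nat.beq a v && !Nat.beq b v && !Nat.beq c v &&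
    !Nat.beq a b && !Nat.beq a c && !Nat.beq b c

/-- A word whose square centralises `s` and spreads every vector of the list. -/
def sevenOK (s : List ℕ) (L : List ℕ) (w : List ℕ) : Bool :=
  mm (wordM w) s == mm s (wordM w) &&
    L.all fun v => Nat.beq v 0 || spread (mm (wordM w) (wordM w)) v

/-- The condition on an outer involution. -/
def outerOK (s : List ℕ) : Bool :=
  Nat.beq (imList s).length 64 &&
    Nat.blt (sylList.countP (fixesAll (centVecs s))) 64 &&
    (((List.range 12).any fun i => bF (2 ^ i) (mv s (2 ^ i))) ||
      sevenWords.any fun t => sylList.getD t.1 idM == s && wordOK t.2 && sevenOK s (imList s) t.2)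

/-- The central involution of the Sylow 2-subgroup. -/
def sZero : List ℕ := sylList.getD 4 idM

/-- Complement basis in the vectors fixed by `sZero`. -/
def cZero : List ℕ := [1, 2, 1344, 2688]

/-- The linear functional with code `χ` on the sums from `cZero`. -/
def evalChi (χ a : ℕ) : Bool :=
  Nat.beq (mv ((List.range 4).map fun j => bif χ.testBit j then 1 else 0) a) 1

/-- A member of the Sylow 2-subgroup allowed by the functional `χ`. -/
def innerAllowed (χ : ℕ) (im : List ℕ) (m : List ℕ) : Bool :=
  fixesAll im m && (List.range 16).all fun a => evalChi χ a ||
    !(im.contains (mv m (mv cZero a) ^^^ mv cZero a)) ||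
    Nat.beq (mv m (mv cZero a) ^^^ mv cZero a) 0

theorem outer_all : (sylList.all fun s =>
    !(mm s s == idM) || mm s pOm == mm pOm s || outerOK s) = true := by
  decide +kernel

theorem sZero_ok : (qList.contains sZero && !(sZero == idM) &&
    (sylList.all fun m => mm sZero m == mm m sZero) &&
    (cZero.all fun c => Nat.blt c 4096 && Nat.beq (mv sZero c) c) &&
    Nat.beq (imList sZero).length 16) = true := by
  decide +kernel

theorem sZero_perp : ((List.range 4096).all fun e =>
    !Nat.beq (mv sZero e) e || (cZero.any fun c => bF e c) || Nat.blt e 64) = true := by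
  decide +kernel

theorem sZero_inner : ((List.range 4096).all fun u => !bF u (mv sZero u)) = true := by
  decide +kernel

theorem inner_all : ((List.range 16).all fun χ => Nat.beq χ 0 ||
    Nat.blt (sylList.countP (innerAllowed χ (imList sZero))) 16) = true := by
  decide +kernel

end CfsgLib.J4Type
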