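import Cfsg.Agent.Lib.J4Type.FusedCore
import Cfsg.Agent.Lib.J4Type.FusedChecks

/-!
No conjugate of the central involution lies outside the radical in its centraliser, except possibly
in the subgroup of order `2 ^ 11`: the linear and the semilinear case.
-/

set_option autoImplicit false

namespace CfsgLib.J4Type

open Cfsg

variable {G : Type*} [Group G] {z : G} {P : Subgroup G}

namespace Frame

variable (F : Frame z P)
include F

theorem lin_conj {h s : G} (hh : h ∈ Cen z) (hs : s ∈ Cen z)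
    (hc : mm (F.mat s) pOm = mm pOm (F.mat s)) :
    mm (F.mat (h * s * h⁻¹)) pOm = mm pOm (F.mat (h * s * h⁻¹)) := by
  obtain ⟨p, hp, hmp, -, hall⟩ := F.exists_gen
  have hpc := F.P_le_cen hp
  obtain ⟨k, hk, hkm⟩ := F.mat_surj (F.mat h) (F.mat_inL h hh)
  have hkc : k ∈ Cen z := (Subgroup.mem_inf.1 hk).1
  have e : F.mat (h * s * h⁻¹) = F.mat (k * s * k⁻¹) :=
    F.mat_conj hh hs (F.good_mat (mul_mem (mul_mem hkc hs) (inv_mem hkc))) (by
      rw [← hkm, ← F.mat_mul k hkc s hs,
        ← F.mat_mul _ (mul_mem (mul_mem hkc hs) (inv_mem hkc)) k hkc, inv_mul_cancel_right])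
  rw [e]
  have hq : k⁻¹ * p * k ∈ P := by
    have := (Subgroup.mem_normalizer_iff.1 (inv_mem (Subgroup.mem_inf.1 hk).2) p).1 hp
    simpa using this
  have hqc := F.P_le_cen hq
  have hsq : mm (F.mat s) (F.mat (k⁻¹ * p * k)) = mm (F.mat (k⁻¹ * p * k)) (F.mat s) := by
    rcases hall _ hq with e | e | e
    · rw [e, F.mat_one', mm_idM_right (F.good_mat hs), mm_idM' (F.good_mat hs)]
    · rw [e, hmp, hc]
    · rw [e, F.mat_mul p hpc p hpc, hmp, ← mm_assoc', hc, mm_assoc', hc, ← mm_assoc']
  have hkk := mul_mem (mul_mem hkc hs) (inv_mem hkc)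
  have hsp : F.mat (s * (k⁻¹ * p * k)) = F.mat (k⁻¹ * p * k * s) := by
    rw [F.mat_mul s hs _ hqc, F.mat_mul _ hqc s hs, hsq]
  calc mm (F.mat (k * s * k⁻¹)) pOm = F.mat (k * (s * (k⁻¹ * p * k)) * k⁻¹) := by
        rw [← hmp, ← F.mat_mul _ hkk p hpc]
        congr 1
        group
    _ = F.mat (k * (k⁻¹ * p * k * s) * k⁻¹) := by
        rw [F.mat_mul _ (mul_mem hkc (mul_mem hs hqc)) _ (inv_mem hkc),
          F.mat_mul k hkc _ (mul_mem hs hqc), hsp,
          F.mat_mul _ (mul_mem hkc (mul_mem hqc hs)) _ (inv_mem hkc),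
          F.mat_mul k hkc _ (mul_mem hqc hs)]
    _ = mm pOm (F.mat (k * s * k⁻¹)) := by
        rw [← hmp, ← F.mat_mul p hpc _ hkk]
        congr 1
        group

/-- An element centralising `P` centralises every element of the radical whose vector it fixes. -/
theorem root_fixed {a x : G} (ha : a ∈ CP z P) (hx : x ∈ Rad z)
    (hfx : mv (F.mat a) (F.co x) = F.co x) : a * x = x * a := by
  obtain ⟨p, hp, hmp, -, -⟩ := F.exists_gen
  have hpc := F.P_le_cen hp
  have hap : p * a = a * p := (mem_CP.1 ha).2 p hp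
  have hmc : mm (F.mat a) pOm = mm pOm (F.mat a) := by
    rw [← hmp, ← F.mat_mul a ha.1 p hpc, ← F.mat_mul p hpc a ha.1, hap]
  have hax : ∀ y ∈ Rad z, mv (F.mat a) (F.co y) = F.co y →
      a * y * a⁻¹ = y ∨ a * y * a⁻¹ = z * y := fun y hy hyc =>
    F.eq_of_co (conj_rad ha.1 hy) hy (by rw [F.conj a ha.1 y hy, hyc])
  rcases hax x hx hfx with h | h
  · exact mul_inv_eq_iff_eq_mul.1 h
  exfalso
  have hpz : p * z * p⁻¹ = z := by rw [mem_cen.1 hpc, mul_inv_cancel_right]
  have hstep : ∀ y : G, a * y * a⁻¹ = z * y →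
      a * (p * y * p⁻¹) * a⁻¹ = z * (p * y * p⁻¹) := by
    intro y hy
    have hpa : p⁻¹ * a⁻¹ = a⁻¹ * p⁻¹ := by rw [← mul_inv_rev, ← hap, mul_inv_rev]
    calc a * (p * y * p⁻¹) * a⁻¹ = (a * p) * y * (p⁻¹ * a⁻¹) := by group
      _ = (p * a) * y * (a⁻¹ * p⁻¹) := by rw [hap, hpa]
      _ = p * (a * y * a⁻¹) * p⁻¹ := by group
      _ = p * (z * y) * p⁻¹ := by rw [hy]
      _ = (p * z * p⁻¹) * (p * y * p⁻¹) := by group
      _ = z * (p * y * p⁻¹) := by rw [hpz]
  set y := p * x * p⁻¹ with hy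
  set y' := p * y * p⁻¹ with hy'
  have hyr : y ∈ Rad z := conj_rad hpc hx
  have hy'r : y' ∈ Rad z := conj_rad hpc hyr
  have hy2 : a * y * a⁻¹ = z * y := hstep x h
  have hy3 : a * y' * a⁻¹ = z * y' := hstep y hy2
  have hs : x * y * y' = 1 ∨ x * y * y' = z := by
    refine (F.co_eq_zero _ (mul_mem (mul_mem hx hyr) hy'r)).1 ?_
    rw [F.co_mul _ (mul_mem hx hyr) _ hy'r, F.co_mul x hx y hyr, hy', F.conj p hpc y hyr, hy,
      F.conj p hpc x hx, hmp]
    exact pOm_sum (F.co_lt x hx)
  have hfix : a * (x * y * y') * a⁻¹ = x * y * y' := by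
    rcases hs with e | e <;> rw [e]
    · group
    · rw [mem_cen.1 ha.1, mul_inv_cancel_right]
  have hxz : x * z = z * x := mem_cen.1 (rad_le_cen' hx)
  have hyz : x * y * z = z * (x * y) := mem_cen.1 (rad_le_cen' (mul_mem hx hyr))
  have : a * (x * y * y') * a⁻¹ = z * (x * y * y') := by
    calc a * (x * y * y') * a⁻¹ = (a * x * a⁻¹) * (a * y * a⁻¹) * (a * y' * a⁻¹) := by group
      _ = z * x * (z * y) * (z * y') := by rw [h, hy2, hy3]
      _ = z * (x * z) * y * (z * y') := by group
      _ = z * (z * x) * y * (z * y') := by rw [hxz]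
      _ = (z * z) * ((x * y * z) * y') := by group
      _ = z * (x * y * y') := by rw [F.z_sq, hyz]; group
  rw [hfix] at this
  exact F.z_ne_one (mul_right_cancel (this.symm.trans (one_mul _).symm))

theorem mul_or_z {a b : G} (ha : a ∈ Rad z) (hb : b ∈ Rad z) :
    a * b = b * a ∨ a * b = z * (b * a) :=
  F.eq_of_co (mul_mem ha hb) (mul_mem hb ha) (by
    rw [F.co_mul a ha b hb, F.co_mul b hb a ha, Nat.xor_comm])

/-- The product of an element with its conjugate under an involution. -/
theorem sym_prod {t x : G} (ht : t ∈ Cen z) (h2 : t * t = 1) (hx : x ∈ Rad z) :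
    x * (t * x * t⁻¹) ∈ Rad z ∧
      F.co (x * (t * x * t⁻¹)) = mv (F.mat t) (F.co x) ^^^ F.co x ∧
      (bF (F.co x) (mv (F.mat t) (F.co x)) = false →
        x * (t * x * t⁻¹) * t = t * (x * (t * x * t⁻¹))) ∧
      (bF (F.co x) (mv (F.mat t) (F.co x)) = true →
        t * (x * (t * x * t⁻¹)) * t⁻¹ = x * (t * x * t⁻¹) * z) := by
  have hc := conj_rad ht hx
  have hti : t⁻¹ = t := inv_eq_of_mul_eq_one_right h2
  have hcc : t * (x * (t * x * t⁻¹)) * t⁻¹ = (t * x * t⁻¹) * x := by
    calc t * (x * (t * x * t⁻¹)) * t⁻¹ = t * x * t⁻¹ * (t * t * x * (t⁻¹ * t⁻¹)) := by group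
      _ = t * x * t⁻¹ * x := by rw [hti, h2, one_mul, mul_one]
  have hbc : bF (F.co x) (F.co (t * x * t⁻¹)) = bF (F.co x) (mv (F.mat t) (F.co x)) := by
    rw [F.conj t ht x hx]
  refine ⟨mul_mem hx hc, ?_, fun hb => ?_, fun hb => ?_⟩
  · rw [F.co_mul x hx _ hc, F.conj t ht x hx, Nat.xor_comm]
  · have h1 : t * (x * (t * x * t⁻¹)) * t⁻¹ = x * (t * x * t⁻¹) := by
      rw [hcc, (F.comm_iff hx hc).2 (hbc.trans hb)]
    exact (mul_inv_eq_iff_eq_mul.1 h1).symm
  · rw [hcc]
    rcases F.mul_or_z hx hc with h | h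
    · have := (F.comm_iff hx hc).1 h
      rw [hbc, hb] at this
      exact Bool.noConfusion this
    · have hz1 : t * x * t⁻¹ * x * z = z * (t * x * t⁻¹ * x) :=
        mem_cen.1 (rad_le_cen' (mul_mem hc hx))
      rw [h, mul_assoc z, hz1, ← mul_assoc z, F.z_sq, one_mul]

end Frame

theorem imList_facts (s : List ℕ) : (imList s).Nodup ∧ ∀ w ∈ imList s, w ∈ imSet s :=
  spanUp_im s 128

theorem spread_card {A : List ℕ} {v : ℕ} {I : Finset ℕ} (h : spread A v = true) (hv : v ≠ 0)
    (h0 : 0 ∈ I) (hvI : v ∈ I) (hA : ∀ u ∈ I, mv A u ∈ I) : 5 ≤ I.card := by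
  classical
  simp only [spread, Bool.and_eq_true, Bool.not_eq_true'] at h
  have ne : ∀ {a b : ℕ}, Nat.beq a b = false → a ≠ b := fun {a b} h e => by
    subst e; rw [Nat.beq_refl] at h; exact Bool.noConfusion h
  obtain ⟨⟨⟨⟨⟨⟨⟨⟨h1, h2⟩, h3⟩, h4⟩, h5⟩, h6⟩, h7⟩, h8⟩, h9⟩ := h
  have hsub : ({0, v, mv A v, mv A (mv A v), mv A (mv A (mv A v))} : Finset ℕ) ⊆ I := by
    intro x hx
    simp only [Finset.mem_insert, Finset.mem_singleton] at hx
    rcases hx with rfl | rfl | rfl | rfl | rfl
    · exact h0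
    · exact hvI
    · exact hA _ hvI
    · exact hA _ (hA _ hvI)
    · exact hA _ (hA _ (hA _ hvI))
  refine le_trans (le_of_eq ?_) (Finset.card_le_card hsub)
  rw [Finset.card_insert_of_notMem, Finset.card_insert_of_notMem, Finset.card_insert_of_notMem,
    Finset.card_insert_of_notMem, Finset.card_singleton]
  · simp only [Finset.mem_singleton]; exact ne h9
  · simp only [Finset.mem_insert, Finset.mem_singleton, not_or]; exact ⟨ne h7, ne h8⟩
  · simp only [Finset.mem_insert, Finset.mem_singleton, not_or]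
    exact ⟨(ne h4).symm, (ne h5).symm, (ne h6).symm⟩
  · simp only [Finset.mem_insert, Finset.mem_singleton, not_or]
    exact ⟨hv.symm, (ne h1).symm, (ne h2).symm, (ne h3).symm⟩

theorem chi_spec : ∀ b1 b2 b3 b4 : Bool, ∀ a < 16,
    ((bif Nat.beq (a % 2) 1 then b1 else false).xor
      ((bif Nat.beq (a / 2 % 2) 1 then b2 else false).xor
      ((bif Nat.beq (a / 2 / 2 % 2) 1 then b3 else false).xor
      (bif Nat.beq (a / 2 / 2 / 2 % 2) 1 then b4 else false)))) =
    evalChi ((bif b1 then 1 else 0) + (bif b2 then 2 else 0) + (bif b3 then 4 else 0) +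
      (bif b4 then 8 else 0)) a := by
  decide +kernel

theorem pairVecs_lt {u : ℕ} (hu : u ∈ pairVecs) : u < 4096 := by
  have h : (pairVecs.all fun u => Nat.blt u 4096) = true := by decide +kernel
  rw [List.all_eq_true] at h
  exact Nat.le_of_ble_eq_true (h u hu)

namespace Stray

variable [Finite G] {t g : G} (S : Stray z t g) (F : Frame z P)
include S F

theorem act_subset_syl (hT : ∀ d ∈ Cen z, d ∈ radAt z g → d ∈ F.T₀) {m : List ℕ}
    (hm : m ∈ actSet F g) : m ∈ sylList := by
  obtain ⟨d, hdc, hd, rfl⟩ := (mem_actSet F).1 hm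
  exact (F.mem_T₀.1 (hT d hdc hd)).2

theorem isPGroup_act : IsPGroup 2 (Cen z ⊓ radAt z g : Subgroup G) := by
  have h : IsPGroup 2 (Rad z) := IsPGroup.of_card F.card_rad
  exact (h.comap_of_injective (MulAut.conj g⁻¹).toMonoidHom
    (MulAut.conj g⁻¹).injective).to_le inf_le_right

/-- Outer involutions are excluded when the matrices lie in the listed Sylow 2-subgroup. -/
theorem no_outer_syl (hT : ∀ d ∈ Cen z, d ∈ radAt z g → d ∈ F.T₀)
    (hout : mm (F.mat t) pOm ≠ mm pOm (F.mat t)) : False := by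
  classical
  have h2 := S.sq_t F
  have hts : F.mat t ∈ sylList :=
    S.act_subset_syl F hT ((mem_actSet F).2 ⟨t, S.mem, S.t_mem F, rfl⟩)
  have hok : outerOK (F.mat t) = true := by
    have := outer_all
    simp only [List.all_eq_true, Bool.or_eq_true, Bool.not_eq_true', beq_eq_false_iff_ne,
      beq_iff_eq] at this
    rcases this _ hts with (h | h) | h
    · exact absurd (F.mat_invol S.mem h2) h
    · exact absurd h hout
    · exact h
  simp only [outerOK, Bool.and_eq_true, Bool.or_eq_true, List.any_eq_true, List.mem_range,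
    beq_iff_eq] at hok
  obtain ⟨⟨hlen, hcount⟩, hcase⟩ := hok
  obtain ⟨hnd, himl⟩ := imList_facts (F.mat t)
  have hL : (imList (F.mat t)).toFinset.card = 64 := by
    rw [List.toFinset_card_of_nodup hnd]; exact Nat.eq_of_beq_eq_true hlen
  have hfix : ∀ v < 4096, mv (F.mat t) v = v → v ∈ imList (F.mat t) := by
    intro v hv hvf
    set f := (Finset.range 4096).filter fun v => mv (F.mat t) v = v with hf
    have hfL : (imList (F.mat t)).toFinset ⊆ f := fun w hw => by
      obtain ⟨h1, h2⟩ := F.im_fixed S.mem h2 (himl w (List.mem_toFinset.1 hw))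
      simp [hf, h1, h2]
    have hmul := F.im_mul_fix S.mem (f := f) (fun w => by simp [hf])
    have hge : 64 ≤ (imSet (F.mat t)).card :=
      hL ▸ Finset.card_le_card fun w hw => himl w (List.mem_toFinset.1 hw)
    have hf64 : f.card ≤ 64 := by
      generalize (imSet (F.mat t)).card = i at hmul hge
      generalize f.card = n at hmul
      by_contra hn
      have : 64 * 65 ≤ i * n := Nat.mul_le_mul hge (by omega)
      omega
    have heq := Finset.eq_of_subset_of_card_le hfL (hf64.trans (le_of_eq hL.symm))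
    exact List.mem_toFinset.1 (heq.symm ▸ (by simp [hf, hv, hvf] : v ∈ f))
  have hsub : ∀ v ∈ interSet F g, v ∈ imSet (F.mat t) := fun v hv =>
    himl v (hfix v (S.interSet_facts F hv).1 (S.interSet_facts F hv).2.1)
  have htriv : ∀ v ∈ interSet F g, v = 0 := by
    intro v hv
    rcases hcase with ⟨i, hi, hb⟩ | ⟨e, he, ⟨⟨hes, hew⟩, hseven⟩⟩
    · obtain ⟨x, hx, hxc⟩ := F.co_surj (2 ^ i) (Nat.pow_lt_pow_right one_lt_two hi)
      rw [← hxc] at hb
      obtain ⟨hy, -, -, hyz⟩ := F.sym_prod S.mem h2 hx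
      exact S.inter_im_trivial F hy (hyz hb) hv (hsub v hv)
    · simp only [sevenOK, Bool.and_eq_true, beq_iff_eq, List.all_eq_true, Bool.or_eq_true] at hseven
      obtain ⟨hcm, hall⟩ := hseven
      have hwL := inL_wordM hew
      obtain ⟨h, hh, hhm⟩ := F.mat_surj _ hwL
      have hhc : h ∈ Cen z := (Subgroup.mem_inf.1 hh).1
      have hmt : F.mat (h * t * h⁻¹) = F.mat t :=
        F.mat_conj hhc S.mem (F.good_mat S.mem) (by rw [hhm, hcm])
      set c := h * t * h⁻¹ * t⁻¹ with hc
      have hti : t⁻¹ = t := inv_eq_of_mul_eq_one_right h2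
      have hcr : c ∈ Rad z := by
        have := (F.mat_eq_iff S.mem (mul_mem (mul_mem hhc S.mem) (inv_mem hhc))).1 hmt.symm
        have := conj_rad S.mem this
        convert this using 1
        rw [hc]; group
      have hcfix : t * c * t⁻¹ = c⁻¹ := by
        calc t * c * t⁻¹ = t * (h * t * h⁻¹) * (t⁻¹ * t⁻¹) := by rw [hc]; group
          _ = t * (h * t⁻¹ * h⁻¹) := by rw [hti, h2, mul_one]
          _ = c⁻¹ := by rw [hc]; group
      have hcL := hfix (F.co c) (F.co_lt c hcr) (by
        rw [← F.conj t S.mem c hcr, hcfix, F.co_inv' hcr])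
      have hcI := himl _ hcL
      simp only [imSet, Finset.mem_image, Finset.mem_range] at hcI
      obtain ⟨u, hu, huc⟩ := hcI
      obtain ⟨x, hx, rfl⟩ := F.co_surj u hu
      obtain ⟨hy, hyc⟩ := F.conj_co_mul S.mem hx
      have hxc := rad_le_cen' hx
      set k := x⁻¹ * h * (x⁻¹ * h) with hk
      have hxh : x⁻¹ * h ∈ Cen z := mul_mem (inv_mem hxc) hhc
      have hkt : k * t = t * k := by
        have e1 : x⁻¹ * h * t * (x⁻¹ * h)⁻¹ = t ∨ x⁻¹ * h * t * (x⁻¹ * h)⁻¹ = z * t := by
          rw [show x⁻¹ * h * t * (x⁻¹ * h)⁻¹ = x⁻¹ * (c * t) * x by rw [hc]; group]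
          rcases F.eq_of_co hcr hy (by rw [hyc, huc]) with e | e <;> rw [e]
          · exact .inl (by group)
          · refine .inr ?_
            have hxz : x⁻¹ * z = z * x⁻¹ := mem_cen.1 (inv_mem hxc)
            calc x⁻¹ * (z * (x * t * x⁻¹ * t⁻¹) * t) * x = (x⁻¹ * z) * x * t := by group
              _ = z * x⁻¹ * x * t := by rw [hxz]
              _ = z * t := by group
        have hz' : (x⁻¹ * h) * z * (x⁻¹ * h)⁻¹ = z := by
          rw [mem_cen.1 hxh, mul_inv_cancel_right]
        have : k * t * k⁻¹ = t := by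
          rw [show k * t * k⁻¹ =
            x⁻¹ * h * (x⁻¹ * h * t * (x⁻¹ * h)⁻¹) * (x⁻¹ * h)⁻¹ by rw [hk]; group]
          rcases e1 with e | e <;> rw [e]
          · exact e
          · calc x⁻¹ * h * (z * t) * (x⁻¹ * h)⁻¹
                = (x⁻¹ * h * z * (x⁻¹ * h)⁻¹) * (x⁻¹ * h * t * (x⁻¹ * h)⁻¹) := by group
              _ = t := by rw [hz', e, ← mul_assoc, F.z_sq, one_mul]
        exact mul_inv_eq_iff_eq_mul.1 this
      have hkc : k ∈ Cen z := mul_mem hxh hxh
      have hkm : F.mat k = mm (wordM e.2) (wordM e.2) := by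
        have : F.mat (x⁻¹ * h) = wordM e.2 := by
          rw [F.mat_mul _ (inv_mem hxc) h hhc, F.mat_rad (inv_mem hx), hhm, mm_idM' hwL.good]
        rw [hk, F.mat_mul _ hxh _ hxh, this]
      by_contra hv0
      rcases hall v (hfix v (S.interSet_facts F hv).1 (S.interSet_facts F hv).2.1) with h' | h'
      · exact hv0 (Nat.eq_of_beq_eq_true h')
      · rw [← hkm] at h'
        have h5 := spread_card h' hv0 (S.zero_interSet F) hv (fun a ha => by
          obtain ⟨q, hq, hq', rfl⟩ := (mem_interSet F).1 ha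
          exact (mem_interSet F).2 ⟨k * q * k⁻¹, conj_rad hkc hq,
            S.conj_radAt F hkc hkt hq', F.conj k hkc q hq⟩)
        have := S.inter_le_four F hsub
        omega
  have hI1 : (interSet F g).card ≤ 1 :=
    Finset.card_le_one.2 fun a ha b hb => (htriv a ha).trans (htriv b hb).symm
  have hM : (actSet F g).card ≤ sylList.countP (fixesAll (centVecs (F.mat t))) := by
    rw [List.countP_eq_length_filter]
    refine le_trans (Finset.card_le_card (t :=
      (sylList.filter (fixesAll (centVecs (F.mat t)))).toFinset) fun m hm => ?_)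
      (List.toFinset_card_le _)
    refine List.mem_toFinset.2 (List.mem_filter.2 ⟨S.act_subset_syl F hT hm, ?_⟩)
    simp only [fixesAll, centVecs, List.all_map, List.all_eq_true, List.mem_filter,
      Function.comp, Bool.not_eq_true']
    rintro u ⟨hu, hb⟩
    obtain ⟨x, hx, rfl⟩ := F.co_surj u (pairVecs_lt hu)
    obtain ⟨hy, hyc, hyt, -⟩ := F.sym_prod S.mem h2 hx
    have h0 := htriv _ (S.act_move F hm hy (hyt hb))
    rw [hyc] at h0
    have := Nat.xor_eq_zero_iff.1 h0
    rw [this]
    exact Nat.beq_refl _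
  have := S.card_count F z_mem_cen
  have : sylList.countP (fixesAll (centVecs (F.mat t))) < 64 := Nat.le_of_ble_eq_true hcount
  nlinarith

/-- Linear involutions with the central matrix are excluded if some fixed vector is inverted. -/
theorem no_inner_syl (hT : ∀ d ∈ Cen z, d ∈ radAt z g → d ∈ F.T₀) (hm : F.mat t = sZero)
    {e v : G} (he : e ∈ Rad z) (hv : v ∈ CP z P) (hmv : F.mat v = sZero) (htev : t = e * v)
    {c : ℕ} (hc : c ∈ cZero) (hbad : bF (F.co e) c = true) : False := by
  classical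
  have h2 := S.sq_t F
  have hok := sZero_ok
  simp only [Bool.and_eq_true, List.all_eq_true] at hok
  obtain ⟨⟨⟨⟨-, -⟩, -⟩, hcfix⟩, hlen⟩ := hok
  obtain ⟨w, hw, rfl⟩ := F.co_surj c (Nat.le_of_ble_eq_true (hcfix c hc).1)
  have hwf : mv sZero (F.co w) = F.co w := Nat.eq_of_beq_eq_true (hcfix _ hc).2
  have hconj : ∀ x ∈ Rad z, mv sZero (F.co x) = F.co x → t * x * t⁻¹ = e * x * e⁻¹ := by
    intro x hx hxf
    have := F.root_fixed hv hx (by rw [hmv, hxf])
    calc t * x * t⁻¹ = e * (v * x * v⁻¹) * e⁻¹ := by rw [htev]; group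
      _ = e * x * e⁻¹ := by rw [this, mul_inv_cancel_right]
  have hwt : t * w * t⁻¹ = w * z := by
    rw [hconj w hw hwf]
    rcases F.mul_or_z he hw with h | h
    · have := (F.comm_iff he hw).1 h
      rw [hbad] at this
      exact Bool.noConfusion this
    · rw [h, mul_assoc z, mul_inv_cancel_right, mem_cen.1 (rad_le_cen' hw)]
  have htriv : ∀ u ∈ interSet F g, u ∈ imSet sZero → u = 0 := fun u hu hui =>
    S.inter_im_trivial F hw hwt hu (hm.symm ▸ hui)
  obtain ⟨hnd, himl⟩ := imList_facts sZero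
  set L := (imList sZero).toFinset with hL
  have hL16 : L.card = 16 := by
    rw [hL, List.toFinset_card_of_nodup hnd]; exact Nat.eq_of_beq_eq_true hlen
  have hLI : ∀ a ∈ L, a ∈ imSet (F.mat t) := fun a ha => hm.symm ▸ himl a (List.mem_toFinset.1 ha)
  have himbF : ∀ a ∈ L, ∀ b ∈ L, bF a b = false := fun a ha b hb => by
    obtain ⟨h1, h2⟩ := F.im_fixed S.mem (S.sq_t F) (hLI b hb)
    exact F.im_perp S.mem (hLI a ha) h1 h2
  have hIcard : (interSet F g).card * 16 ≤ 64 := by
    have hsum : ((interSet F g ×ˢ L).image fun p => p.1 ^^^ p.2).card =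
        (interSet F g).card * 16 := by
      rw [Finset.card_image_of_injOn, Finset.card_product, hL16]
      intro p hp q hq e
      simp only [Finset.coe_product, Set.mem_prod, Finset.mem_coe] at hp hq
      simp only at e
      have h1 : p.1 ^^^ q.1 = p.2 ^^^ q.2 := by
        calc p.1 ^^^ q.1 = (p.1 ^^^ p.2) ^^^ (q.1 ^^^ q.2) ^^^ (p.2 ^^^ q.2) := by
              simp [Nat.xor_assoc, Nat.xor_comm, Nat.xor_left_comm]
          _ = p.2 ^^^ q.2 := by rw [e, Nat.xor_self, Nat.zero_xor]
      have h0 := htriv _ (S.interSet_xor F hp.1 hq.1) (h1 ▸ imSet_xor (himl _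
        (List.mem_toFinset.1 hp.2)) (himl _ (List.mem_toFinset.1 hq.2)))
      exact Prod.ext (Nat.xor_eq_zero_iff.1 h0) (Nat.xor_eq_zero_iff.1 (h1.symm.trans h0))
    have hLx : ∀ a ∈ L, ∀ b ∈ L, a ^^^ b ∈ L := by
      have hcl : ((imList sZero).all fun a => (imList sZero).all fun b =>
          (imList sZero).contains (a ^^^ b)) = true := by decide +kernel
      simp only [List.all_eq_true, List.contains_iff_mem] at hcl
      intro a ha b hb
      rw [hL, List.mem_toFinset] at ha hb ⊢
      exact hcl a ha b hb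
    rw [← hsum]
    refine iso_card ?_ ?_ ?_
    · intro x hx
      obtain ⟨⟨a, b⟩, hab, rfl⟩ := Finset.mem_image.1 hx
      rw [Finset.mem_product] at hab
      exact xor_lt (S.interSet_facts F hab.1).1 (F.im_fixed S.mem h2 (hLI b hab.2)).1
    · intro x hx y hy
      obtain ⟨⟨a, b⟩, hab, rfl⟩ := Finset.mem_image.1 hx
      obtain ⟨⟨c, d⟩, hcd, rfl⟩ := Finset.mem_image.1 hy
      rw [Finset.mem_product] at hab hcd
      exact Finset.mem_image.2 ⟨(a ^^^ c, b ^^^ d),
        Finset.mem_product.2 ⟨S.interSet_xor F hab.1 hcd.1, hLx b hab.2 d hcd.2⟩,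
        by simp [Nat.xor_assoc, Nat.xor_comm, Nat.xor_left_comm]⟩
    · intro x hx y hy
      obtain ⟨⟨a, b⟩, hab, rfl⟩ := Finset.mem_image.1 hx
      obtain ⟨⟨c, d⟩, hcd, rfl⟩ := Finset.mem_image.1 hy
      rw [Finset.mem_product] at hab hcd
      obtain ⟨ha, hat, hab', -⟩ := S.interSet_facts F hab.1
      obtain ⟨hc', hct, -, -⟩ := S.interSet_facts F hcd.1
      rw [bF_xor_left, bF_xor_right', bF_xor_right', hab' c hcd.1, himbF b hab.2 d hcd.2,
        F.im_perp S.mem (hLI b hab.2) hc' hct, bF_symm a d,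
        F.im_perp S.mem (hLI d hcd.2) ha hat]
      rfl
  -- the functional
  let χ : ℕ := (bif bF (F.co e) 1 then 1 else 0) + (bif bF (F.co e) 2 then 2 else 0) +
    (bif bF (F.co e) 1344 then 4 else 0) + (bif bF (F.co e) 2688 then 8 else 0)
  have hval : ∀ a < 16, bF (F.co e) (mv cZero a) = evalChi χ a := by
    have hb0 : bF (F.co e) 0 = false := bF_zero_right' _
    intro a ha
    have expand : bF (F.co e) (mv cZero a) =
        ((bif Nat.beq (a % 2) 1 then bF (F.co e) 1 else false).xor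
        ((bif Nat.beq (a / 2 % 2) 1 then bF (F.co e) 2 else false).xor
        ((bif Nat.beq (a / 2 / 2 % 2) 1 then bF (F.co e) 1344 else false).xor
        (bif Nat.beq (a / 2 / 2 / 2 % 2) 1 then bF (F.co e) 2688 else false)))) := by
      simp only [cZero, mv]
      cases Nat.beq (a % 2) 1 <;> cases Nat.beq (a / 2 % 2) 1 <;>
        cases Nat.beq (a / 2 / 2 % 2) 1 <;> cases Nat.beq (a / 2 / 2 / 2 % 2) 1 <;>
        simp only [cond_true, cond_false, Nat.xor_zero, bF_xor_right', hb0, Bool.xor_false,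
          Bool.false_xor]
    rw [expand]
    simp only [χ]
    exact chi_spec _ _ _ _ a ha
  have hcZ : ∀ a < 16, mv cZero a < 4096 ∧ mv sZero (mv cZero a) = mv cZero a := by
    have h : ((List.range 16).all fun a => Nat.blt (mv cZero a) 4096 &&
        Nat.beq (mv sZero (mv cZero a)) (mv cZero a)) = true := by decide +kernel
    simp only [List.all_eq_true, List.mem_range, Bool.and_eq_true] at h
    exact fun a ha => ⟨Nat.le_of_ble_eq_true (h a ha).1, Nat.eq_of_beq_eq_true (h a ha).2⟩
  have hM : (actSet F g).card ≤ sylList.countP (innerAllowed χ (imList sZero)) := by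
    rw [List.countP_eq_length_filter]
    refine le_trans (Finset.card_le_card (t :=
      (sylList.filter (innerAllowed χ (imList sZero))).toFinset) fun m hm' => ?_)
      (List.toFinset_card_le _)
    refine List.mem_toFinset.2 (List.mem_filter.2 ⟨S.act_subset_syl F hT hm', ?_⟩)
    simp only [innerAllowed, fixesAll, Bool.and_eq_true, List.all_eq_true, List.mem_range,
      Bool.or_eq_true, Bool.not_eq_true']
    refine ⟨fun d hd => ?_, fun a ha => ?_⟩
    · have hdI := himl d hd
      simp only [imSet, Finset.mem_image, Finset.mem_range] at hdI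
      obtain ⟨u, hu, rfl⟩ := hdI
      obtain ⟨x, hx, rfl⟩ := F.co_surj u hu
      obtain ⟨hy, hyc, hyt, -⟩ := F.sym_prod S.mem h2 hx
      rw [hm] at hyc hyt
      have hin : bF (F.co x) (mv sZero (F.co x)) = false := by
        have h := sZero_inner
        simp only [List.all_eq_true, List.mem_range, Bool.not_eq_true'] at h
        exact h _ (F.co_lt x hx)
      have hmove := S.act_move F hm' hy (hyt hin)
      rw [hyc] at hmove
      have hdm : mv m (mv sZero (F.co x) ^^^ F.co x) ∈ imSet sZero := by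
        obtain ⟨k, hkc, hk, rfl⟩ := (mem_actSet F).1 hm'
        have hmc := S.act_comm F hm'
        rw [hm] at hmc
        refine Finset.mem_image.2 ⟨mv (F.mat k) (F.co x),
          Finset.mem_range.2 (F.mv_lt_mat hkc _), ?_⟩
        rw [mv_xor', ← mv_mm' (F.mat k) sZero, hmc, mv_mm']
      have h0 := htriv _ hmove (imSet_xor hdm
        (Finset.mem_image.2 ⟨F.co x, Finset.mem_range.2 (F.co_lt x hx), rfl⟩))
      have := Nat.xor_eq_zero_iff.1 h0
      rw [this]
      exact Nat.beq_refl _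
    · cases hχ : evalChi χ a
      · by_cases hin : mv m (mv cZero a) ^^^ mv cZero a ∈ imList sZero
        · refine .inr ?_
          obtain ⟨hlt, hfx⟩ := hcZ a ha
          obtain ⟨x, hx, hxc⟩ := F.co_surj _ hlt
          have hxt : x * t = t * x := by
            have hb : bF (F.co e) (F.co x) = false := by rw [hxc, hval a ha, hχ]
            have h1 : t * x * t⁻¹ = x := by
              rw [hconj x hx (by rw [hxc, hfx]), (F.comm_iff he hx).2 hb, mul_inv_cancel_right]
            exact (mul_inv_eq_iff_eq_mul.1 h1).symm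
          have hmove := S.act_move F hm' hx hxt
          rw [hxc] at hmove
          rw [htriv _ hmove (himl _ hin)]
          rfl
        · exact .inl (.inr (by simpa [List.contains_eq_mem] using hin))
      · exact .inl (.inl rfl)
  have hχ0 : χ ≠ 0 := by
    intro h0
    simp only [χ] at h0
    simp only [cZero, List.mem_cons, List.not_mem_nil, or_false] at hc
    rcases hc with h | h | h | h <;> rw [h] at hbad <;> rw [hbad] at h0 <;>
      simp only [cond_true] at h0 <;> omega
  have hχlt : χ < 16 := by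
    simp only [χ]
    cases bF (F.co e) 1 <;> cases bF (F.co e) 2 <;> cases bF (F.co e) 1344 <;>
      cases bF (F.co e) 2688 <;> simp
  have h := inner_all
  simp only [List.all_eq_true, List.mem_range, Bool.or_eq_true] at h
  rcases h χ hχlt with h' | h'
  · exact hχ0 (Nat.eq_of_beq_eq_true h')
  have h'' : sylList.countP (innerAllowed χ (imList sZero)) < 16 := Nat.le_of_ble_eq_true h'
  have := S.card_count F z_mem_cen
  nlinarith

end Stray

end CfsgLib.J4Type
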