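import Cfsg.Agent.Lib.J4Type.PlaneData

/-!
Kernel checks on the Sylow 2-subgroup of the model group: it is closed, its only elementary
abelian subgroup which is large compared with its fixed space is the upper radical, and every
linear involution of it moves into the upper radical.
-/

set_option autoImplicit false

namespace CfsgLib.J4Type

/-- The matrix of a word in `gensL`. -/
def wordM : List ℕ → List ℕ
  | [] => idM
  | j :: w => mm (gensL.getD j idM) (wordM w)

/-- A word only uses the six generators. -/
def wordOK (w : List ℕ) : Bool := w.all fun j => Nat.blt j 6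

/-- A word only uses the five linear generators. -/
def linWordOK (w : List ℕ) : Bool := w.all fun j => Nat.blt j 5

/-- The values `v + m v` for the members of a list, packed into one number. -/
def moveSum : List (List ℕ) → ℕ → ℕ
  | [], _ => 0
  | m :: ms, v => Nat.shiftLeft (moveSum ms v) 12 ^^^ (mv m v ^^^ v)

/-- Span of the images of basis vectors, built until it reaches the bound. -/
def spanUp (ms : List (List ℕ)) (bound : ℕ) : List ℕ → List ℕ → List ℕ
  | [], L => L
  | v :: vs, L =>
    bif Nat.ble bound L.length then L
    else bif L.contains (moveSum ms v) then spanUp ms bound vs L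
    else spanUp ms bound vs (L ++ L.map (moveSum ms v ^^^ ·))

/-- The common fixed space of `ms` is small: the sum map has a large image. -/
def fixSmall (ms : List (List ℕ)) (card : ℕ) : Bool :=
  Nat.blt (4 * card) (spanUp ms (4 * card + 1) idM [0]).length

/-- The element at a position. -/
def iv (k : ℕ) : List ℕ := sylList.getD (invPos.getD k 0) idM

/-- The product of two positions. -/
def tb (a b : ℕ) : ℕ := (mulTab.getD a []).getD b 72

/-- Admissible elementary abelian subgroups: trivial, upper radical, or small fixed space. -/
def spanOK (gs span : List ℕ) : Bool :=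
  Nat.beq span.length 1 || (Nat.beq span.length 16 && qPos.all (fun k => span.contains k) &&
    span.all (fun k => qPos.contains k)) || fixSmall (gs.map iv) span.length

/-- Search through the elementary abelian subgroups of the Sylow 2-subgroup. -/
def elemOK : ℕ → List ℕ → List ℕ → List ℕ → List ℕ → Bool
  | _, gs, span, _, [] => spanOK gs span
  | 0, _, _, _, _ :: _ => false
  | fuel + 1, gs, span, exc, a :: rest =>
    (!gs.isEmpty && fixSmall (gs.map iv) (span.length + rest.length + 1)) ||
      ((exc.any (fun e => (span.map (tb a)).contains e) ||
        elemOK fuel (a :: gs) (span ++ span.map (tb a)) exc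
          (rest.filter fun x =>
            !(span ++ span.map (tb a)).contains x && Nat.blt (tb a x) 72)) &&
        elemOK fuel gs span (a :: exc) rest)

theorem syl_closed : (sylList.contains idM &&
    (sylWords.all fun w => wordOK w &&
      sylList.all fun m => sylList.contains (mm (wordM w) m))) = true := by
  decide +kernel

theorem syl_nodup : sylList.Nodup := by decide +kernel

theorem elem_all : elemOK 128 [] [0] [] ((List.range 71).map (· + 1)) = true := by
  decide +kernel

theorem mulTab_ok : ((List.range 72).all fun a => (List.range 72).all fun b =>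
    bif Nat.blt (tb a b) 72 then mm (iv a) (iv b) == iv (tb a b)
    else !(mm (iv a) (iv b) == mm (iv b) (iv a))) = true := by
  decide +kernel

theorem invPos_ok : ((sylList.all fun m => !(mm m m == idM) ||
    (List.range 72).any fun k => iv k == m) && iv 0 == idM &&
    (qPos.all fun k => Nat.blt k 72 && qList.contains (iv k)) &&
    (qList.all fun m => qPos.any fun k => iv k == m)) = true := by
  decide +kernel

theorem qList_ok : (qList.length == 16 && qList.contains idM &&
    (qList.all fun m => mm m m == idM &&
      (qList.all fun n => qList.contains (mm m n) && mm m n == mm n m) &&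
      sylList.contains m && mm m pOm == mm pOm m && !(mm m pOm == mm (mm pOm pOm) m) &&
      ((List.range 6).all fun i => Nat.beq (mv m (2 ^ i)) (2 ^ i)) &&
      ((List.range 6).all fun i => Nat.blt (mv m (2 ^ (i + 6)) ^^^ 2 ^ (i + 6)) 64))) = true := by
  decide +kernel

theorem qList_nodup : qList.Nodup := by decide +kernel

theorem qList_sig : (qList.all fun m => qList.any fun n => mm sig m == mm n sig) = true := by
  decide +kernel

theorem qOrbit_ok : (qOrbit.all fun t => Nat.blt t.2.2 3 &&
    mm (gensL.getD t.2.2 idM) (qList.getD t.2.1 idM) ==
      mm (qList.getD t.1 idM) (gensL.getD t.2.2 idM)) = true := by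
  decide +kernel

theorem qOrbit_all : (((List.range 16).all fun k => Nat.beq k 0 ||
    (qOrbit.foldl (fun acc t => if acc.contains t.2.1 then t.1 :: acc else acc) [1]).contains k) &&
    qList.getD 0 idM == idM) = true := by
  decide +kernel

theorem invWords_ok : (invWords.all fun t => linWordOK t.2 && qList.any fun n =>
    mm (wordM t.2) (sylList.getD t.1 idM) == mm n (wordM t.2)) = true := by
  decide +kernel

theorem invWords_all : (sylList.all fun m =>
    !(mm m m == idM && !(m == idM)) || !(mm m pOm == mm pOm m) ||
    invWords.any fun t => sylList.getD t.1 idM == m) = true := by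
  decide +kernel

theorem gens_pOm : (([kX, kA, kB, qU, qL].all fun g => mm g pOm == mm pOm g) &&
    mm sig pOm == mm (mm pOm pOm) sig && mm pOm (mm pOm pOm) == idM &&
    (gensL.all fun g => g.length == 12 && g.all fun a => Nat.blt a 4096)) = true := by
  decide +kernel

/-- A four dimensional subspace of minus type. -/
def minusFour : List ℕ :=
  [0, 129, 194, 129 ^^^ 194, 4, 129 ^^^ 4, 194 ^^^ 4, 129 ^^^ 194 ^^^ 4, 512, 129 ^^^ 512,
   194 ^^^ 512, 129 ^^^ 194 ^^^ 512, 4 ^^^ 512, 129 ^^^ 4 ^^^ 512, 194 ^^^ 4 ^^^ 512,
   129 ^^^ 194 ^^^ 4 ^^^ 512]

theorem minusFour_ok : ((minusFour.all fun u => Nat.blt u 4096 && minusFour.all fun v =>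
    minusFour.contains (u ^^^ v) &&
      (Nat.beq u 0 || Nat.beq v 0 || Nat.beq u v || qF u || qF v || qF (u ^^^ v))) &&
    Nat.beq minusFour.length 16) = true := by
  decide +kernel

theorem minusFour_nodup : minusFour.Nodup := by decide +kernel

end CfsgLib.J4Type
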