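import Cfsg.Agent.Lib.J4Type.PlaneBase
import Cfsg.Agent.Lib.J4Type.PlaneChecks

/-!
Elementary abelian subgroups of the listed Sylow 2-subgroup of the model: only the upper radical is
large compared with its fixed space.
-/

set_option autoImplicit false

namespace CfsgLib.J4Type

theorem moveSum_xor : ∀ (ms : List (List ℕ)) (x y : ℕ),
    moveSum ms (x ^^^ y) = moveSum ms x ^^^ moveSum ms y
  | [], _, _ => by simp [moveSum]
  | m :: ms, x, y => by
    simp only [moveSum, moveSum_xor ms, mv_xor', Nat.shiftLeft_eq', Nat.shiftLeft_xor_distrib]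
    simp only [Nat.xor_assoc, Nat.xor_comm, Nat.xor_left_comm]

theorem moveSum_fixed : ∀ {ms : List (List ℕ)} {x : ℕ}, (∀ m ∈ ms, mv m x = x) →
    moveSum ms x = 0
  | [], _, _ => by simp [moveSum]
  | m :: ms, x, h => by
    simp [moveSum, h m (List.mem_cons_self ..),
      moveSum_fixed fun n hn => h n (List.mem_cons_of_mem _ hn)]

/-- A list of distinct values of `moveSum`, closed under addition. -/
def SpanInv (ms : List (List ℕ)) (L : List ℕ) : Prop :=
  L.Nodup ∧ (∀ a ∈ L, ∀ b ∈ L, a ^^^ b ∈ L) ∧ ∀ w ∈ L, ∃ v < 4096, moveSum ms v = w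

theorem spanUp_inv (ms : List (List ℕ)) (bound : ℕ) : ∀ (vs L : List ℕ),
    (∀ v ∈ vs, v < 4096) → SpanInv ms L → SpanInv ms (spanUp ms bound vs L)
  | [], L, _, h => by simpa [spanUp] using h
  | v :: vs, L, hv, h => by
    have hv' : ∀ u ∈ vs, u < 4096 := fun u hu => hv u (List.mem_cons_of_mem _ hu)
    simp only [spanUp]
    cases Nat.ble bound L.length with
    | true => exact h
    | false =>
      cases hc : L.contains (moveSum ms v) with
      | true => exact spanUp_inv ms bound vs L hv' h
      | false =>
        refine spanUp_inv ms bound vs _ hv' ?_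
        obtain ⟨hn, hcl, hpre⟩ := h
        have hnot : moveSum ms v ∉ L := fun hm => by simp [hm] at hc
        refine ⟨?_, ?_, ?_⟩
        · refine List.nodup_append.2 ⟨hn,
            hn.map (f := (moveSum ms v ^^^ ·)) (fun a b e => Nat.xor_right_injective e), ?_⟩
          intro a ha b hb e
          subst e
          obtain ⟨c, hc', hac⟩ := List.mem_map.1 hb
          apply hnot
          have := hcl a ha c hc'
          rwa [← hac, Nat.xor_assoc, Nat.xor_self, Nat.xor_zero] at this
        · intro a ha b hb
          simp only [List.mem_append, List.mem_map] at ha hb ⊢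
          rcases ha with ha | ⟨a, ha, rfl⟩ <;> rcases hb with hb | ⟨b, hb, rfl⟩
          · exact .inl (hcl a ha b hb)
          · exact .inr ⟨a ^^^ b, hcl a ha b hb, by
              simp [Nat.xor_assoc, Nat.xor_comm, Nat.xor_left_comm]⟩
          · exact .inr ⟨a ^^^ b, hcl a ha b hb, by
              simp [Nat.xor_assoc, Nat.xor_comm, Nat.xor_left_comm]⟩
          · refine .inl ?_
            have e : moveSum ms v ^^^ a ^^^ (moveSum ms v ^^^ b) = a ^^^ b := by
              rw [Nat.xor_comm (moveSum ms v) a, Nat.xor_assoc, ← Nat.xor_assoc (moveSum ms v),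
                Nat.xor_self, Nat.zero_xor]
            rw [e]
            exact hcl a ha b hb
        · intro w hw
          rcases List.mem_append.1 hw with hw | hw
          · exact hpre w hw
          · obtain ⟨c, hc', rfl⟩ := List.mem_map.1 hw
            obtain ⟨u, hu, rfl⟩ := hpre c hc'
            exact ⟨v ^^^ u, xor_lt (hv v (List.mem_cons_self ..)) hu, moveSum_xor ms v u⟩

theorem fixSmall_sound {ms : List (List ℕ)} {card : ℕ} (h : fixSmall ms card = true)
    {I : Finset ℕ} (hI : ∀ x ∈ I, x < 4096) (hfix : ∀ m ∈ ms, ∀ x ∈ I, mv m x = x) :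
    I.card * card < 1024 := by
  classical
  have hlt : 4 * card < (spanUp ms (4 * card + 1) idM [moveSum ms 0]).length := by
    have e : moveSum ms 0 = 0 := moveSum_fixed fun m _ => mv_zero' m
    rw [e]
    exact Nat.le_of_ble_eq_true h
  obtain ⟨hn, -, hpre⟩ := spanUp_inv ms (4 * card + 1) idM [moveSum ms 0]
    (fun v hv => good_idM.2 v hv) ⟨by simp, fun a ha b hb => by
      rw [List.mem_singleton] at ha hb
      rw [ha, hb, ← moveSum_xor, Nat.xor_self]
      simp,
      fun w hw => ⟨0, by norm_num, (List.mem_singleton.1 hw).symm⟩⟩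
  set L := spanUp ms (4 * card + 1) idM [moveSum ms 0]
  choose! pre hpl hpm using hpre
  have hinj : (I ×ˢ L.toFinset).card ≤ (Finset.range 4096).card := by
    refine Finset.card_le_card_of_injOn (fun p => p.1 ^^^ pre p.2) ?_ ?_
    · intro p hp
      simp only [Finset.coe_product, Set.mem_prod, Finset.mem_coe, List.mem_toFinset] at hp
      simpa using xor_lt (hI _ hp.1) (hpl _ hp.2)
    · intro p hp q hq e
      simp only [Finset.coe_product, Set.mem_prod, Finset.mem_coe, List.mem_toFinset] at hp hq
      simp only at e
      have hval : ∀ r : ℕ × ℕ, r.1 ∈ I → r.2 ∈ L → moveSum ms (r.1 ^^^ pre r.2) = r.2 := by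
        intro r hr1 hr2
        rw [moveSum_xor, moveSum_fixed fun m hm => hfix m hm _ hr1, Nat.zero_xor, hpm _ hr2]
      have h2 : p.2 = q.2 := by rw [← hval p hp.1 hp.2, ← hval q hq.1 hq.2, e]
      refine Prod.ext ?_ h2
      rw [h2] at e
      exact Nat.xor_left_injective e
  rw [Finset.card_product, List.toFinset_card_of_nodup hn, Finset.card_range] at hinj
  by_contra hge
  have h1 : I.card * (4 * card + 1) ≤ I.card * L.length := Nat.mul_le_mul_left _ hlt
  rw [Nat.mul_add, Nat.mul_one, Nat.mul_left_comm] at h1
  have hpos : 0 < I.card := by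
    rcases Nat.eq_zero_or_pos I.card with h0 | h0
    · rw [h0, zero_mul] at hge; omega
    · exact h0
  omega

/-- The conclusion of the search. -/
def ElemGood (D : Finset ℕ) : Prop :=
  D.card ≤ 1 ∨ D = qPos.toFinset ∨
    ∀ I : Finset ℕ, (∀ x ∈ I, x < 4096) → (∀ a ∈ D, ∀ x ∈ I, mv (iv a) x = x) →
      I.card * D.card < 1024

theorem elemGood_small {gs : List ℕ} {n : ℕ} {D : Finset ℕ} (hgs : ∀ g ∈ gs, g ∈ D)
    (hD : D.card ≤ n) (h : fixSmall (gs.map iv) n = true) : ElemGood D :=
  .inr (.inr fun I hI hfix => lt_of_le_of_lt (Nat.mul_le_mul_left _ hD)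
    (fixSmall_sound h hI fun m hm x hx => by
      obtain ⟨g, hg, rfl⟩ := List.mem_map.1 hm
      exact hfix g (hgs g hg) x hx))

theorem spanOK_sound {gs span : List ℕ} (h : spanOK gs span = true) {D : Finset ℕ}
    (hgs : ∀ g ∈ gs, g ∈ D) (hsp : ∀ s ∈ span, s ∈ D) (hsub : ∀ x ∈ D, x ∈ span) :
    ElemGood D := by
  have hD : D.card ≤ span.length :=
    le_trans (Finset.card_le_card fun x hx => List.mem_toFinset.2 (hsub x hx))
      (List.toFinset_card_le _)
  simp only [spanOK, Bool.or_eq_true, Bool.and_eq_true, List.all_eq_true,
    List.contains_iff_mem] at h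
  rcases h with (h | ⟨⟨-, h1⟩, h2⟩) | h
  · exact .inl (hD.trans_eq (Nat.eq_of_beq_eq_true h))
  · refine .inr (.inl (Finset.ext fun x => ?_))
    rw [List.mem_toFinset]
    exact ⟨fun hx => h2 x (hsub x hx), fun hx => hsp x (h1 x hx)⟩
  · exact elemGood_small hgs hD h

theorem tb_zero (a : ℕ) (ha : a < 72) : tb a 0 = a := by
  have h : ((List.range 72).all fun a => Nat.beq (tb a 0) a) = true := by decide +kernel
  simp only [List.all_eq_true, List.mem_range] at h
  exact Nat.eq_of_beq_eq_true (h a ha)

theorem elemOK_sound : ∀ (fuel : ℕ) (gs span exc cand : List ℕ),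
    elemOK fuel gs span exc cand = true →
    0 ∈ span → ∀ D : Finset ℕ, (∀ a ∈ D, ∀ b ∈ D, tb a b ∈ D) → (∀ a ∈ D, a < 72) →
      (∀ g ∈ gs, g ∈ D) → (∀ s ∈ span, s ∈ D) → (∀ e ∈ exc, e ∉ D) →
      (∀ x ∈ D, x ∈ span ∨ x ∈ cand) → ElemGood D := by
  intro fuel
  induction fuel with
  | zero =>
    intro gs span exc cand h h0 D hcl hlt hgs hsp hexc hsub
    cases cand with
    | nil => exact spanOK_sound h hgs hsp fun x hx => (hsub x hx).resolve_right (by simp)
    | cons a rest => exact absurd h (by simp [elemOK])
  | succ fuel ih =>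
    intro gs span exc cand h h0 D hcl hlt hgs hsp hexc hsub
    cases cand with
    | nil => exact spanOK_sound h hgs hsp fun x hx => (hsub x hx).resolve_right (by simp)
    | cons a rest =>
      simp only [elemOK, Bool.or_eq_true, Bool.and_eq_true] at h
      rcases h with ⟨-, h⟩ | ⟨hin, hout⟩
      · refine elemGood_small hgs ?_ h
        refine le_trans (Finset.card_le_card (t := (span ++ a :: rest).toFinset) fun x hx => ?_)
          (le_trans (List.toFinset_card_le _) (by simp [Nat.add_assoc]))
        simpa only [List.mem_toFinset, List.mem_append] using hsub x hx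
      · by_cases ha : a ∈ D
        · have hsp' : ∀ s ∈ span ++ span.map (tb a), s ∈ D := by
            intro s hs
            rcases List.mem_append.1 hs with hs | hs
            · exact hsp s hs
            · obtain ⟨u, hu, rfl⟩ := List.mem_map.1 hs
              exact hcl a ha u (hsp u hu)
          rcases hin with hin | hin
          · exfalso
            simp only [List.any_eq_true, List.contains_iff_mem] at hin
            obtain ⟨e, he, hes⟩ := hin
            exact hexc e he (hsp' e (List.mem_append_right _ hes))
          · refine ih _ _ _ _ hin (List.mem_append_left _ h0) D hcl hlt ?_ hsp' hexc ?_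
            · intro g hg
              rcases List.mem_cons.1 hg with rfl | hg
              · exact ha
              · exact hgs g hg
            · intro x hx
              by_cases hxs : x ∈ span ++ span.map (tb a)
              · exact .inl hxs
              rcases hsub x hx with h' | h'
              · exact .inl (List.mem_append_left _ h')
              · refine .inr (List.mem_filter.2 ⟨?_, ?_⟩)
                · rcases List.mem_cons.1 h' with rfl | h'
                  · exfalso
                    apply hxs
                    exact List.mem_append_right _ (List.mem_map.2 ⟨0, h0, tb_zero x (hlt x ha)⟩)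
                  · exact h'
                · rw [Bool.and_eq_true, Bool.not_eq_true']
                  refine ⟨?_, Nat.ble_eq_true_of_le (hlt _ (hcl a ha x hx))⟩
                  rw [← Bool.not_eq_true, List.contains_iff_mem]
                  exact hxs
        · refine ih _ _ _ _ hout h0 D hcl hlt hgs hsp ?_ ?_
          · intro e he
            rcases List.mem_cons.1 he with rfl | he
            · exact ha
            · exact hexc e he
          · intro x hx
            rcases hsub x hx with h' | h'
            · exact .inl h'
            · rcases List.mem_cons.1 h' with rfl | h'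
              · exact absurd hx ha
              · exact .inr h'

end CfsgLib.J4Type
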