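import Cfsg.Agent.Lib.J4Type.Interface
import Cfsg.Agent.Lib.J4Type.PlaneRoot
import Cfsg.Agent.Lib.J4Type.PlaneElem

/-!
The elementary abelian subgroup of order `2 ^ 11` of the Janko-four type and its uniqueness in a
Sylow 2-subgroup.
-/

set_option autoImplicit false

namespace CfsgLib.J4Type

open Cfsg

theorem iv_facts : iv 0 = idM ∧ (∀ k ∈ qPos, k < 72 ∧ iv k ∈ qList) ∧
    (∀ m ∈ qList, ∃ k ∈ qPos, iv k = m) ∧
    ∀ m ∈ sylList, mm m m = idM → ∃ k < 72, iv k = m := by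
  have h := invPos_ok
  simp only [Bool.and_eq_true, List.all_eq_true, Bool.or_eq_true, List.any_eq_true,
    beq_iff_eq, Bool.not_eq_true', beq_eq_false_iff_ne, List.mem_range,
    List.contains_iff_mem] at h
  obtain ⟨⟨⟨h1, h2⟩, h3⟩, h4⟩ := h
  exact ⟨h2, fun k hk => ⟨Nat.le_of_ble_eq_true (h3 k hk).1, (h3 k hk).2⟩, h4,
    fun m hm hmm => (h1 m hm).resolve_left fun h => h hmm⟩

theorem tb_spec {a b : ℕ} (ha : a < 72) (hb : b < 72)
    (hc : mm (iv a) (iv b) = mm (iv b) (iv a)) :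
    tb a b < 72 ∧ mm (iv a) (iv b) = iv (tb a b) := by
  have h := mulTab_ok
  simp only [List.all_eq_true, List.mem_range] at h
  have := h a ha b hb
  cases hlt : Nat.blt (tb a b) 72
  · rw [hlt] at this
    simp [hc] at this
  · rw [hlt] at this
    exact ⟨Nat.le_of_ble_eq_true hlt, eq_of_beq this⟩

theorem plane_of_fixed {x : ℕ} (hx : x < 4096) (h : ∀ m ∈ qList, mv m x = x) : x < 64 := by
  have hc : ((List.range 4096).all fun x => Nat.blt x 64 ||
      qList.any fun m => !Nat.beq (mv m x) x) = true := by decide +kernel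
  simp only [List.all_eq_true, List.mem_range, Bool.or_eq_true, List.any_eq_true] at hc
  rcases hc x hx with h' | ⟨m, hm, h'⟩
  · exact Nat.le_of_ble_eq_true h'
  · rw [h m hm] at h'
    simp at h'

theorem plane_of_orth {x : ℕ} (hx : x < 4096) (h : ∀ y < 64, bF x y = false) : x < 64 := by
  have hc : ((List.range 4096).all fun x => Nat.blt x 64 ||
      (List.range 6).any fun i => bF x (2 ^ i)) = true := by decide +kernel
  simp only [List.all_eq_true, List.mem_range, Bool.or_eq_true, List.any_eq_true] at hc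
  rcases hc x hx with h' | ⟨i, hi, h'⟩
  · exact Nat.le_of_ble_eq_true h'
  · rw [h (2 ^ i) (lt_of_lt_of_le (Nat.pow_lt_pow_right one_lt_two hi) le_rfl)] at h'
    exact Bool.noConfusion h'

/-- The cross term of one hyperbolic pair. -/
def cr (v w i j : ℕ) : Bool := (v.testBit i && w.testBit j).xor (w.testBit i && v.testBit j)

/-- The sum of six values. -/
def sumSix (f : ℕ → ℕ → Bool) : Bool :=
  (f 0 7).xor ((f 1 6).xor ((f 2 9).xor ((f 3 8).xor ((f 4 11).xor (f 5 10)))))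

theorem sumSix_xor (f g : ℕ → ℕ → Bool) :
    sumSix (fun i j => (f i j).xor (g i j)) = (sumSix f).xor (sumSix g) := by
  simp only [sumSix]
  simp only [Bool.xor_assoc, Bool.xor_comm, Bool.xor_left_comm]

theorem bF_eq (v w : ℕ) : bF v w = sumSix (cr v w) := by
  have hq : ∀ x, qF x = sumSix (bb x) := fun x => rfl
  have hb : bb (v ^^^ w) = fun i j => (bb v i j).xor ((bb w i j).xor (cr v w i j)) := by
    funext i j
    simp only [bb, cr, Nat.testBit_xor]
    cases v.testBit i <;> cases v.testBit j <;> cases w.testBit i <;> cases w.testBit j <;> rfl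
  rw [bF, hq, hq, hq, hb, sumSix_xor, sumSix_xor]
  cases sumSix (bb v) <;> cases sumSix (bb w) <;> cases sumSix (cr v w) <;> rfl

theorem bF_xor_left (x y w : ℕ) : bF (x ^^^ y) w = (bF x w).xor (bF y w) := by
  have hc : cr (x ^^^ y) w = fun i j => (cr x w i j).xor (cr y w i j) := by
    funext i j
    simp only [cr, Nat.testBit_xor]
    cases x.testBit i <;> cases x.testBit j <;> cases y.testBit i <;> cases y.testBit j <;>
      cases w.testBit i <;> cases w.testBit j <;> rfl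
  rw [bF_eq, bF_eq, bF_eq, hc, sumSix_xor]

variable {G : Type*} [Group G] {z : G} {P : Subgroup G}

namespace Frame

variable (F : Frame z P)
include F

theorem bF_conj {h : G} (hh : h ∈ Cen z) {v w : ℕ} (hv : v < 4096) (hw : w < 4096) :
    bF (mv (F.mat h) v) (mv (F.mat h) w) = bF v w := by
  rw [bF, bF, ← mv_xor', F.qF_conj hh hv, F.qF_conj hh hw, F.qF_conj hh (xor_lt hv hw)]

theorem mat_sq_of_fix_plane {h : G} (hh : h ∈ Cen z)
    (hfix : ∀ y < 64, mv (F.mat h) y = y) : mm (F.mat h) (F.mat h) = idM := by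
  have hg := F.good_mat hh
  refine good_ext (good_mm hg hg) good_idM fun i hi => ?_
  have hp : 2 ^ i < 4096 := Nat.pow_lt_pow_right one_lt_two hi
  rw [mv_mm', mv_idM' hp]
  have hd : mv (F.mat h) (2 ^ i) ^^^ 2 ^ i < 64 := by
    refine plane_of_orth (xor_lt (mv_lt hg.2 _) hp) fun y hy => ?_
    have hy' : y < 4096 := by omega
    have := F.bF_conj hh hp hy'
    rw [hfix y hy] at this
    rw [bF_xor_left, this, Bool.xor_self]
  have h1 := hfix _ hd
  rw [mv_xor'] at h1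
  calc mv (F.mat h) (mv (F.mat h) (2 ^ i))
      = (mv (F.mat h) (mv (F.mat h) (2 ^ i)) ^^^ mv (F.mat h) (2 ^ i)) ^^^ mv (F.mat h) (2 ^ i) := by
        rw [Nat.xor_assoc, Nat.xor_self, Nat.xor_zero]
    _ = mv (F.mat h) (2 ^ i) ^^^ 2 ^ i ^^^ mv (F.mat h) (2 ^ i) := by rw [h1]
    _ = 2 ^ i := by
        rw [Nat.xor_comm (mv (F.mat h) (2 ^ i)), Nat.xor_assoc, Nat.xor_self, Nat.xor_zero]

/-- The preimage of the plane. -/
def Wp : Subgroup G where
  carrier := {x | x ∈ Rad z ∧ F.co x < 64}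
  one_mem' := ⟨one_mem _, by rw [F.co_one']; norm_num⟩
  mul_mem' := fun {a b} ha hb => ⟨mul_mem ha.1 hb.1, by
    rw [F.co_mul a ha.1 b hb.1]; exact Nat.xor_lt_two_pow (n := 6) ha.2 hb.2⟩
  inv_mem' := fun {a} ha => ⟨inv_mem ha.1, by rw [F.co_inv' ha.1]; exact ha.2⟩

theorem mem_Wp {x : G} : x ∈ F.Wp ↔ x ∈ Rad z ∧ F.co x < 64 := Iff.rfl

theorem sq_Wp {x : G} (hx : x ∈ F.Wp) : x * x = 1 := by
  rw [F.sq x hx.1, (plane_singular hx.2 hx.2).1]
  rfl

theorem comm_Wp {x y : G} (hx : x ∈ F.Wp) (hy : y ∈ F.Wp) : x * y = y * x :=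
  (F.comm_iff hx.1 hy.1).2 (plane_singular hx.2 hy.2).2

theorem Wp_of_cent {x : G} (hx : x ∈ Rad z) (hc : ∀ w ∈ F.Wp, w * x = x * w) : x ∈ F.Wp := by
  refine ⟨hx, plane_of_orth (F.co_lt x hx) fun y hy => ?_⟩
  obtain ⟨w, hw, rfl⟩ := F.co_surj y (by omega)
  exact (F.comm_iff hx hw).1 (hc w ⟨hw, hy⟩).symm

/-- The subgroup `V`: the elements over the upper radical centralising the preimage of the
plane. -/
def Vp : Subgroup G where
  carrier := {h | h ∈ Cen z ∧ F.mat h ∈ qList ∧ ∀ w ∈ F.Wp, w * h = h * w}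
  one_mem' := ⟨one_mem _, by rw [F.mat_one']; exact idM_mem_qList, fun w _ => by simp⟩
  mul_mem' := fun {a b} ha hb => ⟨mul_mem ha.1 hb.1, by
      rw [F.mat_mul a ha.1 b hb.1]; exact ((qList_facts ha.2.1).2.1 _ hb.2.1).1,
    fun w hw => by rw [← mul_assoc, ha.2.2 w hw, mul_assoc, hb.2.2 w hw, mul_assoc]⟩
  inv_mem' := fun {a} ha => ⟨inv_mem ha.1, by
      have : F.mat a⁻¹ = F.mat a :=
        F.mat_cancel ha.1 (F.good_mat (inv_mem ha.1)) (F.good_mat ha.1)
          (by rw [F.mat_mul_inv ha.1, (qList_facts ha.2.1).1])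
      rw [this]; exact ha.2.1,
    fun w hw => (Commute.inv_right (ha.2.2 w hw)).eq⟩

theorem mem_Vp {h : G} :
    h ∈ F.Vp ↔ h ∈ Cen z ∧ F.mat h ∈ qList ∧ ∀ w ∈ F.Wp, w * h = h * w := Iff.rfl

theorem Wp_le_Vp : F.Wp ≤ F.Vp := fun x hx =>
  F.mem_Vp.2 ⟨rad_le_cen' hx.1, by rw [F.mat_rad hx.1]; exact idM_mem_qList,
    fun w hw => F.comm_Wp hw hx⟩

theorem root_mem_Vp {v : G} (hv : v ∈ CP z P) (hm : F.mat v ∈ qList) : v ∈ F.Vp :=
  F.mem_Vp.2 ⟨hv.1, hm, fun _ hw => (F.root_plane hv hm hw.1 hw.2).symm⟩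

theorem exists_root {m : List ℕ} (hm : m ∈ qList) : ∃ v ∈ CP z P, F.mat v = m :=
  F.exists_lift' (sylList_inL _ (qList_facts hm).2.2.1) (qList_facts hm).2.2.2.1

theorem Vp_split {h : G} (hh : h ∈ F.Vp) :
    ∃ w ∈ F.Wp, ∃ v ∈ CP z P, F.mat v ∈ qList ∧ h = w * v := by
  obtain ⟨hc, hm, hcw⟩ := F.mem_Vp.1 hh
  obtain ⟨v, hv, hmv⟩ := F.exists_root hm
  have hvr : v⁻¹ * h ∈ Rad z := (F.mat_eq_iff hv.1 hc).1 hmv
  have hr : h * v⁻¹ ∈ Rad z := by
    have := conj_rad hv.1 hvr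
    rwa [mul_inv_cancel_left] at this
  refine ⟨h * v⁻¹, F.Wp_of_cent hr fun w hw => ?_, v, hv, hmv ▸ hm, by group⟩
  exact (Commute.mul_right (hcw w hw)
    (Commute.inv_right (F.root_plane hv (hmv ▸ hm) hw.1 hw.2).symm)).eq

theorem comm_Vp {a b : G} (ha : a ∈ F.Vp) (hb : b ∈ F.Vp) : a * b = b * a := by
  obtain ⟨w, hw, v, hv, hmv, rfl⟩ := F.Vp_split ha
  obtain ⟨w', hw', v', hv', hmv', rfl⟩ := F.Vp_split hb
  have c1 : Commute w w' := F.comm_Wp hw hw'
  have c2 : Commute v v' := F.root_comm hv hv' hmv hmv'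
  have c3 : Commute v w' := F.root_plane hv hmv hw'.1 hw'.2
  have c4 : Commute w v' := (F.root_plane hv' hmv' hw.1 hw.2).symm
  exact ((c1.mul_left c3).mul_right (c4.mul_left c2)).eq

theorem sq_Vp {a : G} (ha : a ∈ F.Vp) : a * a = 1 := by
  obtain ⟨w, hw, v, hv, hmv, rfl⟩ := F.Vp_split ha
  have c : w * v = v * w := (F.root_plane hv hmv hw.1 hw.2).symm
  calc w * v * (w * v) = w * (v * w) * v := by group
    _ = (w * w) * (v * v) := by rw [← c]; group
    _ = 1 := by rw [F.sq_Wp hw, F.root_sq hv hmv, one_mul]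

theorem elem_Vp : IsElementaryAbelian 2 F.Vp :=
  ⟨⟨⟨fun a b => Subtype.ext (F.comm_Vp a.2 b.2)⟩⟩, fun a ha => by rw [pow_two, F.sq_Vp ha]⟩

theorem card_Wp [Finite G] : Nat.card F.Wp = 128 := by
  classical
  choose σ hσr hσc using fun v : Fin 64 => F.co_surj v.1 (by omega)
  let f : Fin 64 × Fin 2 → F.Wp := fun p =>
    if p.2 = 0 then ⟨σ p.1, hσr _, by rw [hσc]; exact p.1.2⟩
    else ⟨z * σ p.1, mul_mem F.z_mem_rad' (hσr _), by
      rw [F.co_mul z F.z_mem_rad' _ (hσr _), F.co_z', hσc, Nat.zero_xor]; exact p.1.2⟩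
  have hf : Function.Bijective f := by
    constructor
    · intro p q h
      have hco : ∀ r, F.co (f r).1 = r.1.1 := by
        intro r
        simp only [f]
        split_ifs
        · exact hσc r.1
        · show F.co (z * σ r.1) = _
          rw [F.co_mul z F.z_mem_rad' _ (hσr _), F.co_z', hσc, Nat.zero_xor]
      have h1 : p.1 = q.1 := Fin.ext (by rw [← hco p, ← hco q, h])
      obtain ⟨p1, p2⟩ := p
      obtain ⟨q1, q2⟩ := q
      subst h1
      have h2 := congrArg Subtype.val h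
      simp only [f] at h2
      have hz : ∀ x : G, z * x ≠ x := fun x e =>
        F.z_ne_one (mul_right_cancel (e.trans (one_mul x).symm))
      fin_cases p2 <;> fin_cases q2 <;> simp at h2 ⊢
      · exact F.z_ne_one h2
      · exact F.z_ne_one h2
    · rintro ⟨x, hx⟩
      rcases F.eq_of_co hx.1 (hσr ⟨F.co x, hx.2⟩) (hσc ⟨F.co x, hx.2⟩).symm with h | h
      · exact ⟨(⟨F.co x, hx.2⟩, 0), Subtype.ext (by simp [f, ← h])⟩
      · exact ⟨(⟨F.co x, hx.2⟩, 1), Subtype.ext (by simp [f, ← h])⟩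
  rw [← Nat.card_eq_of_bijective f hf]
  simp

theorem card_Vp [Finite G] : Nat.card F.Vp = 2 ^ 11 := by
  classical
  choose σ hσc hσm using fun m : {m // m ∈ qList} => F.exists_root m.2
  let f : {m // m ∈ qList} × F.Wp → F.Vp := fun p =>
    ⟨σ p.1 * p.2.1, mul_mem (F.root_mem_Vp (hσc _) (by rw [hσm]; exact p.1.2)) (F.Wp_le_Vp p.2.2)⟩
  have hf : Function.Bijective f := by
    constructor
    · rintro ⟨m, x⟩ ⟨n, y⟩ h
      have h' : σ m * x.1 = σ n * y.1 := congrArg Subtype.val h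
      have hmn : m = n := by
        have := congrArg F.mat h'
        rw [F.mat_mul _ (hσc _).1 _ (rad_le_cen' x.2.1), F.mat_mul _ (hσc _).1 _ (rad_le_cen' y.2.1),
          F.mat_rad x.2.1, F.mat_rad y.2.1, mm_idM_right (F.good_mat (hσc _).1),
          mm_idM_right (F.good_mat (hσc _).1), hσm, hσm] at this
        exact Subtype.ext this
      subst hmn
      rw [Prod.mk.injEq]
      exact ⟨rfl, Subtype.ext (mul_left_cancel h')⟩
    · rintro ⟨h, hh⟩
      have hq := (F.mem_Vp.1 hh).2.1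
      have hx : (σ ⟨F.mat h, hq⟩)⁻¹ * h ∈ Rad z :=
        (F.mat_eq_iff (hσc _).1 (F.mem_Vp.1 hh).1).1 (hσm _)
      have hx' : (σ ⟨F.mat h, hq⟩)⁻¹ * h ∈ F.Vp :=
        mul_mem (inv_mem (F.root_mem_Vp (hσc _) (by rw [hσm]; exact hq))) hh
      exact ⟨(⟨F.mat h, hq⟩, ⟨_, F.Wp_of_cent hx (F.mem_Vp.1 hx').2.2⟩),
        Subtype.ext (mul_inv_cancel_left _ _)⟩
  rw [← Nat.card_eq_of_bijective f hf, Nat.card_prod, F.card_Wp]
  have : Nat.card {m // m ∈ qList} = 16 := by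
    rw [← Nat.card_congr (Equiv.subtypeEquivRight (p := fun m => m ∈ qList.toFinset)
      (q := fun m => m ∈ qList) fun m => List.mem_toFinset), Nat.card_eq_finsetCard,
      List.toFinset_card_of_nodup qList_nodup]
    rfl
  rw [this]
  norm_num

theorem Vp_le_T₀ [Finite G] : F.Vp ≤ F.T₀ := fun _ hv =>
  F.mem_T₀.2 ⟨hv.1, (qList_facts hv.2.1).2.2.1⟩

end Frame

end CfsgLib.J4Type
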