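import Cfsg.Agent.Lib.J4Type.OuterTransfer
import Cfsg.Agent.Lib.J4Type.PlaneV
import Cfsg.Agent.Lib.Invol.BrauerSuzuki
import Mathlib.Combinatorics.Pigeonhole

/-!
# The central involution is not weakly closed among the linear elements

An involution of the centraliser inducing a semilinear map has, by a count of commutators with the
radical, two commutators `x`, `y` such that `t x`, `t y`, `t x y` are conjugates of `t`; if `t` is
conjugate to `z` and `z` is conjugate to no other linear element, the images of `x`, `y`, `x y` are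
all semilinear, which is impossible.  So the Z*-theorem gives another linear conjugate of `z`.
-/

set_option autoImplicit false

namespace CfsgLib.J4Type

open Cfsg

namespace FusedClose

theorem bF_symm (v w : ℕ) : bF v w = bF w v := by
  rw [bF, bF, Nat.xor_comm v w]
  cases qF (w ^^^ v) <;> cases qF v <;> cases qF w <;> rfl

theorem qF_add (v w : ℕ) : qF (v ^^^ w) = ((qF v).xor (qF w)).xor (bF v w) := by
  rw [bF]
  cases qF (v ^^^ w) <;> cases qF v <;> cases qF w <;> rfl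

theorem bF_add_right (u v w : ℕ) : bF u (v ^^^ w) = (bF u v).xor (bF u w) := by
  rw [bF_symm, bF_xor_left, bF_symm v u, bF_symm w u]

theorem bF_same (v : ℕ) : bF v v = false := by
  rw [bF, Nat.xor_self, show qF 0 = false by decide +kernel]
  cases qF v <;> rfl

theorem pOm_fix_ok : ((List.range 4096).all fun v =>
    Nat.beq v 0 || !Nat.beq (mv pOm v) v) = true := by decide +kernel

theorem pOm_fix {v : ℕ} (hv : v < 4096) (h : mv pOm v = v) : v = 0 := by
  have h' := List.all_eq_true.1 pOm_fix_ok v (List.mem_range.2 hv)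
  rw [h, Nat.beq_refl] at h'
  simpa using h'

/-- The commutator map of a matrix. -/
abbrev tr (m : List ℕ) (u : ℕ) : ℕ := mv m u ^^^ u

theorem tr_xor (m : List ℕ) (u v : ℕ) : tr m (u ^^^ v) = tr m u ^^^ tr m v := by
  show mv m (u ^^^ v) ^^^ (u ^^^ v) = mv m u ^^^ u ^^^ (mv m v ^^^ v)
  rw [mv_xor']
  simp only [Nat.xor_assoc, Nat.xor_left_comm]

theorem eq_of_xor {a b : ℕ} (h : a ^^^ b = 0) : a = b := by
  have h2 := congrArg (fun x => x ^^^ b) h
  simpa [Nat.xor_assoc] using h2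

/-- A semilinear involution has a large commutator space. -/
theorem card_image_ge {m : List ℕ} (hm : Good m) (hanti : mm m pOm = mm (mm pOm pOm) m) :
    64 ≤ ((Finset.range 4096).image (tr m)).card := by
  classical
  obtain ⟨K, hK⟩ : ∃ K, K = (Finset.range 4096).filter fun u => tr m u = 0 := ⟨_, rfl⟩
  have hmem : ∀ {u}, u ∈ K ↔ u < 4096 ∧ mv m u = u := fun {u} => by
    rw [hK, Finset.mem_filter, Finset.mem_range]
    exact ⟨fun h => ⟨h.1, eq_of_xor h.2⟩, fun h => ⟨h.1, by show mv m u ^^^ u = 0; rw [h.2, Nat.xor_self]⟩⟩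
  have hpO : ∀ v, mv pOm v < 4096 := fun v => mv_lt pOm_facts.2.2.2.2 v
  have hzero : ∀ c, c ∈ K → mv pOm c ∈ K → c = 0 := by
    intro c hc hc'
    obtain ⟨hc4, hce⟩ := hmem.1 hc
    obtain ⟨-, hce'⟩ := hmem.1 hc'
    have h1 : mv pOm (mv pOm c) = mv pOm c := by
      rw [← mv_mm', hanti, mv_mm', mv_mm', hce] at hce'
      exact hce'
    have h2 : mv pOm c = 0 := pOm_fix (hpO c) h1
    have h3 : mv (mm pOm (mm pOm pOm)) c = c := by rw [pOm_facts.1, mv_idM' hc4]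
    rw [mv_mm', mv_mm', h2, mv_zero', mv_zero'] at h3
    exact h3.symm
  have hKc : K.card ≤ 64 := by
    have h := Finset.card_le_card_of_injOn (s := K ×ˢ K) (t := Finset.range 4096)
      (fun p => p.1 ^^^ mv pOm p.2) (fun p hp => ?_) ?_
    · rw [Finset.card_product, Finset.card_range] at h
      nlinarith
    · rw [Finset.mem_coe, Finset.mem_product] at hp
      exact Finset.mem_coe.2 (Finset.mem_range.2 (xor_lt (hmem.1 hp.1).1 (hpO _)))
    · rintro ⟨a, b⟩ hab ⟨a', b'⟩ hab' e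
      rw [Finset.mem_coe, Finset.mem_product] at hab hab'
      have hsum : a ^^^ a' = mv pOm (b ^^^ b') := by
        rw [mv_xor']
        refine eq_of_xor ?_
        have h2 := congrArg (fun x => x ^^^ (a' ^^^ mv pOm b')) e
        simp only [Nat.xor_self] at h2
        rw [← h2]
        simp only [Nat.xor_assoc, Nat.xor_left_comm]
      have hadd : ∀ {x y}, x ∈ K → y ∈ K → x ^^^ y ∈ K := fun {x y} hx hy => hmem.2
        ⟨xor_lt (hmem.1 hx).1 (hmem.1 hy).1, by rw [mv_xor', (hmem.1 hx).2, (hmem.1 hy).2]⟩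
      have hb := hzero _ (hadd hab.2 hab'.2) (hsum ▸ hadd hab.1 hab'.1)
      rw [hb, mv_zero'] at hsum
      exact Prod.ext (eq_of_xor hsum) (eq_of_xor hb)
  have hfib : ∀ b ∈ (Finset.range 4096).image (tr m),
      ((Finset.range 4096).filter fun u => tr m u = b).card ≤ 64 := by
    intro b hb
    obtain ⟨u₀, hu₀, rfl⟩ := Finset.mem_image.1 hb
    refine le_trans (Finset.card_le_card_of_injOn (fun u => u ^^^ u₀) (fun u hu => ?_) ?_) hKc
    · rw [Finset.mem_coe, Finset.mem_filter, Finset.mem_range] at hu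
      rw [hK, Finset.mem_coe, Finset.mem_filter, Finset.mem_range]
      exact ⟨xor_lt hu.1 (Finset.mem_range.1 hu₀), by rw [tr_xor, hu.2, Nat.xor_self]⟩
    · intro x _ y _ e
      have h2 := congrArg (fun w => w ^^^ u₀) e
      simpa [Nat.xor_assoc] using h2
  have h := Finset.card_le_mul_card_image (f := tr m) (Finset.range 4096) 64 hfib
  rw [Finset.card_range] at h
  omega

/-- Two commutators with the radical giving a four group of conjugates. -/
theorem exists_pair {m : List ℕ} (hm : Good m) (hinv : ∀ v < 4096, mv m (mv m v) = v)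
    (hB : ∀ v < 4096, ∀ w < 4096, bF (mv m v) (mv m w) = bF v w)
    (him : 64 ≤ ((Finset.range 4096).image (tr m)).card) :
    ∃ u₁ < 4096, ∃ u₂ < 4096, qF (tr m u₁) = false ∧ qF (tr m u₂) = false ∧
      bF u₁ (tr m u₂) = false ∧ bF (tr m u₁) (tr m u₂) = false ∧
      tr m u₁ ≠ 0 ∧ tr m u₂ ≠ 0 ∧ tr m u₁ ≠ tr m u₂ := by
  classical
  obtain ⟨I, hI⟩ : ∃ I, I = (Finset.range 4096).image (tr m) := ⟨_, rfl⟩
  rw [← hI] at him
  have hmem : ∀ {v}, v ∈ I → ∃ u < 4096, tr m u = v := fun {v} hv => by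
    rw [hI] at hv
    obtain ⟨u, hu, e⟩ := Finset.mem_image.1 hv
    exact ⟨u, Finset.mem_range.1 hu, e⟩
  have horth : ∀ {v w}, v ∈ I → w ∈ I → bF v w = false := by
    intro v w hv hw
    obtain ⟨a, ha, rfl⟩ := hmem hv
    obtain ⟨b, hb, rfl⟩ := hmem hw
    have hma : mv m a < 4096 := mv_lt hm.2 a
    have e1 : bF a (mv m b) = bF (mv m a) b := by
      conv_rhs => rw [← hinv b hb]
      exact (hB a ha _ (mv_lt hm.2 b)).symm
    show bF (mv m a ^^^ a) (mv m b ^^^ b) = false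
    rw [bF_xor_left, bF_add_right, bF_add_right, hB a ha b hb, e1]
    cases bF a b <;> cases bF (mv m a) b <;> rfl
  obtain ⟨c₀, -, h3⟩ := Finset.exists_lt_card_fiber_of_mul_lt_card_of_maps_to (s := I) (t := Finset.univ)
    (f := fun v => qF v) (n := 1) (fun a _ => Finset.mem_univ _) (by simp; omega)
  obtain ⟨a, ha, b, hb, hab⟩ := Finset.one_lt_card.1 h3
  rw [Finset.mem_filter] at ha hb
  obtain ⟨ua, hua, eua⟩ := hmem ha.1
  obtain ⟨ub, hub, eub⟩ := hmem hb.1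
  obtain ⟨u₁, hu₁⟩ : ∃ u₁, u₁ = ua ^^^ ub := ⟨_, rfl⟩
  have e1 : tr m u₁ = a ^^^ b := by rw [hu₁, tr_xor, eua, eub]
  have hq1 : qF (tr m u₁) = false := by
    rw [e1, qF_add, horth ha.1 hb.1, ha.2, hb.2]
    cases c₀ <;> rfl
  have hv1 : tr m u₁ ≠ 0 := fun e => hab (eq_of_xor (e1 ▸ e))
  obtain ⟨c, -, h4⟩ := Finset.exists_lt_card_fiber_of_mul_lt_card_of_maps_to (s := I) (t := Finset.univ)
    (f := fun v => (qF v, bF u₁ v)) (n := 2) (fun a _ => Finset.mem_univ _) (by simp; omega)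
  obtain ⟨x, y, w, hx, hy, hw, hxy, hxw, hyw⟩ := Finset.two_lt_card_iff.1 h4
  rw [Finset.mem_filter] at hx hy hw
  obtain ⟨ux, hux, eux⟩ := hmem hx.1
  have key : ∀ {y}, y ∈ I → (qF y, bF u₁ y) = c → x ≠ y → x ^^^ y ≠ tr m u₁ →
      ∃ u₁ < 4096, ∃ u₂ < 4096, qF (tr m u₁) = false ∧ qF (tr m u₂) = false ∧
      bF u₁ (tr m u₂) = false ∧ bF (tr m u₁) (tr m u₂) = false ∧
      tr m u₁ ≠ 0 ∧ tr m u₂ ≠ 0 ∧ tr m u₁ ≠ tr m u₂ := by
    intro y hy hyc hne hne'
    obtain ⟨uy, huy, euy⟩ := hmem hy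
    have e2 : tr m (ux ^^^ uy) = x ^^^ y := by rw [tr_xor, eux, euy]
    have hc1 : qF x = qF y := (congrArg Prod.fst hx.2).trans (congrArg Prod.fst hyc).symm
    have hc2 : bF u₁ x = bF u₁ y := (congrArg Prod.snd hx.2).trans (congrArg Prod.snd hyc).symm
    have hu₁4 : u₁ < 4096 := hu₁ ▸ xor_lt hua hub
    refine ⟨u₁, hu₁4, ux ^^^ uy, xor_lt hux huy, hq1, ?_, ?_, ?_, hv1, ?_, ?_⟩
    · rw [e2, qF_add, horth hx.1 hy, hc1]; cases qF y <;> rfl
    · rw [e2, bF_add_right, hc2]; cases bF u₁ y <;> rfl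
    · rw [e1, e2, bF_add_right, bF_xor_left, bF_xor_left, horth ha.1 hx.1, horth hb.1 hx.1,
        horth ha.1 hy, horth hb.1 hy]
      rfl
    · rw [e2]; exact fun e => hne (eq_of_xor e)
    · rw [e2]; exact fun e => hne' e.symm
  by_cases h : x ^^^ y = tr m u₁
  · refine key hw.1 hw.2 hxw fun e => hyw ?_
    have h2 := congrArg (fun v => x ^^^ v) (h.trans e.symm)
    simpa [← Nat.xor_assoc] using h2
  · exact key hy.1 hy.2 hxy h

end FusedClose

namespace Frame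

open FusedClose

variable {G : Type*} [Group G] [Finite G] {z : G} {P : Subgroup G}
variable (F : Frame z P)
include F

omit [Finite G] in
theorem inX_z_mul {x : G} (hx : x ∈ Cen z) (h : InX (F.mat x)) : InX (F.mat (z * x)) := by
  rwa [F.mat_mul z z_mem_cen x hx, F.mat_rad F.z_mem_rad', mm_idM' (F.good_mat hx)]

omit [Finite G] in
/-- The commutator of an element with a radical element in coordinates. -/
theorem co_comm {t e : G} (ht : t ∈ Cen z) (he : e ∈ Rad z) :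
    t * e * t⁻¹ * e⁻¹ ∈ Rad z ∧ F.co (t * e * t⁻¹ * e⁻¹) = tr (F.mat t) (F.co e) := by
  refine ⟨mul_mem (conj_rad ht he) (inv_mem he), ?_⟩
  rw [F.co_mul _ (conj_rad ht he) _ (inv_mem he), F.conj t ht e he, F.co_inv' he]

/-- If `z` is the only linear conjugate of itself, no semilinear involution is conjugate to `z`. -/
theorem linear_of_conj (hw : ∀ u ∈ Cen z, InX (F.mat u) → IsConj z u → u = z) {t : G}
    (ht : t ∈ Cen z) (htz : IsConj z t) : InX (F.mat t) := by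
  by_contra hX
  have ht2 : t * t = 1 := by
    obtain ⟨k, hk⟩ := isConj_iff.1 htz
    rw [← hk, show k * z * k⁻¹ * (k * z * k⁻¹) = k * (z * z) * k⁻¹ by group, F.z_sq, mul_one,
      mul_inv_cancel]
  have hinv : ∀ v < 4096, mv (F.mat t) (mv (F.mat t) v) = v := fun v hv => by
    rw [← mv_mm', ← F.mat_mul t ht t ht, ht2, F.mat_one', mv_idM' hv]
  have hanti := (linear_or_anti (F.mat_inL t ht)).resolve_left fun h => hX ((F.inX_iff ht).2 h)
  obtain ⟨u₁, hu₁, u₂, hu₂, hq1, hq2, hc, hvv, hn1, hn2, hn12⟩ := exists_pair (F.good_mat ht) hinv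
    (fun v hv w hw => F.bF_conj ht hv hw) (card_image_ge (F.good_mat ht) hanti)
  obtain ⟨e₁, he₁, ce₁⟩ := F.co_surj u₁ hu₁
  obtain ⟨e₂, he₂, ce₂⟩ := F.co_surj u₂ hu₂
  obtain ⟨hx1, cx1⟩ := F.co_comm ht he₁
  obtain ⟨hx2, cx2⟩ := F.co_comm ht he₂
  obtain ⟨hx3, cx3⟩ := F.co_comm ht (mul_mem he₁ he₂)
  rw [ce₁] at cx1
  rw [ce₂] at cx2
  rw [F.co_mul _ he₁ _ he₂, ce₁, ce₂, tr_xor] at cx3
  obtain ⟨g, hg⟩ : ∃ g, g * t * g⁻¹ = z := isConj_iff.1 htz.symm
  have hout : ∀ e ∈ Rad z, qF (F.co (t * e * t⁻¹ * e⁻¹)) = false →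
      F.co (t * e * t⁻¹ * e⁻¹) ≠ 0 →
      g * (t * e * t⁻¹ * e⁻¹) * g⁻¹ ∈ Cen z ∧ ¬ InX (F.mat (g * (t * e * t⁻¹ * e⁻¹) * g⁻¹)) := by
    intro e he hq hne
    obtain ⟨hxR, -⟩ := F.co_comm ht he
    obtain ⟨x, hxd⟩ : ∃ x, x = t * e * t⁻¹ * e⁻¹ := ⟨_, rfl⟩
    rw [← hxd] at hq hne hxR ⊢
    have hx2' : x * x = 1 := by
      have h := F.sq x hxR
      rw [hq] at h
      simpa using h
    have hti : t⁻¹ = t := inv_eq_of_mul_eq_one_right ht2
    have etx : t * x = e * t * e⁻¹ := by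
      rw [hxd, hti, show t * (t * e * t * e⁻¹) = (t * t) * (e * t * e⁻¹) by group, ht2, one_mul]
    have hxt : x * t = t * x := by
      have h1 : (t * x) * (t * x) = 1 := by
        rw [etx, show e * t * e⁻¹ * (e * t * e⁻¹) = e * (t * t) * e⁻¹ by group, ht2, mul_one,
          mul_inv_cancel]
      calc x * t = x * t * (x * x) := by rw [hx2', mul_one]
        _ = (t * t) * x * t * x * x := by rw [ht2]; group
        _ = t * ((t * x) * (t * x)) * x := by group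
        _ = t * x := by rw [h1, mul_one]
    have hfc : g * x * g⁻¹ ∈ Cen z := by
      refine mem_cen.2 ?_
      rw [← hg, show g * x * g⁻¹ * (g * t * g⁻¹) = g * (x * t) * g⁻¹ by group, hxt]
      group
    refine ⟨hfc, fun hin => hne ?_⟩
    have hconj : IsConj z (z * (g * x * g⁻¹)) := by
      refine htz.trans (isConj_iff.2 ⟨g * e, ?_⟩)
      rw [← hg, show g * e * t * (g * e)⁻¹ = g * (e * t * e⁻¹) * g⁻¹ by group, ← etx]
      group
    have h1 := hw _ (mul_mem z_mem_cen hfc) (F.inX_z_mul hfc hin) hconj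
    rw [mul_eq_left, conj_eq_one_iff] at h1
    rw [h1, F.co_one']
  obtain ⟨h1c, h1o⟩ := hout e₁ he₁ (cx1 ▸ hq1) (cx1 ▸ hn1)
  obtain ⟨h2c, h2o⟩ := hout e₂ he₂ (cx2 ▸ hq2) (cx2 ▸ hn2)
  obtain ⟨-, h3o⟩ := hout (e₁ * e₂) (mul_mem he₁ he₂)
    (by rw [cx3, qF_add, hq1, hq2, hvv]; rfl) (by rw [cx3]; exact fun e => hn12 (eq_of_xor e))
  have hcomm : e₁ * (t * e₂ * t⁻¹ * e₂⁻¹) = t * e₂ * t⁻¹ * e₂⁻¹ * e₁ :=
    (F.comm_iff he₁ hx2).2 (by rw [ce₁, cx2]; exact hc)
  have hprod : t * (e₁ * e₂) * t⁻¹ * (e₁ * e₂)⁻¹ =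
      t * e₁ * t⁻¹ * e₁⁻¹ * (t * e₂ * t⁻¹ * e₂⁻¹) :=
    calc t * (e₁ * e₂) * t⁻¹ * (e₁ * e₂)⁻¹
        = t * e₁ * t⁻¹ * e₁⁻¹ * (e₁ * (t * e₂ * t⁻¹ * e₂⁻¹)) * e₁⁻¹ := by group
      _ = t * e₁ * t⁻¹ * e₁⁻¹ * (t * e₂ * t⁻¹ * e₂⁻¹ * e₁) * e₁⁻¹ := by rw [hcomm]
      _ = _ := by group
  refine h3o ?_
  rw [hprod, show g * (t * e₁ * t⁻¹ * e₁⁻¹ * (t * e₂ * t⁻¹ * e₂⁻¹)) * g⁻¹ =
    g * (t * e₁ * t⁻¹ * e₁⁻¹) * g⁻¹ * (g * (t * e₂ * t⁻¹ * e₂⁻¹) * g⁻¹) by group]
  exact (F.linear_mul_iff h1c h2c h2o).2 h1o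

/-- Some conjugate of `z` other than itself induces a linear map. -/
theorem exists_conj_inner [IsSimpleGroup G] :
    ∃ u, u ∈ Cen z ∧ InX (F.mat u) ∧ u ≠ z ∧ IsConj z u := by
  by_contra hcon
  push_neg at hcon
  have hw : ∀ u ∈ Cen z, InX (F.mat u) → IsConj z u → u = z := fun u h1 h2 h3 => by
    by_contra hne
    exact hcon u h1 h2 hne h3
  have hiso : Cfsg.IsIsolatedInvolution z := ⟨F.orderOf_z', fun g hg => by
    have hmem : g * z * g⁻¹ ∈ Cen z := mem_cen.2 hg.eq.symm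
    have hc : IsConj z (g * z * g⁻¹) := isConj_iff.2 ⟨g, rfl⟩
    exact hw _ hmem (F.linear_of_conj hw hmem hc) hc⟩
  have hodd := CfsgLib.Invol.odd_card_oddCore G
  rcases (CfsgLib.Solvable.pPrimeCore_normal 2 G).eq_bot_or_eq_top with h | h
  · have hcen : ∀ g : G, g * z = z * g := fun g => by
      have h1 := CfsgLib.Invol.zstar G hiso g
      rw [show Cfsg.oddCore G = ⊥ from h, Subgroup.mem_bot, mul_inv_eq_one, mul_inv_eq_iff_eq_mul] at h1
      exact h1.symm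
    have hn : (Subgroup.zpowers z).Normal := ⟨fun n hn g => by
      obtain ⟨k, rfl⟩ := Subgroup.mem_zpowers_iff.1 hn
      rw [(Commute.zpow_right (hcen g : Commute g z) k).eq, mul_inv_cancel_right]
      exact hn⟩
    rcases hn.eq_bot_or_eq_top with h' | h'
    · exact F.z_ne_one (Subgroup.zpowers_eq_bot.1 h')
    · have h2 := Nat.card_zpowers z
      rw [h', Subgroup.card_top, F.orderOf_z'] at h2
      have h3 := Subgroup.card_subgroup_dvd_card (Rad z)
      rw [F.card_rad, h2] at h3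
      exact absurd (Nat.le_of_dvd (by norm_num) h3) (by norm_num)
  · rw [show Cfsg.oddCore G = ⊤ from h, Subgroup.card_top] at hodd
    have h2 : 2 ∣ Nat.card G := F.orderOf_z' ▸ orderOf_dvd_natCard z
    exact Nat.not_even_iff_odd.2 hodd (even_iff_two_dvd.2 h2)

end Frame

end CfsgLib.J4Type
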