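import Cfsg.Agent.Lib.J4Type.FusedBase

/-!
A conjugate `t` of the central involution inside the centraliser but outside the radical, when the
central involution is weakly closed in the radical: the commutators of the radical with `t` avoid
the conjugate radical, so the intersection of the two radicals is small.
-/

set_option autoImplicit false

namespace CfsgLib.J4Type

open Cfsg

variable {G : Type*} [Group G] {z : G} {P : Subgroup G}

/-- The radical at the conjugate `g z g⁻¹`. -/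
def radAt (z g : G) : Subgroup G := (Rad z).comap (MulAut.conj g⁻¹).toMonoidHom

theorem mem_radAt {g x : G} : x ∈ radAt z g ↔ g⁻¹ * x * g ∈ Rad z := by
  simp [radAt]

/-- A conjugate of the central involution in the centraliser outside the radical. -/
structure Stray (z t g : G) : Prop where
  weak : ∀ x ∈ Rad z, IsConj z x → x = z
  eq : g * z * g⁻¹ = t
  mem : t ∈ Cen z
  notin : t ∉ Rad z

namespace Stray

variable {t g : G} (S : Stray z t g) (F : Frame z P)
include S F

theorem sq_t : t * t = 1 := by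
  rw [← S.eq, show g * z * g⁻¹ * (g * z * g⁻¹) = g * (z * z) * g⁻¹ by group, F.z_sq, mul_one,
    mul_inv_cancel]

theorem back : g⁻¹ * t * g = z := by rw [← S.eq]; group

theorem t_mem : t ∈ radAt z g := by rw [mem_radAt, S.back F]; exact F.z_mem_rad'

theorem z_not : z ∉ radAt z g := by
  intro h
  rw [mem_radAt] at h
  have e := S.weak _ h (isConj_iff.2 ⟨g⁻¹, by group⟩)
  apply S.notin
  have : t = z := by
    rw [← S.eq]
    calc g * z * g⁻¹ = g * (g⁻¹ * z * g) * g⁻¹ := by rw [e]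
      _ = z := by group
  rw [this]
  exact F.z_mem_rad'

/-- A commutator of the radical with `t` lying in the radical at `t` is trivial. -/
theorem comm_trivial {x : G} (hx : x ∈ Rad z) (h : x * t * x⁻¹ * t⁻¹ ∈ radAt z g) :
    x * t * x⁻¹ * t⁻¹ = 1 := by
  have h1 : g⁻¹ * (x * t * x⁻¹) * g ∈ Rad z := by
    have := mul_mem h (S.t_mem F)
    rw [inv_mul_cancel_right, mem_radAt] at this
    exact this
  have e := S.weak _ h1 (isConj_iff.2 ⟨g⁻¹ * x * g, by rw [← S.eq]; group⟩)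
  have : x * t * x⁻¹ = t := by
    calc x * t * x⁻¹ = g * (g⁻¹ * (x * t * x⁻¹) * g) * g⁻¹ := by group
      _ = g * z * g⁻¹ := by rw [e]
      _ = t := S.eq
  rw [this, mul_inv_cancel]

theorem commute_t {x : G} (hx : x ∈ radAt z g) : x * t = t * x := by
  have h := rad_le_cen' (mem_radAt.1 hx)
  rw [mem_cen] at h
  calc x * t = g * (g⁻¹ * x * g * z) * g⁻¹ := by rw [← S.eq]; group
    _ = g * (z * (g⁻¹ * x * g)) * g⁻¹ := by rw [h]
    _ = t * x := by rw [← S.eq]; group

theorem inter_sq {k : G} (hk : k ∈ Rad z) (hk' : k ∈ radAt z g) : k * k = 1 := by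
  have h := F.sq k hk
  have hm : k * k ∈ radAt z g := mul_mem hk' hk'
  cases hq : qF (F.co k)
  · rw [hq] at h; exact h
  · rw [hq, if_pos rfl] at h
    exact absurd (h ▸ hm) (S.z_not F)

theorem inter_comm {a b : G} (ha : a ∈ Rad z) (ha' : a ∈ radAt z g) (hb : b ∈ Rad z)
    (hb' : b ∈ radAt z g) : a * b = b * a := by
  have h1 := S.inter_sq F ha ha'
  have h2 := S.inter_sq F hb hb'
  have h3 := S.inter_sq F (mul_mem ha hb) (mul_mem ha' hb')
  calc a * b = (a * b)⁻¹ := (inv_eq_of_mul_eq_one_right h3).symm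
    _ = b⁻¹ * a⁻¹ := mul_inv_rev _ _
    _ = b * a := by rw [inv_eq_of_mul_eq_one_right h1, inv_eq_of_mul_eq_one_right h2]

/-- An element of the radical commuting with `t` normalises the radical at `t`. -/
theorem conj_radAt {x k : G} (hx : x ∈ Cen z) (hxt : x * t = t * x) (hk : k ∈ radAt z g) :
    x * k * x⁻¹ ∈ radAt z g := by
  rw [mem_radAt] at hk ⊢
  have hc : g⁻¹ * x * g ∈ Cen z := by
    rw [mem_cen]
    calc g⁻¹ * x * g * z = g⁻¹ * (x * t) * g := by rw [← S.eq]; group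
      _ = g⁻¹ * (t * x) * g := by rw [hxt]
      _ = z * (g⁻¹ * x * g) := by rw [← S.eq]; group
  have := conj_rad hc hk
  convert this using 1
  group

/-- Elements of the radical at `t` centralise the intersection of the two radicals. -/
theorem inter_cent {d k : G} (hd : d ∈ radAt z g) (hdc : d ∈ Cen z) (hk : k ∈ Rad z)
    (hk' : k ∈ radAt z g) : d * k * d⁻¹ = k := by
  have hd' := mem_radAt.1 hd
  have hk'' := mem_radAt.1 hk'
  rcases F.eq_of_co (conj_rad (rad_le_cen' hd') hk'') hk'' (by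
    rw [F.conj _ (rad_le_cen' hd') _ hk'', F.mat_rad hd', mv_idM' (F.co_lt _ hk'')]) with e | e
  · calc d * k * d⁻¹ = g * (g⁻¹ * d * g * (g⁻¹ * k * g) * (g⁻¹ * d * g)⁻¹) * g⁻¹ := by group
      _ = g * (g⁻¹ * k * g) * g⁻¹ := by rw [e]
      _ = k := by group
  exfalso
  apply S.notin
  have : t = d * k * d⁻¹ * k⁻¹ := by
    calc t = g * (z * (g⁻¹ * k * g)) * g⁻¹ * k⁻¹ := by rw [← S.eq]; group
      _ = g * (g⁻¹ * d * g * (g⁻¹ * k * g) * (g⁻¹ * d * g)⁻¹) * g⁻¹ * k⁻¹ := by rw [e]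
      _ = d * k * d⁻¹ * k⁻¹ := by group
  rw [this]
  exact mul_mem (conj_rad hdc hk) (inv_mem hk)

theorem conj_stray {h : G} (hh : h ∈ Cen z) : Stray z (h * t * h⁻¹) (h * g) where
  weak := S.weak
  eq := by rw [← S.eq]; group
  mem := mul_mem (mul_mem hh S.mem) (inv_mem hh)
  notin := fun hm => S.notin (by
    have := conj_rad (inv_mem hh) hm
    convert this using 1
    group)

end Stray

/-- Images in the vectors of the intersection of the two radicals. -/
noncomputable def interSet [Finite G] (F : Frame z P) (g : G) : Finset ℕ :=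
  (Rad z ⊓ radAt z g : Subgroup G).carrier.toFinite.toFinset.image F.co

/-- The matrices of the radical at `t` centralising `z`. -/
noncomputable def actSet [Finite G] (F : Frame z P) (g : G) : Finset (List ℕ) :=
  (Cen z ⊓ radAt z g : Subgroup G).carrier.toFinite.toFinset.image F.mat

namespace Stray

variable [Finite G] {t g : G} (S : Stray z t g) (F : Frame z P)
include S F

omit S in
theorem mem_interSet {v : ℕ} :
    v ∈ interSet F g ↔ ∃ k, k ∈ Rad z ∧ k ∈ radAt z g ∧ F.co k = v := by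
  simp [interSet, and_assoc]

omit S in
theorem mem_actSet {m : List ℕ} :
    m ∈ actSet F g ↔ ∃ d, d ∈ Cen z ∧ d ∈ radAt z g ∧ F.mat d = m := by
  simp [actSet, and_assoc]

theorem zero_interSet : 0 ∈ interSet F g :=
  (mem_interSet F).2 ⟨1, one_mem _, one_mem _, F.co_one'⟩

theorem interSet_xor {a b : ℕ} (ha : a ∈ interSet F g) (hb : b ∈ interSet F g) :
    a ^^^ b ∈ interSet F g := by
  obtain ⟨x, hx, hx', rfl⟩ := (mem_interSet F).1 ha
  obtain ⟨y, hy, hy', rfl⟩ := (mem_interSet F).1 hb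
  exact (mem_interSet F).2 ⟨x * y, mul_mem hx hy, mul_mem hx' hy', F.co_mul x hx y hy⟩

theorem interSet_facts {v : ℕ} (hv : v ∈ interSet F g) :
    v < 4096 ∧ mv (F.mat t) v = v ∧ (∀ w ∈ interSet F g, bF v w = false) ∧
      ∀ m ∈ actSet F g, mv m v = v := by
  obtain ⟨k, hk, hk', rfl⟩ := (mem_interSet F).1 hv
  refine ⟨F.co_lt k hk, ?_, fun w hw => ?_, fun m hm => ?_⟩
  · rw [← F.conj t S.mem k hk, ← S.commute_t F hk', mul_inv_cancel_right]
  · obtain ⟨l, hl, hl', rfl⟩ := (mem_interSet F).1 hw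
    exact (F.comm_iff hk hl).1 (S.inter_comm F hk hk' hl hl')
  · obtain ⟨d, hdc, hd, rfl⟩ := (mem_actSet F).1 hm
    rw [← F.conj d hdc k hk, S.inter_cent F hd hdc hk hk']

theorem act_comm {m : List ℕ} (hm : m ∈ actSet F g) :
    mm m (F.mat t) = mm (F.mat t) m := by
  obtain ⟨d, hdc, hd, rfl⟩ := (mem_actSet F).1 hm
  rw [← F.mat_mul d hdc t S.mem, ← F.mat_mul t S.mem d hdc, S.commute_t F hd]

/-- Commutators with the vectors lifting to centralised elements lie in the intersection. -/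
theorem act_move {m : List ℕ} (hm : m ∈ actSet F g) {x : G} (hx : x ∈ Rad z)
    (hxt : x * t = t * x) : mv m (F.co x) ^^^ F.co x ∈ interSet F g := by
  obtain ⟨d, hdc, hd, rfl⟩ := (mem_actSet F).1 hm
  have hr := conj_rad hdc hx
  refine (mem_interSet F).2 ⟨d * x * d⁻¹ * x⁻¹, mul_mem hr (inv_mem hx), ?_, ?_⟩
  · have h1 := S.conj_radAt F (rad_le_cen' hx) hxt (inv_mem hd)
    have := mul_mem hd h1
    convert this using 1
    group
  · rw [F.co_mul _ hr _ (inv_mem hx), F.co_inv' hx, F.conj d hdc x hx]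

theorem card_count (hz : z ∈ Cen z) :
    64 ≤ (actSet F g).card * (interSet F g).card := by
  classical
  have hback : g⁻¹ * z * g ∈ Cen z := by
    rw [mem_cen]
    have h := mem_cen.1 S.mem
    calc g⁻¹ * z * g * z = g⁻¹ * (z * t) * g := by rw [← S.eq]; group
      _ = g⁻¹ * (t * z) * g := by rw [h]
      _ = z * (g⁻¹ * z * g) := by rw [← S.eq]; group
  have h2 : g⁻¹ * z * g * (g⁻¹ * z * g) = 1 := by
    rw [show g⁻¹ * z * g * (g⁻¹ * z * g) = g⁻¹ * (z * z) * g by group, F.z_sq]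
    group
  have hlow := F.card_cent_rad hback h2
  set D : Subgroup G := Cen z ⊓ radAt z g with hD
  have hmap : Nat.card ↥(Rad z ⊓ Subgroup.centralizer ({g⁻¹ * z * g} : Set G)) ≤ Nat.card D := by
    refine Nat.card_le_card_of_injective (fun x => (⟨g * x.1 * g⁻¹, ?_, ?_⟩ : D))
      fun a b h => Subtype.ext (mul_left_cancel (mul_right_cancel (congrArg Subtype.val h)))
    · have h := Subgroup.mem_centralizer_singleton_iff.1 x.2.2
      show g * x.1 * g⁻¹ ∈ Cen z
      rw [mem_cen]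
      calc g * x.1 * g⁻¹ * z = g * (x.1 * (g⁻¹ * z * g)) * g⁻¹ := by group
        _ = g * (g⁻¹ * z * g * x.1) * g⁻¹ := by rw [h]
        _ = z * (g * x.1 * g⁻¹) := by group
    · show g * x.1 * g⁻¹ ∈ radAt z g
      rw [mem_radAt, show g⁻¹ * (g * x.1 * g⁻¹) * g = x.1 by group]
      exact x.2.1
  refine le_trans (le_trans hlow hmap) ?_
  have hfib : ∀ m ∈ actSet F g,
      ((D : Subgroup G).carrier.toFinite.toFinset.filter fun d => F.mat d = m).card ≤
        (interSet F g).card := by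
    intro m hm
    obtain ⟨d₀, hd₀c, hd₀, rfl⟩ := (mem_actSet F).1 hm
    refine Finset.card_le_card_of_injOn (fun d => F.co (d₀⁻¹ * d)) ?_ ?_
    · intro d hd
      simp only [Finset.coe_filter, Set.Finite.mem_toFinset, Subgroup.mem_carrier,
        Set.mem_setOf_eq, hD, Subgroup.mem_inf] at hd
      exact (mem_interSet F).2 ⟨d₀⁻¹ * d, (F.mat_eq_iff hd₀c hd.1.1).1 hd.2.symm,
        mul_mem (inv_mem hd₀) hd.1.2, rfl⟩
    · intro a ha b hb e
      simp only [Finset.coe_filter, Set.Finite.mem_toFinset, Subgroup.mem_carrier,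
        Set.mem_setOf_eq, hD, Subgroup.mem_inf] at ha hb
      have ra := (F.mat_eq_iff hd₀c ha.1.1).1 ha.2.symm
      have rb := (F.mat_eq_iff hd₀c hb.1.1).1 hb.2.symm
      rcases F.eq_of_co ra rb e with h | h
      · exact mul_left_cancel h
      · exfalso
        apply S.z_not F
        have : z = d₀⁻¹ * a * (d₀⁻¹ * b)⁻¹ := by rw [h, mul_inv_cancel_right]
        have hm := mul_mem (mul_mem (inv_mem hd₀) ha.1.2) (inv_mem (mul_mem (inv_mem hd₀) hb.1.2))
        rw [← this] at hm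
        exact hm
  rw [mul_comm, show Nat.card D = (D : Subgroup G).carrier.toFinite.toFinset.card from
    Nat.card_eq_card_finite_toFinset _]
  exact Finset.card_le_mul_card_image _ _ hfib

/-- If some element lifting a fixed vector is inverted to its product with `z`, the intersection
meets the commutators trivially. -/
theorem inter_im_trivial {w : G} (hw : w ∈ Rad z) (hwt : t * w * t⁻¹ = w * z) {v : ℕ}
    (hv : v ∈ interSet F g) (hvi : v ∈ imSet (F.mat t)) : v = 0 := by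
  obtain ⟨k, hk, hk', rfl⟩ := (mem_interSet F).1 hv
  simp only [imSet, Finset.mem_image, Finset.mem_range] at hvi
  obtain ⟨u, hu, huv⟩ := hvi
  obtain ⟨x, hx, rfl⟩ := F.co_surj u hu
  obtain ⟨hy, hyc⟩ := F.conj_co_mul S.mem hx
  have hzc : ∀ y ∈ Rad z, y * z = z * y := fun y hy => mem_cen.1 (rad_le_cen' hy)
  rcases F.eq_of_co hk hy (by rw [hyc, huv]) with e | e
  · rw [e, S.comm_trivial F hx (e ▸ hk'), F.co_one']
  · have hwc : F.co w < 4096 ∧ mv (F.mat t) (F.co w) = F.co w := by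
      refine ⟨F.co_lt w hw, ?_⟩
      rw [← F.conj t S.mem w hw, hwt, F.co_mul w hw z F.z_mem_rad', F.co_z', Nat.xor_zero]
    have hcomm : w * (x * t * x⁻¹ * t⁻¹) = x * t * x⁻¹ * t⁻¹ * w := by
      refine (F.comm_iff hw hy).2 ?_
      rw [bF_symm, hyc]
      exact F.im_perp S.mem (Finset.mem_image.2 ⟨F.co x, Finset.mem_range.2 hu, rfl⟩) hwc.1 hwc.2
    have hwti : t * w⁻¹ * t⁻¹ = z * w⁻¹ := by
      rw [show t * w⁻¹ * t⁻¹ = (t * w * t⁻¹)⁻¹ by group, hwt, mul_inv_rev,
        inv_eq_of_mul_eq_one_right F.z_sq]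
    have hy' : w * x * t * (w * x)⁻¹ * t⁻¹ = k := by
      calc w * x * t * (w * x)⁻¹ * t⁻¹ = w * (x * t * x⁻¹ * t⁻¹) * (t * w⁻¹ * t⁻¹) := by group
        _ = x * t * x⁻¹ * t⁻¹ * w * (z * w⁻¹) := by rw [hcomm, hwti]
        _ = x * t * x⁻¹ * t⁻¹ * (w * z) * w⁻¹ := by group
        _ = x * t * x⁻¹ * t⁻¹ * (z * w) * w⁻¹ := by rw [hzc w hw]
        _ = x * t * x⁻¹ * t⁻¹ * z := by group
        _ = z * (x * t * x⁻¹ * t⁻¹) := hzc _ hy
        _ = k := e.symm
    have := S.comm_trivial F (mul_mem hw hx) (hy'.symm ▸ hk')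
    rw [hy'] at this
    rw [this, F.co_one']

/-- When the intersection lies in the commutators it has at most four elements. -/
theorem inter_le_four (hsub : ∀ v ∈ interSet F g, v ∈ imSet (F.mat t)) :
    (interSet F g).card ≤ 4 := by
  classical
  have hlift : ∀ v ∈ interSet F g, v ≠ 0 → ∃ x ∈ Rad z, mv (F.mat t) (F.co x) ^^^ F.co x = v ∧
      z * (x * t * x⁻¹ * t⁻¹) ∈ radAt z g := by
    intro v hv hv0
    obtain ⟨k, hk, hk', rfl⟩ := (mem_interSet F).1 hv
    have := hsub _ hv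
    simp only [imSet, Finset.mem_image, Finset.mem_range] at this
    obtain ⟨u, hu, huv⟩ := this
    obtain ⟨x, hx, rfl⟩ := F.co_surj u hu
    obtain ⟨hy, hyc⟩ := F.conj_co_mul S.mem hx
    refine ⟨x, hx, huv, ?_⟩
    rcases F.eq_of_co hk hy (by rw [hyc, huv]) with e | e
    · exact absurd (by rw [e, S.comm_trivial F hx (e ▸ hk'), F.co_one'] : F.co k = 0) hv0
    · exact e ▸ hk'
  choose! xs hxr hxc hxk using hlift
  have pair : ∀ a ∈ interSet F g, ∀ b ∈ interSet F g, a ≠ 0 → b ≠ 0 → a ≠ b →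
      bF (F.co (xs a)) b = true := by
    intro a ha b hb ha0 hb0 hab
    set x := xs a
    set x' := xs b
    have hx := hxr a ha ha0
    have hx' := hxr b hb hb0
    obtain ⟨hy, hyc⟩ := F.conj_co_mul S.mem hx
    obtain ⟨hy', hyc'⟩ := F.conj_co_mul S.mem hx'
    have hzy : z * (x' * t * x'⁻¹ * t⁻¹) ∈ Rad z := mul_mem F.z_mem_rad' hy'
    by_contra hf
    rw [Bool.not_eq_true] at hf
    have hc : x * (z * (x' * t * x'⁻¹ * t⁻¹)) = z * (x' * t * x'⁻¹ * t⁻¹) * x := by
      refine (F.comm_iff hx hzy).2 ?_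
      rw [F.co_mul z F.z_mem_rad' _ hy', F.co_z', Nat.zero_xor, hyc', hxc b hb hb0]
      exact hf
    have hprod : x * x' * t * (x * x')⁻¹ * t⁻¹ =
        z * (x' * t * x'⁻¹ * t⁻¹) * (z * (x * t * x⁻¹ * t⁻¹)) := by
      have hzx : x * z = z * x := mem_cen.1 (rad_le_cen' hx)
      have h1 : x * (x' * t * x'⁻¹ * t⁻¹) = x' * t * x'⁻¹ * t⁻¹ * x := by
        have h2 : x * z * (x' * t * x'⁻¹ * t⁻¹) = z * (x' * t * x'⁻¹ * t⁻¹) * x := by
          rw [mul_assoc x z]; exact hc
        rw [hzx, mul_assoc z x, mul_assoc z _ x] at h2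
        exact mul_left_cancel h2
      have hzy' : x' * t * x'⁻¹ * t⁻¹ * z = z * (x' * t * x'⁻¹ * t⁻¹) :=
        mem_cen.1 (rad_le_cen' hy')
      calc x * x' * t * (x * x')⁻¹ * t⁻¹
          = (x * (x' * t * x'⁻¹ * t⁻¹)) * x⁻¹ * (x * t * x⁻¹ * t⁻¹) := by group
        _ = x' * t * x'⁻¹ * t⁻¹ * (x * t * x⁻¹ * t⁻¹) := by rw [h1]; group
        _ = x' * t * x'⁻¹ * t⁻¹ * (z * z) * (x * t * x⁻¹ * t⁻¹) := by rw [F.z_sq, mul_one]
        _ = z * (x' * t * x'⁻¹ * t⁻¹) * (z * (x * t * x⁻¹ * t⁻¹)) := by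
            rw [← hzy']; group
    have hin : x * x' * t * (x * x')⁻¹ * t⁻¹ ∈ radAt z g := by
      rw [hprod]; exact mul_mem (hxk b hb hb0) (hxk a ha ha0)
    have h1 := S.comm_trivial F (mul_mem hx hx') hin
    obtain ⟨-, hco⟩ := F.conj_co_mul S.mem (mul_mem hx hx')
    rw [h1, F.co_one', F.co_mul x hx x' hx', mv_xor'] at hco
    apply hab
    rw [← hxc a ha ha0, ← hxc b hb hb0]
    refine Nat.xor_eq_zero_iff.1 ?_
    rw [hco]
    simp [x, x', Nat.xor_assoc, Nat.xor_comm, Nat.xor_left_comm]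
  by_contra hbig
  rw [not_le] at hbig
  have pick : ∀ s : Finset ℕ, s.card ≤ 4 → ∃ c ∈ interSet F g, c ∉ s := by
    intro s hs
    by_contra h
    push Not at h
    have := Finset.card_le_card (fun c hc => h c hc : interSet F g ⊆ s)
    omega
  obtain ⟨a, ha, ha'⟩ := pick {0} (by simp)
  obtain ⟨b, hb, hb'⟩ := pick {0, a} (le_trans Finset.card_le_two (by norm_num))
  obtain ⟨c, hc, hc'⟩ := pick {0, a, b, a ^^^ b} Finset.card_le_four
  simp only [Finset.mem_insert, Finset.mem_singleton, not_or] at ha' hb' hc'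
  have hbc : b ^^^ c ∈ interSet F g := S.interSet_xor F hb hc
  have h3 := pair a ha (b ^^^ c) hbc ha'
    (fun h => hc'.2.2.1 (Nat.xor_eq_zero_iff.1 h).symm)
    (fun h => hc'.2.2.2 (by
      rw [h, Nat.xor_comm b c, Nat.xor_assoc, Nat.xor_self, Nat.xor_zero]))
  rw [bF_xor_right', pair a ha b hb ha' hb'.1 (Ne.symm hb'.2),
    pair a ha c hc ha' hc'.1 (Ne.symm hc'.2.1)] at h3
  simp at h3

end Stray

end CfsgLib.J4Type
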