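import Cfsg.Agent.Lib.J4Type.Frame

/-!
The data shared between the parts of the local analysis of the Janko-four type.

Vectors below `64` are the plane fixed by the upper radical; in it the vector `1` represents the
larger orbit of singular vectors (not fused to the central involution) and `5` the smaller one.
-/

set_option autoImplicit false

namespace CfsgLib.J4Type

open Cfsg

variable {G : Type*} [Group G] {z : G} {P : Subgroup G}

/-- The elementary abelian subgroup of order `2 ^ 11` attached to the frame. -/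
structure VData (F : Frame z P) where
  /-- The subgroup. -/
  V : Subgroup G
  elem : IsElementaryAbelian 2 V
  card : Nat.card V = 2 ^ 11
  le_cen : V ≤ Cen z
  z_mem : z ∈ V
  cent_le : Subgroup.centralizer (V : Set G) ≤ V
  unique : ∀ (T : Sylow 2 G) (A B : Subgroup G), A ≤ (T : Subgroup G) → B ≤ (T : Subgroup G) →
    IsElementaryAbelian 2 A → Nat.card A = 2 ^ 11 → IsElementaryAbelian 2 B →
    Nat.card B = 2 ^ 11 → A = B
  conj : ∀ A : Subgroup G, IsElementaryAbelian 2 A → Nat.card A = 2 ^ 11 →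
    ∃ g : G, A = V.map (MulAut.conj g).toMonoidHom
  rad : ∀ x ∈ Rad z, x ∈ V ↔ F.co x < 64
  norm_P : P ≤ Subgroup.normalizer (V : Set G)
  rad_le_norm : Rad z ≤ Subgroup.normalizer (V : Set G)
  mat_upper : ∀ v ∈ V, ∀ i, 6 ≤ i → i < 12 → mv (F.mat v) (2 ^ i) ^^^ 2 ^ i < 64
  upper : ∃ v ∈ V ⊓ Subgroup.centralizer (P : Set G), F.mat v = qU
  card_fixed : Nat.card ↥(V ⊓ Subgroup.centralizer (P : Set G)) = 32
  inner_invol : ∀ i ∈ CP z P, i * i = 1 → ∃ c ∈ CP z P, c * i * c⁻¹ ∈ V

/-- The fusion of the central involution seen in the radical and in the subgroup `V`. -/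
structure Fused {F : Frame z P} (D : VData F) : Prop where
  ne_isolated : ∃ u ∈ D.V, u ≠ z ∧ IsConj z u
  not_oval : ∀ x ∈ Rad z, F.co x = 1 → ¬ IsConj z x

/-- The outcome of the analysis of the normaliser of `V`. -/
structure Local {F : Frame z P} (D : VData F) : Prop where
  card_class : {v : G | v ∈ D.V ∧ IsConj z v}.ncard = 1771
  control : ∀ u ∈ D.V, IsConj z u →
    ∃ k ∈ Subgroup.normalizer (D.V : Set G), k * z * k⁻¹ = u
  z_derived : z ∈ ⁅CP z P, CP z P⁆
  klein : ∃ a b : G, a ∈ D.V ⊓ Subgroup.centralizer (P : Set G) ∧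
    b ∈ D.V ⊓ Subgroup.centralizer (P : Set G) ∧ a ≠ z ∧ b ≠ z ∧ a * b ≠ z ∧ a ≠ 1 ∧ b ≠ 1 ∧
    a ≠ b ∧ IsConj z a ∧ IsConj z b ∧ IsConj z (a * b)

end CfsgLib.J4Type
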