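import Mathlib

/-!
Coordinates for the module of the centraliser in the Janko-four type: vectors of length twelve over
the field of two elements are natural numbers below `4096`; a linear map is the list of the images
of the twelve basis vectors.
-/

set_option autoImplicit false

namespace CfsgLib.J4Type

/-- Application of a linear map to a vector. -/
def mv : List ℕ → ℕ → ℕ
  | [], _ => 0
  | a :: l, v => bif Nat.beq (v % 2) 1 then a ^^^ mv l (v / 2) else mv l (v / 2)

/-- Composition of linear maps. -/
def mm (a b : List ℕ) : List ℕ := b.map (mv a)

/-- The identity map. -/
def idM : List ℕ := (List.range 12).map fun i => 2 ^ i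

/-- One bit of a product of two coordinates. -/
def bb (v i j : ℕ) : Bool := v.testBit i && v.testBit j

/-- The quadratic form: three hyperbolic planes over the field of four elements, traced down. -/
def qF (v : ℕ) : Bool :=
  (bb v 0 7).xor ((bb v 1 6).xor ((bb v 2 9).xor ((bb v 3 8).xor ((bb v 4 11).xor (bb v 5 10)))))

/-- The alternating form polar to `qF`. -/
def bF (v w : ℕ) : Bool := (qF (v ^^^ w)).xor ((qF v).xor (qF w))

/-- An element of order three of the Levi part without fixed points on the upper radical as the images of the twelve basis vectors. -/
def kX : List ℕ :=
  [8, 12, 48, 16, 1, 2, 512, 768, 3072, 1024, 64, 128]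

/-- A first generator of the Levi part as the images of the twelve basis vectors. -/
def kA : List ℕ :=
  [16, 32, 45, 54, 63, 21, 1920, 2496, 640, 960, 384, 704]

/-- A second generator of the Levi part as the images of the twelve basis vectors. -/
def kB : List ℕ :=
  [30, 39, 1, 2, 32, 48, 768, 256, 576, 896, 2304, 3584]

/-- An element of the upper radical as the images of the twelve basis vectors. -/
def qU : List ℕ :=
  [1, 2, 4, 8, 16, 32, 64, 128, 260, 520, 1040, 2080]

/-- An element of the lower radical as the images of the twelve basis vectors. -/
def qL : List ℕ :=
  [1025, 2050, 1028, 2056, 336, 672, 64, 128, 256, 512, 1024, 2048]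

/-- The semilinear involution as the images of the twelve basis vectors. -/
def sig : List ℕ :=
  [1, 3, 4, 12, 16, 48, 64, 192, 256, 768, 1024, 3072]

/-- The scalar of order three as the images of the twelve basis vectors. -/
def pOm : List ℕ :=
  [2, 3, 8, 12, 32, 48, 128, 192, 512, 768, 2048, 3072]


/-- The generators of the group of the centraliser modulo its extraspecial radical. -/
def gensL : List (List ℕ) := [kX, kA, kB, qU, qL, sig]

/-- Membership in the group generated by `gensL`. -/
inductive InL : List ℕ → Prop
  | one : InL idM
  | mul {m : List ℕ} (g : List ℕ) : g ∈ gensL → InL m → InL (mm g m)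

/-- The linear part: membership in the group generated without the semilinear involution. -/
inductive InX : List ℕ → Prop
  | one : InX idM
  | mul {m : List ℕ} (g : List ℕ) : g ∈ [kX, kA, kB, qU, qL] → InX m → InX (mm g m)

/-- Membership in the Levi part. -/
inductive InK : List ℕ → Prop
  | one : InK idM
  | mul {m : List ℕ} (g : List ℕ) : g ∈ [kX, kA, kB] → InK m → InK (mm g m)

/-- Keeps the generated equations of `mv` in this module, for all users to share. -/
theorem mv_eq_def' : type_of% @mv.eq_def := @mv.eq_def

end CfsgLib.J4Type
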