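import Cfsg.Agent.Lib.J4Type.PlaneChecks

/-!
A spanning tree of the Cayley graph of the Sylow 2-subgroup of the model.
-/

set_option autoImplicit false
set_option maxRecDepth 4000

namespace CfsgLib.J4Type

/-- `(k, p, j)`: the member `k` is the generator `j` times the member `p`. -/
def sylTree : List (ℕ × ℕ × ℕ) :=
  [(32, 0, 0), (80, 0, 1), (96, 0, 2), (1, 0, 3), (8, 0, 4), (112, 32, 1), (64, 32, 2), (33, 32, 3),
   (40, 32, 4), (144, 80, 1), (48, 80, 2), (85, 80, 3), (92, 80, 4), (160, 96, 1), (102, 96, 3), (109, 96, 4),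
   (81, 1, 1), (97, 1, 2), (9, 1, 4), (44, 8, 0), (89, 8, 1), (110, 8, 2), (176, 112, 1), (16, 112, 2),
   (117, 112, 3), (124, 112, 4), (128, 64, 1), (70, 64, 3), (77, 64, 4), (113, 33, 1), (65, 33, 2), (41, 33, 4),
   (12, 40, 0), (121, 40, 1), (78, 40, 2), (192, 144, 1), (240, 144, 2), (150, 144, 3), (157, 144, 4), (52, 48, 3),
   (61, 48, 4), (149, 85, 1), (51, 85, 2), (123, 92, 0), (155, 92, 1), (59, 92, 2), (169, 160, 3), (164, 160, 4),
   (163, 102, 1), (5, 102, 2), (107, 102, 4), (74, 109, 0), (173, 109, 1), (11, 109, 2), (145, 81, 1), (49, 81, 2),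
   (84, 81, 3), (93, 81, 4), (161, 97, 1), (103, 97, 3), (108, 97, 4), (45, 9, 0), (88, 9, 1), (111, 9, 2),
   (126, 44, 1), (73, 44, 2), (36, 44, 4), (158, 89, 1), (56, 89, 2), (104, 110, 3), (99, 110, 4), (224, 176, 1),
   (208, 176, 2), (182, 176, 3), (189, 176, 4), (20, 16, 3), (29, 16, 4), (181, 117, 1), (19, 117, 2), (91, 124, 0),
   (187, 124, 1), (27, 124, 2), (137, 128, 3), (132, 128, 4), (131, 70, 1), (37, 70, 2), (75, 70, 4), (106, 77, 0),
   (141, 77, 1), (43, 77, 2), (177, 113, 1), (17, 113, 2), (116, 113, 3), (125, 113, 4), (129, 65, 1), (71, 65, 3),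
   (76, 65, 4), (13, 41, 0), (120, 41, 1), (79, 41, 2), (94, 12, 1), (105, 12, 2), (4, 12, 4), (190, 121, 1),
   (24, 121, 2), (72, 78, 3), (67, 78, 4), (200, 192, 3), (197, 192, 4), (241, 240, 3), (248, 240, 4), (194, 150, 1),
   (244, 150, 2), (186, 157, 0), (205, 157, 1), (250, 157, 2), (100, 52, 1), (82, 52, 2), (57, 52, 4), (26, 61, 0),
   (90, 61, 2), (203, 149, 1), (247, 149, 2), (147, 149, 3), (152, 149, 4), (55, 51, 3), (62, 51, 4), (188, 123, 1),
   (28, 123, 2), (119, 123, 4), (207, 155, 1), (254, 155, 2), (63, 59, 3), (54, 59, 4), (134, 164, 0), (249, 164, 1),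
   (196, 164, 2), (170, 163, 3), (167, 163, 4), (86, 5, 1), (174, 107, 1), (14, 107, 2), (143, 74, 1), (47, 74, 2),
   (10, 11, 3), (3, 11, 4), (193, 145, 1), (151, 145, 3), (156, 145, 4), (53, 49, 3), (60, 49, 4), (148, 84, 1),
   (50, 84, 2), (122, 93, 0), (154, 93, 1), (58, 93, 2), (168, 161, 3), (165, 161, 4), (162, 103, 1), (172, 108, 1),
   (127, 45, 1), (159, 88, 1), (98, 111, 4), (185, 126, 1), (31, 126, 2), (114, 126, 4), (68, 73, 4), (101, 104, 4),
   (232, 224, 3), (229, 224, 4), (209, 208, 3), (216, 208, 4), (226, 182, 1), (212, 182, 2), (237, 189, 1), (218, 189, 2),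
   (25, 20, 4), (235, 181, 1), (215, 181, 2), (179, 181, 3), (184, 181, 4), (23, 19, 3), (30, 19, 4), (87, 91, 4),
   (239, 187, 1), (222, 187, 2), (22, 27, 4), (166, 132, 0), (217, 132, 1), (228, 132, 2), (138, 131, 3), (135, 131, 4),
   (118, 37, 1), (142, 75, 1), (46, 75, 2), (175, 106, 1), (15, 106, 2), (42, 43, 3), (35, 43, 4), (225, 177, 1),
   (183, 177, 3), (21, 17, 3), (180, 116, 1), (18, 116, 2), (136, 129, 3), (133, 129, 4), (130, 71, 1), (140, 76, 1),
   (95, 13, 1), (191, 120, 1), (66, 79, 4), (153, 94, 1), (69, 72, 4), (7, 200, 1), (171, 200, 2), (230, 197, 0),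
   (221, 248, 0), (202, 194, 3), (199, 194, 4), (245, 244, 3), (252, 244, 4), (238, 186, 1), (223, 186, 2), (251, 250, 3),
   (242, 250, 4), (146, 82, 1), (195, 203, 3), (206, 203, 4), (246, 247, 3), (255, 247, 4), (201, 147, 1), (243, 147, 2),
   (198, 152, 1), (253, 152, 2), (236, 188, 1), (219, 188, 2), (220, 134, 1), (231, 134, 2), (204, 196, 3), (83, 86, 3),
   (6, 14, 4), (139, 143, 4), (39, 47, 4), (2, 10, 4), (115, 127, 4), (178, 114, 1), (234, 226, 3), (213, 212, 3),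
   (210, 218, 4), (227, 235, 3), (214, 215, 3), (233, 179, 1), (211, 179, 2), (38, 46, 4), (34, 42, 4)]

/-- The step of the spanning tree. -/
def treeStep (acc : List ℕ) (t : ℕ × ℕ × ℕ) : List ℕ :=
  bif acc.contains t.2.1 && Nat.blt t.2.2 sylWords.length &&
    mm (wordM (sylWords.getD t.2.2 [])) (sylList.getD t.2.1 idM) == sylList.getD t.1 idM
  then t.1 :: acc else acc

theorem sylTree_ok : (sylList.getD 0 idM == idM &&
    ((List.range 256).all fun k => (sylTree.foldl treeStep [0]).contains k) &&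
    Nat.beq sylList.length 256) = true := by
  decide +kernel

end CfsgLib.J4Type
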