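import Cfsg.Agent.Lib.J4Type.PlaneBase
import Cfsg.Agent.Lib.J4Type.PlaneChecks
import Cfsg.Agent.Lib.J4Type.PlaneTree

/-!
A Sylow 2-subgroup of the centraliser of the involution, as the preimage of the listed subgroup of
the group of matrices, and the fact that it is a Sylow 2-subgroup of the whole group.
-/

set_option autoImplicit false

namespace CfsgLib.J4Type

open Cfsg

theorem inL_wordM : ∀ {w : List ℕ}, wordOK w = true → InL (wordM w)
  | [], _ => InL.one
  | j :: w, h => by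
    simp only [wordOK, List.all_cons, Bool.and_eq_true] at h
    refine InL.mul _ ?_ (inL_wordM (w := w) h.2)
    have hj : j < gensL.length := Nat.le_of_ble_eq_true h.1
    rw [List.getD_eq_getElem?_getD, List.getElem?_eq_getElem hj, Option.getD_some]
    exact List.getElem_mem hj

theorem inX_wordM : ∀ {w : List ℕ}, linWordOK w = true → InX (wordM w)
  | [], _ => InX.one
  | j :: w, h => by
    simp only [linWordOK, List.all_cons, Bool.and_eq_true] at h
    refine InX.mul _ ?_ (inX_wordM (w := w) h.2)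
    have hj : j < 5 := Nat.le_of_ble_eq_true h.1
    interval_cases j <;> simp [gensL]

theorem sylWord_ok {j : ℕ} (hj : j < sylWords.length) :
    wordOK (sylWords.getD j []) = true ∧
      ∀ m ∈ sylList, mm (wordM (sylWords.getD j [])) m ∈ sylList := by
  have h := syl_closed
  simp only [Bool.and_eq_true, List.all_eq_true, List.contains_iff_mem] at h
  have hmem : sylWords.getD j [] ∈ sylWords := by
    rw [List.getD_eq_getElem?_getD, List.getElem?_eq_getElem hj, Option.getD_some]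
    exact List.getElem_mem hj
  exact h.2 _ hmem

/-- Induction over the spanning tree. -/
theorem syl_induction {motive : List ℕ → Prop} (one : motive idM)
    (step : ∀ j < sylWords.length, ∀ m ∈ sylList, motive m →
      motive (mm (wordM (sylWords.getD j [])) m)) :
    ∀ m ∈ sylList, motive m := by
  have h := sylTree_ok
  simp only [Bool.and_eq_true, List.all_eq_true, List.mem_range, List.contains_iff_mem,
    beq_iff_eq] at h
  obtain ⟨⟨h0, hall⟩, hlen⟩ := h
  have key : ∀ (l : List (ℕ × ℕ × ℕ)) (acc : List ℕ),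
      (∀ k ∈ acc, motive (sylList.getD k idM) ∧ sylList.getD k idM ∈ sylList) →
      ∀ k ∈ l.foldl treeStep acc, motive (sylList.getD k idM) := by
    intro l
    induction l with
    | nil => exact fun acc hacc k hk => (hacc k hk).1
    | cons t l ih =>
      intro acc hacc
      refine ih (treeStep acc t) ?_
      intro k hk
      simp only [treeStep] at hk
      cases hc : (acc.contains t.2.1 && Nat.blt t.2.2 sylWords.length &&
          mm (wordM (sylWords.getD t.2.2 [])) (sylList.getD t.2.1 idM) == sylList.getD t.1 idM)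
      · rw [hc] at hk
        exact hacc k hk
      · rw [hc] at hk
        rcases List.mem_cons.1 hk with rfl | hk
        · simp only [Bool.and_eq_true, List.contains_iff_mem, beq_iff_eq] at hc
          obtain ⟨⟨hp, hj⟩, he⟩ := hc
          have hj' : t.2.2 < sylWords.length := Nat.le_of_ble_eq_true hj
          rw [← he]
          exact ⟨step _ hj' _ (hacc _ hp).2 (hacc _ hp).1,
            (sylWord_ok hj').2 _ (hacc _ hp).2⟩
        · exact hacc k hk
  have h0mem : idM ∈ sylList := by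
    have h := syl_closed
    simp only [Bool.and_eq_true, List.contains_iff_mem] at h
    exact h.1
  intro m hm
  obtain ⟨k, hk, rfl⟩ := List.getElem_of_mem hm
  have := key sylTree [0] (fun k hk => by
    rw [List.mem_singleton] at hk
    subst hk
    rw [h0]
    exact ⟨one, h0mem⟩) k (hall k ((Nat.eq_of_beq_eq_true hlen) ▸ hk))
  rwa [List.getD_eq_getElem?_getD, List.getElem?_eq_getElem hk, Option.getD_some] at this

theorem sylList_inL : ∀ m ∈ sylList, InL m :=
  syl_induction InL.one fun j hj m _ hm => by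
    have hw := inL_wordM (sylWord_ok hj).1
    generalize wordM (sylWords.getD j []) = w at hw ⊢
    induction hw with
    | one => rwa [mm_idM' hm.good]
    | mul g hg _ ih => rw [mm_assoc']; exact InL.mul g hg ih

theorem idM_mem_syl : idM ∈ sylList := by
  have h := syl_closed
  simp only [Bool.and_eq_true, List.contains_iff_mem] at h
  exact h.1

theorem mm_mem_syl {a b : List ℕ} (ha : a ∈ sylList) (hb : b ∈ sylList) :
    mm a b ∈ sylList := by
  refine syl_induction (motive := fun a => ∀ b, b ∈ sylList → mm a b ∈ sylList) ?_ ?_ a ha b hb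
  · intro b hb
    rwa [mm_idM' (sylList_inL b hb).good]
  · intro j hj m _ hm b hb
    rw [mm_assoc']
    exact (sylWord_ok hj).2 _ (hm b hb)

theorem exists_pairing {v : ℕ} (hv : v ≠ 0) (hlt : v < 4096) :
    ∃ w < 4096, bF v w = true := by
  have h : ((List.range 4096).all fun v => Nat.beq v 0 ||
      (List.range 12).any fun i => bF v (2 ^ i)) = true := by decide +kernel
  simp only [List.all_eq_true, List.mem_range, Bool.or_eq_true, List.any_eq_true] at h
  rcases h v hlt with h | ⟨i, hi, h⟩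
  · exact absurd (Nat.eq_of_beq_eq_true h) hv
  · exact ⟨2 ^ i, lt_of_lt_of_le (Nat.pow_lt_pow_right one_lt_two hi) (le_refl 4096), h⟩

variable {G : Type*} [Group G] [Finite G] {z : G} {P : Subgroup G}

namespace Frame

variable (F : Frame z P)
include F

/-- The preimage of the listed Sylow 2-subgroup, as a submonoid. -/
def T₀' : Submonoid G where
  carrier := {h | h ∈ Cen z ∧ F.mat h ∈ sylList}
  one_mem' := ⟨one_mem _, by rw [F.mat_one']; exact idM_mem_syl⟩
  mul_mem' := fun {a b} ha hb => ⟨mul_mem ha.1 hb.1, by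
    rw [F.mat_mul a ha.1 b hb.1]; exact mm_mem_syl ha.2 hb.2⟩

/-- The preimage of the listed Sylow 2-subgroup. -/
def T₀ : Subgroup G where
  toSubmonoid := F.T₀'
  inv_mem' := fun {x} hx => by
    have h : x⁻¹ ∈ Submonoid.powers x := by
      refine ⟨orderOf x - 1, eq_inv_of_mul_eq_one_left ?_⟩
      rw [← pow_succ, Nat.sub_add_cancel (orderOf_pos x), pow_orderOf_eq_one]
    exact (Submonoid.powers_le.2 hx) h

theorem mem_T₀ {h : G} : h ∈ F.T₀ ↔ h ∈ Cen z ∧ F.mat h ∈ sylList := Iff.rfl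

theorem rad_le_T₀ : Rad z ≤ F.T₀ := fun x hx =>
  F.mem_T₀.2 ⟨rad_le_cen' hx, by rw [F.mat_rad hx]; exact idM_mem_syl⟩

theorem T₀_le_cen : F.T₀ ≤ Cen z := fun _ hx => hx.1

theorem card_T₀ : Nat.card F.T₀ = 2 ^ 21 := by
  classical
  have hlift : ∀ m : {m // m ∈ sylList}, ∃ h ∈ Cen z, F.mat h = m.1 := fun m => by
    obtain ⟨h, hh, e⟩ := F.mat_surj m.1 (sylList_inL m.1 m.2)
    exact ⟨h, (Subgroup.mem_inf.1 hh).1, e⟩
  choose σ hσc hσm using hlift
  let f : {m // m ∈ sylList} × Rad z → F.T₀ := fun p =>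
    ⟨σ p.1 * p.2.1, F.mem_T₀.2 ⟨mul_mem (hσc _) (rad_le_cen' p.2.2), by
      rw [F.mat_mul _ (hσc _) _ (rad_le_cen' p.2.2), F.mat_rad p.2.2,
        mm_idM_right (F.good_mat (hσc _)), hσm]
      exact p.1.2⟩⟩
  have hf : Function.Bijective f := by
    constructor
    · rintro ⟨m, x⟩ ⟨n, y⟩ h
      have h' : σ m * x.1 = σ n * y.1 := congrArg Subtype.val h
      have hmn : m = n := by
        have := congrArg F.mat h'
        rw [F.mat_mul _ (hσc _) _ (rad_le_cen' x.2), F.mat_mul _ (hσc _) _ (rad_le_cen' y.2),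
          F.mat_rad x.2, F.mat_rad y.2, mm_idM_right (F.good_mat (hσc _)),
          mm_idM_right (F.good_mat (hσc _)), hσm, hσm] at this
        exact Subtype.ext this
      subst hmn
      rw [Prod.mk.injEq]
      exact ⟨rfl, Subtype.ext (mul_left_cancel h')⟩
    · rintro ⟨h, hh⟩
      obtain ⟨hc, hm⟩ := F.mem_T₀.1 hh
      have hx : (σ ⟨F.mat h, hm⟩)⁻¹ * h ∈ Rad z :=
        (F.mat_eq_iff (hσc _) hc).1 (hσm _)
      exact ⟨(⟨F.mat h, hm⟩, ⟨_, hx⟩), Subtype.ext (mul_inv_cancel_left _ _)⟩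
  rw [← Nat.card_eq_of_bijective f hf, Nat.card_prod, F.card_rad]
  have : Nat.card {m // m ∈ sylList} = 256 := by
    rw [← Nat.card_congr (Equiv.subtypeEquivRight (p := fun m => m ∈ sylList.toFinset)
      (q := fun m => m ∈ sylList) fun m => List.mem_toFinset), Nat.card_eq_finsetCard,
      List.toFinset_card_of_nodup syl_nodup]
    have h := sylTree_ok
    generalize sylList.length = n at h ⊢
    rw [Bool.and_eq_true] at h
    exact Nat.eq_of_beq_eq_true h.2
  rw [this]
  norm_num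

theorem isPGroup_T₀ : IsPGroup 2 F.T₀ := IsPGroup.of_card F.card_T₀

/-- A 2-subgroup of the centraliser is moved into `T₀` by an element of `N_H(P)`. -/
theorem exists_conj_T₀ {K : Subgroup G} (hK : K ≤ Cen z) (hp : IsPGroup 2 K) :
    ∃ h ∈ Cen z ⊓ Subgroup.normalizer (P : Set G), ∀ k ∈ K, h * k * h⁻¹ ∈ F.T₀ := by
  classical
  have : Fact (Nat.Prime 2) := ⟨Nat.prime_two⟩
  let S : Sylow 2 (Cen z) := Sylow.ofCard (F.T₀.subgroupOf (Cen z)) (by
    rw [Nat.card_congr (Subgroup.subgroupOfEquivOfLe F.T₀_le_cen).toEquiv, F.card_T₀, F.card_cen]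
    congr 1
    rw [show 2 ^ 13 * 3 * 887040 = 2 ^ 21 * 10395 by norm_num,
      Nat.factorization_mul (by norm_num) (by norm_num), Finsupp.add_apply,
      Nat.Prime.factorization_pow Nat.prime_two, Finsupp.single_eq_same,
      Nat.factorization_eq_zero_of_not_dvd (by norm_num : ¬ (2 ∣ 10395))])
  obtain ⟨S', hS'⟩ := IsPGroup.exists_le_sylow
    (hp.comap_of_injective (Cen z).subtype Subtype.val_injective : IsPGroup 2 (K.comap (Cen z).subtype))
  obtain ⟨g, hg⟩ := MulAction.exists_smul_eq (Cen z) S' S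
  obtain ⟨h, hh, hm⟩ := F.mat_surj (F.mat g.1) (F.mat_inL g.1 g.2)
  have hhc : h ∈ Cen z := (Subgroup.mem_inf.1 hh).1
  refine ⟨h, hh, fun k hk => ?_⟩
  have hkc := hK hk
  have h1 : g * ⟨k, hkc⟩ * g⁻¹ ∈ (S : Subgroup (Cen z)) := by
    rw [← hg, Sylow.smul_def]
    exact ⟨⟨k, hkc⟩, hS' hk, by simp⟩
  have h2 : g.1 * k * g.1⁻¹ ∈ F.T₀ := h1
  have hr : g.1⁻¹ * h ∈ Rad z := (F.mat_eq_iff g.2 hhc).1 hm.symm
  have hr' : h * g.1⁻¹ ∈ Rad z := by
    have := conj_rad g.2 hr
    rwa [mul_inv_cancel_left] at this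
  have : h * k * h⁻¹ = h * g.1⁻¹ * (g.1 * k * g.1⁻¹) * (h * g.1⁻¹)⁻¹ := by group
  rw [this]
  exact mul_mem (mul_mem (F.rad_le_T₀ hr') h2) (inv_mem (F.rad_le_T₀ hr'))

theorem eq_z_of_central {x : G} (hx : x ∈ F.T₀) (hc : ∀ t ∈ F.T₀, t * x = x * t) (h1 : x ≠ 1) :
    x = z := by
  have hxr : x ∈ Rad z := F.rad_cent (Subgroup.mem_inf.2 ⟨F.T₀_le_cen hx,
    Subgroup.mem_centralizer_iff.2 fun e he => hc e (F.rad_le_T₀ he)⟩)
  by_contra hne
  have hv : F.co x ≠ 0 := fun h0 => hne (((F.co_eq_zero x hxr).1 h0).resolve_left h1)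
  obtain ⟨w, hw, hb⟩ := exists_pairing hv (F.co_lt x hxr)
  obtain ⟨y, hy, rfl⟩ := F.co_surj w hw
  have := (F.comm_iff hxr hy).1 (hc y (F.rad_le_T₀ hy)).symm
  rw [hb] at this
  exact Bool.noConfusion this

/-- `T₀` is a Sylow 2-subgroup of the group. -/
theorem exists_sylow_T₀ : ∃ S : Sylow 2 G, (S : Subgroup G) = F.T₀ := by
  classical
  have : Fact (Nat.Prime 2) := ⟨Nat.prime_two⟩
  obtain ⟨S, hS⟩ := F.isPGroup_T₀.exists_le_sylow
  refine ⟨S, (eq_of_le_of_not_lt hS fun hlt => ?_).symm⟩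
  have hne : (F.T₀.subgroupOf (S : Subgroup G)) < ⊤ := by
    rw [lt_top_iff_ne_top, Ne, Subgroup.subgroupOf_eq_top]
    exact not_le_of_gt hlt
  have hn : (F.T₀.subgroupOf (S : Subgroup G)) < Subgroup.normalizer
      (F.T₀.subgroupOf (S : Subgroup G) : Set (S : Subgroup G)) := by
    have := S.isPGroup'.isNilpotent
    exact Group.normalizerCondition_of_isNilpotent (G := (S : Subgroup G)) _ hne
  obtain ⟨g, hgN, hgT⟩ := SetLike.exists_of_lt hn
  have hnorm : ∀ t ∈ F.T₀, (g : G) * t * (g : G)⁻¹ ∈ F.T₀ := fun t ht =>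
    (Subgroup.mem_normalizer_iff.1 hgN ⟨t, hS ht⟩).1 ht
  have hnorm' : ∀ t ∈ F.T₀, (g : G)⁻¹ * t * (g : G) ∈ F.T₀ := by
    intro t ht
    have := (Subgroup.mem_normalizer_iff.1 (inv_mem hgN) ⟨t, hS ht⟩).1 ht
    simpa [Subgroup.mem_subgroupOf] using this
  have hz : (g : G) * z * (g : G)⁻¹ = z := by
    refine F.eq_z_of_central (hnorm z (F.rad_le_T₀ F.z_mem_rad')) (fun t ht => ?_) ?_
    · have h1 : ((g : G)⁻¹ * t * g) * z = z * ((g : G)⁻¹ * t * g) :=
        mem_cen.1 (F.T₀_le_cen (hnorm' t ht))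
      calc t * ((g : G) * z * (g : G)⁻¹) = g * (((g : G)⁻¹ * t * g) * z) * (g : G)⁻¹ := by group
        _ = g * (z * ((g : G)⁻¹ * t * g)) * (g : G)⁻¹ := by rw [h1]
        _ = (g : G) * z * (g : G)⁻¹ * t := by group
    · intro he
      exact F.z_ne_one (conj_eq_one_iff.1 he)
  have hgc : (g : G) ∈ Cen z := mem_cen.2 (mul_inv_eq_iff_eq_mul.1 hz)
  have hle : F.T₀ ⊔ Subgroup.zpowers (g : G) ≤ Cen z ⊓ (S : Subgroup G) :=
    sup_le (le_inf F.T₀_le_cen hS) (Subgroup.zpowers_le.2 ⟨hgc, g.2⟩)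
  set K := Cen z ⊓ (S : Subgroup G) with hK
  obtain ⟨h, hh, hmap⟩ := F.exists_conj_T₀ (K := K) inf_le_left
    (S.isPGroup'.to_le inf_le_right)
  have hcard : Nat.card (K.map (MulAut.conj h).toMonoidHom) ≤ Nat.card F.T₀ :=
    Nat.le_of_dvd Nat.card_pos (Subgroup.card_dvd_of_le (by
      rintro _ ⟨k, hk, rfl⟩
      exact hmap k hk))
  rw [Nat.card_congr (K.equivMapOfInjective _ (MulAut.conj h).injective).toEquiv.symm] at hcard
  have := Subgroup.eq_of_le_of_card_ge (le_trans le_sup_left hle) hcard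
  exact hgT (by
    show (g : G) ∈ F.T₀
    rw [this]
    exact hle (Subgroup.mem_sup_right (Subgroup.mem_zpowers _)))

end Frame

end CfsgLib.J4Type
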